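import Groth.Prelude.Def_Curv2
import Groth.Agent.PointBlowUp.TwoChart
import Groth.Agent.BlowUpBasics.SheafOf

/-!
The exceptional fibre of the point blow-up of a two dimensional regular local ring is an irreducible curve.
-/

set_option autoImplicit false
universe u

open CategoryTheory AlgebraicGeometry IsLocalRing Groth.BlowUpBasics
open Groth.PointBlowUp

namespace Groth.ResolveSurf.PointFibre

variable {A : Type u} [CommRing A] [IsLocalRing A] {X : Scheme.{u}} (b : X ⟶ Spec (CommRingCat.of A))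

/-- Points over the closed point in an affine open. -/
theorem apply_fromSpec_eq_closedPoint_iff {U : X.Opens} (hU : IsAffineOpen U) (P : PrimeSpectrum Γ(X, U)) :
    b (hU.fromSpec P) = closedPoint A ↔ (maximalIdeal A).map (phi b U) ≤ P.asIdeal := by
  have h : b (hU.fromSpec P) = PrimeSpectrum.comap (phi b U) P := congr($(fromSpec_comp b hU) P)
  rw [h, Ideal.map_le_iff_le_comap]
  refine ⟨fun e => (congrArg PrimeSpectrum.asIdeal e).ge, fun e => PrimeSpectrum.ext ?_⟩
  exact ((maximalIdeal.isMaximal A).eq_of_le (Ideal.IsPrime.ne_top (PrimeSpectrum.comap (phi b U) P).2) e).symm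

/-- An affine open meeting the fibre in an affine line. -/
structure LineChart where
  U : X.Opens
  hU : IsAffineOpen U
  isPrime : ((maximalIdeal A).map (phi b U)).IsPrime
  isMaximal : ∀ P : Ideal Γ(X, U), P.IsPrime → (maximalIdeal A).map (phi b U) < P → P.IsMaximal

variable {b}

/-- The generic point of the line. -/
noncomputable def LineChart.η (C : LineChart b) : X := C.hU.fromSpec ⟨_, C.isPrime⟩

theorem LineChart.η_mem (C : LineChart b) : C.η ∈ C.U := C.hU.range_fromSpec.le ⟨_, rfl⟩

theorem LineChart.apply_η (C : LineChart b) : b C.η = closedPoint A :=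
  (apply_fromSpec_eq_closedPoint_iff b C.hU _).2 le_rfl

theorem LineChart.η_specializes (C : LineChart b) {z : X} (hz : z ∈ C.U) (hzb : b z = closedPoint A) :
    C.η ⤳ z := by
  obtain ⟨P, rfl⟩ := C.hU.range_fromSpec.ge hz
  refine Specializes.map ?_ C.hU.fromSpec.continuous
  exact (PrimeSpectrum.le_iff_specializes _ _).1 ((apply_fromSpec_eq_closedPoint_iff b C.hU P).1 hzb)

theorem LineChart.eq_or_eq (C : LineChart b) {z z' : X} (hz' : z' ∈ C.U) (h : z ⤳ z')
    (hzb : b z = closedPoint A) : z = C.η ∨ z = z' := by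
  obtain ⟨P, rfl⟩ := C.hU.range_fromSpec.ge (h.mem_open C.U.2 hz')
  obtain ⟨P', rfl⟩ := C.hU.range_fromSpec.ge hz'
  have hP := (apply_fromSpec_eq_closedPoint_iff b C.hU P).1 hzb
  have hPP : P.asIdeal ≤ P'.asIdeal :=
    (PrimeSpectrum.le_iff_specializes P P').2 (C.hU.fromSpec.isEmbedding.isInducing.specializes_iff.1 h)
  rcases hP.lt_or_eq with hlt | heq
  · exact Or.inr (congrArg C.hU.fromSpec
      (PrimeSpectrum.ext ((C.isMaximal _ P.2 hlt).eq_of_le P'.2.ne_top hPP)))
  · exact Or.inl (congrArg C.hU.fromSpec (PrimeSpectrum.ext heq.symm : P = ⟨_, C.isPrime⟩))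

theorem LineChart.η_eq (C D : LineChart b) (h : C.η ∈ D.U) (h' : D.η ∈ C.U) : C.η = D.η :=
  (C.η_specializes h' D.apply_η).antisymm (D.η_specializes h C.apply_η) |>.eq

variable (b) in
/-- The chart at a parameter. -/
theorem exists_lineChart [IsRegularLocalRing A] {hA : ringKrullDim A = 2}
    (T : Atlas (maximalIdeal A) b) {x y : A} (h : Param hA x y) :
    ∃ C : LineChart b, C.U = chartOpen T ⟨x, h.mem_left⟩ ∧
      C.η ∈ chartOpen T ⟨y, h.mem_right⟩ := by
  let c : maximalIdeal A := ⟨x, h.mem_left⟩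
  have hbij := chartHom_bijective T c
  let e := RingEquiv.ofBijective _ hbij
  have hJ : (maximalIdeal A).map (phi b (chartOpen T c)) =
      (Ideal.span {algebraMap A (Chart x) x}).map (chartHom T c) := by
    rw [phi_chartOpen, ← Ideal.map_map]
    exact congrArg (Ideal.map (chartHom T c)) (map_eq_span h.mem_left)
  let q : Γ(X, chartOpen T c) →+* Polynomial (ResidueField A) :=
    h.excEquiv.toRingHom.comp ((Ideal.Quotient.mk _).comp e.symm.toRingHom)
  have hq : Function.Surjective q :=
    h.excEquiv.surjective.comp (Ideal.Quotient.mk_surjective.comp e.symm.surjective)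
  have hker : RingHom.ker q = (maximalIdeal A).map (phi b (chartOpen T c)) := by
    ext s
    obtain ⟨t, rfl⟩ := hbij.2 s
    have ht : e.symm (chartHom T c t) = t := e.symm_apply_apply t
    rw [RingHom.mem_ker, hJ]
    show h.excEquiv (Ideal.Quotient.mk _ (e.symm (chartHom T c t))) = 0 ↔ _
    rw [ht, map_eq_zero_iff _ h.excEquiv.injective, Ideal.Quotient.eq_zero_iff_mem]
    refine ⟨fun hm => Ideal.mem_map_of_mem _ hm, fun hm => ?_⟩
    obtain ⟨t', ht', he⟩ := (Ideal.mem_map_iff_of_surjective _ hbij.2).1 hm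
    exact hbij.1 he ▸ ht'
  have hprime : ((maximalIdeal A).map (phi b (chartOpen T c))).IsPrime := hker ▸ RingHom.ker_isPrime q
  let C : LineChart b := ⟨chartOpen T c, (isAffineOpen_top _).image_of_isOpenImmersion _, hprime, fun P hP hlt => by
    have hle : RingHom.ker q ≤ P := hker ▸ hlt.le
    have : (P.map q).IsPrime := Ideal.map_isPrime_of_surjective hq hle
    have hne : P.map q ≠ ⊥ := fun h0 => hlt.ne (le_antisymm hlt.le (hker ▸ (Ideal.map_eq_bot_iff_le_ker q).1 h0))
    have := Ideal.IsPrime.isMaximal this hne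
    rw [← show (P.map q).comap q = P by
      rw [Ideal.comap_map_of_surjective q hq, ← RingHom.ker_eq_comap_bot, sup_eq_left.2 hle]]
    exact Ideal.comap_isMaximal_of_surjective q hq⟩
  refine ⟨C, rfl, basicOpen_chartHom_le T c ⟨y, h.mem_right⟩ ?_⟩
  have hmem : C.η ∈ C.hU.fromSpec ''ᵁ (PrimeSpectrum.basicOpen
      (chartHom T c (Groth.BlowUpBasics.frac (maximalIdeal A) x y h.mem_right))) := by
    refine ⟨_, fun hm => ?_, rfl⟩
    have hm : h.excEquiv (Ideal.Quotient.mk _ (e.symm (chartHom T c h.T))) = 0 :=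
      RingHom.mem_ker.1 (hker.ge hm)
    rw [show e.symm (chartHom T c h.T) = h.T from e.symm_apply_apply _,
      show h.T = Polynomial.aeval h.T (Polynomial.X : Polynomial A) from (Polynomial.aeval_X _).symm,
      h.excEquiv_mk, Polynomial.map_X] at hm
    exact Polynomial.X_ne_zero hm
  rwa [IsAffineOpen.fromSpec_image_basicOpen] at hmem

/-- The exceptional fibre is irreducible and one dimensional. -/
theorem exists_generic [IsRegularLocalRing A] (hA : ringKrullDim A = 2)
    (hb : BlowUp.IsBlowUp b (sheafOf (maximalIdeal A))) :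
    ∃ η : X, b η = closedPoint A ∧ (∀ z, b z = closedPoint A → η ⤳ z) ∧
      ∀ z z', b z = closedPoint A → b z' = closedPoint A → z ⤳ z' → z = η ∨ z = z' := by
  obtain ⟨T⟩ := nonempty_atlas_of_isBlowUp hb
  obtain ⟨x, y, h⟩ := exists_param (hA := hA) (A := A)
  obtain ⟨C, hC, hCη⟩ := exists_lineChart b T h
  obtain ⟨D, hD, hDη⟩ := exists_lineChart b T h.symm
  have heq : C.η = D.η := C.η_eq D (hD ▸ hCη) (hC ▸ hDη)
  have hcov : ∀ z : X, z ∈ C.U ∨ z ∈ D.U := fun z => by
    rw [hC, hD]
    exact (sup_chartOpen_eq_top T h.span_eq h.mem_left h.mem_right).ge (Set.mem_univ z)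
  refine ⟨C.η, C.apply_η, fun z hz => ?_, fun z z' hz _ hzz => ?_⟩
  · rcases hcov z with hU | hU
    · exact C.η_specializes hU hz
    · exact heq ▸ D.η_specializes hU hz
  · rcases hcov z' with hU | hU
    · exact C.eq_or_eq hU hzz hz
    · exact heq ▸ D.eq_or_eq hU hzz hz

end Groth.ResolveSurf.PointFibre
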