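import Groth.Prelude.Def_ModelsG
import Groth.Agent.ResolveSurf.PointBlowUpFibre
import Groth.Agent.HTopHyper.BlowUpProper
import Groth.Agent.Divisors.BlowUpBasic
import Groth.Agent.HensPair.SteinNormalization
import Groth.Agent.Ega4Algebra2.NormalRingBasic
import Groth.Agent.AlgGrp1.PushIso
import Groth.Agent.S2348

/-!
Blowing up a closed point with two dimensional regular local ring: `b_* O = O` and the fibre over the point.
-/

set_option autoImplicit false
universe u

open CategoryTheory CategoryTheory.Limits AlgebraicGeometry TopologicalSpace Polynomial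
open Groth.BlowUpBasics

namespace Groth.ResolveSurf.PointContraction

variable {X X' : Scheme.{u}}

/-- Sections of an open integral subscheme are determined on nonempty smaller opens. -/
theorem restrict_injective {V W : X.Opens} [IsIntegral (V : Scheme.{u})] (h : W ≤ V)
    (hW : (W : Set X).Nonempty) : Function.Injective (X.presheaf.map (homOfLE h).op) := by
  have hW' : ((V.ι ⁻¹ᵁ W : V.toScheme.Opens) : Set V.toScheme).Nonempty := by
    obtain ⟨x, hx⟩ := hW
    exact ⟨⟨x, h hx⟩, hx⟩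
  have : Nonempty (V.ι ⁻¹ᵁ W : V.toScheme.Opens) := hW'.to_subtype
  have h1 : Function.Injective (V.toScheme.presheaf.map (homOfLE (le_top : V.ι ⁻¹ᵁ W ≤ ⊤)).op) :=
    map_injective_of_isIntegral V.toScheme _
  intro s t hst
  have key : ∀ r : Γ(X, V), V.toScheme.presheaf.map (homOfLE (le_top : V.ι ⁻¹ᵁ W ≤ ⊤)).op
      (V.ι.appLE V ⊤ (by simp) r) = V.ι.app W (X.presheaf.map (homOfLE h).op r) := by
    intro r
    simp only [← ConcreteCategory.comp_apply]
    congr 2
    rw [Scheme.Hom.appLE_map, Scheme.Hom.app_eq_appLE, Scheme.Hom.map_appLE]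
  have h2 := h1 ((key s).trans ((congrArg _ hst).trans (key t).symm))
  have hiso : Function.Bijective (V.ι.appLE V ⊤ (by simp)) := by
    rw [Scheme.Opens.ι_appLE]
    exact ConcreteCategory.bijective_of_isIso (X.presheaf.map (eqToHom V.ι_image_top).op)
  exact hiso.1 h2

/-- Functions over an open where the map is an isomorphism. -/
theorem isIso_app_of_isIso_restrict (b : X ⟶ X') (W : X'.Opens) [IsIso (b ∣_ W)] : IsIso (b.app W) := by
  have h1 : IsIso ((b ∣_ W).app ⊤) := inferInstance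
  rw [morphismRestrict_app] at h1
  have h2 : IsIso (b.app (W.ι ''ᵁ ⊤)) :=
    @IsIso.of_isIso_comp_right _ _ _ _ _ _
      (X.presheaf.map (eqToHom (image_morphismRestrict_preimage b W ⊤)).op) inferInstance h1
  rwa [Scheme.Opens.ι_image_top] at h2

/-- A point with a domain as local ring has an affine integral neighbourhood. -/
theorem exists_integral_nhd [IsLocallyNoetherian X'] (y : X') [IsDomain (X'.presheaf.stalk y)] :
    ∃ U : X'.Opens, y ∈ U ∧ IsIntegral (U : Scheme.{u}) := by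
  obtain ⟨U, hy, hU, hinj⟩ := X'.exists_germ_injective y
  have : IsDomain Γ(X', U) := hinj.isDomain (X'.presheaf.germ U y hy).hom
  have : Nonempty ↥(U : Scheme.{u}) := ⟨⟨y, hy⟩⟩
  exact ⟨U, hy, isIntegral_of_isOpenImmersion hU.isoSpec.hom⟩

variable {b : X ⟶ X'} {y : X'} {hy : IsClosed ({y} : Set X')}

theorem isIso_restrict (hb : BlowUp.IsBlowUp b (Scheme.IdealSheafData.vanishingIdeal ⟨{y}, hy⟩))
    {W : X'.Opens} (hW : y ∉ W) : IsIso (b ∣_ W) := by
  refine Groth.BlowUpBasics.isIso_morphismRestrict hb W ?_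
  rw [Scheme.IdealSheafData.coe_support_vanishingIdeal]
  exact Set.disjoint_singleton_left.2 hW

/-- `b_* O = O` on affine neighbourhoods of the point. -/
theorem isIso_app (hb : BlowUp.IsBlowUp b (Scheme.IdealSheafData.vanishingIdeal ⟨{y}, hy⟩))
    [UniversallyClosed b] [IsSeparated b] [IsDomain (X'.presheaf.stalk y)]
    [IsIntegrallyClosed (X'.presheaf.stalk y)] {B : X'.Opens} (hB : IsAffineOpen B) (hyB : y ∈ B)
    [IsIntegral (B : Scheme.{u})] (hne : ∃ z ∈ B, z ≠ y) : IsIso (b.app B) := by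
  let 𝓘 := Scheme.IdealSheafData.vanishingIdeal (⟨{y}, hy⟩ : Closeds X')
  let W : X'.Opens := B ⊓ ⟨({y} : Set X')ᶜ, hy.isOpen_compl⟩
  have hWB : W ≤ B := inf_le_left
  have hWne : (W : Set X').Nonempty := by
    obtain ⟨z, hz, hzy⟩ := hne
    exact ⟨z, hz, hzy⟩
  have : IsIso (b ∣_ W) := isIso_restrict hb fun h => h.2 rfl
  have hiso : IsIso (b.app W) := isIso_app_of_isIso_restrict b W
  -- the blow-up over `B` is integral
  have hI : 𝓘.comap B.ι ≠ ⊥ := by
    intro h0
    obtain ⟨z, hz, hzy⟩ := hne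
    have h := congrArg (fun J : B.toScheme.IdealSheafData => (J.support : Set B.toScheme)) h0
    simp only [Scheme.IdealSheafData.support_comap] at h
    have hz' : (⟨z, hz⟩ : B.toScheme) ∈ (B.ι ⁻¹' ((𝓘.support : Set X'))) := by
      rw [show (B.ι ⁻¹' (𝓘.support : Set X')) = _ from h, Scheme.IdealSheafData.support_bot]
      trivial
    rw [Scheme.IdealSheafData.coe_support_vanishingIdeal] at hz'
    exact hzy hz'
  have : IsIntegral ((b ⁻¹ᵁ B : X.Opens) : Scheme.{u}) := by
    obtain ⟨hint, -⟩ := Groth.Agent.S2348.result (𝓘.comap B.ι) hI _ (Groth.Divisors.isBlowUp_flat_pullback B.ι hb)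
    let e := (pullbackSymmetry B.ι b) ≪≫ pullbackRestrictIsoRestrict b B
    have : Nonempty ↥((b ⁻¹ᵁ B : X.Opens) : Scheme.{u}) := ⟨e.hom (genericPoint _)⟩
    exact isIntegral_of_isOpenImmersion e.inv
  have hWX : ((b ⁻¹ᵁ W : X.Opens) : Set X).Nonempty := by
    obtain ⟨z, hz⟩ := hWne
    obtain ⟨x, hx⟩ := (b ∣_ W).homeomorph.surjective ⟨z, hz⟩
    exact ⟨x.1, x.2⟩
  have hres' := restrict_injective (X := X) (b.preimage_mono hWB) hWX
  have hres := restrict_injective (X := X') hWB hWne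
  have hnat : ∀ r, X.presheaf.map (homOfLE (b.preimage_mono hWB)).op (b.app B r) =
      b.app W (X'.presheaf.map (homOfLE hWB).op r) := fun r => by
    simp only [← ConcreteCategory.comp_apply]
    congr 2
    rw [Scheme.Hom.naturality]
    rfl
  have hbij := ConcreteCategory.bijective_of_isIso (b.app W)
  rw [ConcreteCategory.isIso_iff_bijective]
  refine ⟨fun r r' h => hres (hbij.1 (by rw [← hnat, ← hnat, h])), fun s => ?_⟩
  obtain ⟨t, ht⟩ := hbij.2 (X.presheaf.map (homOfLE (b.preimage_mono hWB)).op s)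
  suffices h : t ∈ Set.range (X'.presheaf.map (homOfLE hWB).op) by
    obtain ⟨r, rfl⟩ := h
    exact ⟨r, hres' (by rw [hnat, ht])⟩
  -- `t` is integral over the functions on `B`
  let ρ := (X'.presheaf.map (homOfLE hWB).op).hom
  have : Nonempty B := ⟨⟨y, hyB⟩⟩
  have : IsDomain Γ(X', B) := Function.Injective.isDomain B.topIso.inv.hom (ConcreteCategory.bijective_of_isIso B.topIso.inv).1
  obtain ⟨p, hp, hp0⟩ := Groth.HensPair.isIntegral_app_of_universallyClosed b hB s
  have hpt : p.eval₂ ρ t = 0 := by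
    apply hbij.1
    rw [map_zero]
    show (b.app W).hom (p.eval₂ ρ t) = 0
    rw [Polynomial.hom_eval₂, show (b.app W).hom t = _ from ht,
      show (b.app W).hom.comp ρ = (X.presheaf.map (homOfLE (b.preimage_mono hWB)).op).hom.comp (b.app B).hom
        from RingHom.ext fun r => (hnat r).symm]
    show p.eval₂ _ ((X.presheaf.map (homOfLE (b.preimage_mono hWB)).op).hom s) = 0
    rw [← Polynomial.hom_eval₂, hp0, map_zero]
  -- the denominators of `t`
  let 𝔞 : Ideal Γ(X', B) :=
    { carrier := {c | ρ c * t ∈ Set.range ρ}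
      add_mem' := fun {c d} hc hd => by
        obtain ⟨r, hr⟩ := hc; obtain ⟨r', hr'⟩ := hd
        exact ⟨r + r', by rw [map_add, map_add, hr, hr', add_mul]⟩
      zero_mem' := ⟨0, by rw [map_zero, zero_mul]⟩
      smul_mem' := fun c d hd => by
        obtain ⟨r, hr⟩ := hd
        exact ⟨c * r, by rw [smul_eq_mul, map_mul, map_mul, hr, mul_assoc]⟩ }
  suffices 𝔞 = ⊤ by
    obtain ⟨r, hr⟩ := (Ideal.eq_top_iff_one 𝔞).1 this
    exact ⟨r, hr.trans (by rw [map_one, one_mul])⟩
  have hloc : ∀ z ∈ W, ∀ hz : z ∈ B, ∃ c ∈ 𝔞, c ∉ (hB.primeIdealOf ⟨z, hz⟩).asIdeal := by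
    intro z hzW hz
    obtain ⟨g, hgle, hzg⟩ := hB.exists_basicOpen_le ⟨z, hzW⟩ hz
    have := hB.isLocalization_basicOpen g
    obtain ⟨n, a, ha⟩ := IsLocalization.Away.surj g (X'.presheaf.map (homOfLE hgle).op t)
    refine ⟨g ^ n, ⟨a, ?_⟩, fun hm => ?_⟩
    · have : IsIntegral (W : Scheme.{u}) := by
        have : Nonempty ↥(W : Scheme.{u}) := hWne.to_subtype
        exact isIntegral_of_isOpenImmersion (X'.homOfLE hWB)
      refine restrict_injective hgle ⟨z, hzg⟩ ?_
      rw [map_mul]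
      have hc : ∀ r, X'.presheaf.map (homOfLE hgle).op (ρ r) =
          algebraMap Γ(X', B) Γ(X', X'.basicOpen g) r := fun r => by
        show (X'.presheaf.map (homOfLE hWB).op ≫ X'.presheaf.map (homOfLE hgle).op) r = _
        rw [← Functor.map_comp]
        rfl
      rw [hc, hc, map_pow, mul_comm, ha]
    · have := (hB.primeIdealOf ⟨z, hz⟩).2.mem_of_pow_mem n hm
      rw [hB.primeIdealOf_eq_map_closedPoint] at this
      exact (IsLocalRing.mem_maximalIdeal _).1 this ((X'.mem_basicOpen g z hz).1 hzg)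
  have hy' : ∃ c ∈ 𝔞, c ∉ (hB.primeIdealOf ⟨y, hyB⟩).asIdeal := by
    obtain ⟨z, hz, hzy⟩ := hne
    obtain ⟨g, ⟨a, ha⟩, hg⟩ := hloc z ⟨hz, hzy⟩ hz
    let P := (hB.primeIdealOf ⟨y, hyB⟩).asIdeal
    let _ := X'.presheaf.algebra_section_stalk ⟨y, hyB⟩
    have := hB.isLocalization_stalk ⟨y, hyB⟩
    have hinjS : Function.Injective (algebraMap Γ(X', B) (X'.presheaf.stalk y)) :=
      IsLocalization.injective _ (hB.primeIdealOf ⟨y, hyB⟩).asIdeal.primeCompl_le_nonZeroDivisors
    have h0 : (p.scaleRoots g).eval a = 0 := by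
      apply hres
      rw [map_zero]
      show ρ ((p.scaleRoots g).eval a) = 0
      rw [← eval₂_at_apply, ha, scaleRoots_eval₂_mul, hpt, mul_zero]
    have hg0 : g ≠ 0 := fun h => hg (h ▸ Ideal.zero_mem _)
    obtain ⟨u, hu⟩ := Groth.Ega4b.dvd_of_scaleRoots (A := X'.presheaf.stalk y)
      (a := algebraMap _ _ a) (b := algebraMap _ _ g) (p := p.map (algebraMap _ _))
      ((map_ne_zero_iff _ hinjS).2 hg0) (hp.map _)
      (by rw [Groth.Ega4b.scaleRoots_eval_map _ hp, h0, map_zero])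
    obtain ⟨u', c, rfl⟩ := IsLocalization.exists_mk'_eq (hB.primeIdealOf ⟨y, hyB⟩).asIdeal.primeCompl u
    have h3 : (c : Γ(X', B)) * a = g * u' := by
      apply hinjS
      rw [map_mul, map_mul, hu, mul_left_comm]
      congr 1
      rw [mul_comm, IsLocalization.mk'_spec]
    refine ⟨c, ⟨u', ?_⟩, c.2⟩
    have hdom : IsIntegral (W : Scheme.{u}) := by
      have : Nonempty ↥(W : Scheme.{u}) := hWne.to_subtype
      exact isIntegral_of_isOpenImmersion (X'.homOfLE hWB)
    have : IsDomain Γ(X', W) :=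
      have : Nonempty (⊤ : (W : Scheme.{u}).Opens) := by
        obtain ⟨w, hw⟩ := hWne
        exact ⟨⟨⟨w, hw⟩, trivial⟩⟩
      Function.Injective.isDomain W.topIso.inv.hom (ConcreteCategory.bijective_of_isIso W.topIso.inv).1
    have hg' : ρ g ≠ 0 := fun h => hg0 (hres (h.trans (map_zero _).symm))
    refine mul_left_cancel₀ hg' ?_
    rw [← map_mul, ← h3, map_mul, ha]
    ring
  by_contra htop
  obtain ⟨M, hM, hle⟩ := Ideal.exists_le_maximal 𝔞 htop
  let q : PrimeSpectrum Γ(X', B) := ⟨M, hM.isPrime⟩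
  have hzB : hB.fromSpec q ∈ B := hB.range_fromSpec.le ⟨_, rfl⟩
  have hP : hB.primeIdealOf ⟨_, hzB⟩ = q := hB.fromSpec.isEmbedding.injective (hB.fromSpec_primeIdealOf _)
  obtain ⟨c, hc, hcP⟩ : ∃ c ∈ 𝔞, c ∉ (hB.primeIdealOf ⟨_, hzB⟩).asIdeal := by
    by_cases hzy : hB.fromSpec q = y
    · obtain ⟨c, hc, hc'⟩ := hy'
      refine ⟨c, hc, fun h => hc' ?_⟩
      convert h using 3
      exact Subtype.ext hzy.symm
    · exact hloc _ ⟨hzB, hzy⟩ hzB
  exact hcP ((congrArg PrimeSpectrum.asIdeal hP).ge (hle hc))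

/-- `b_* O = O`. -/
theorem pushIso [IsLocallyNoetherian X']
    (hb : BlowUp.IsBlowUp b (Scheme.IdealSheafData.vanishingIdeal ⟨{y}, hy⟩))
    [UniversallyClosed b] [IsSeparated b] [IsDomain (X'.presheaf.stalk y)]
    [IsIntegrallyClosed (X'.presheaf.stalk y)] (hdim : ¬ IsField (X'.presheaf.stalk y)) :
    Groth.AlgGrp1.PushIso b := by
  intro O z hz
  by_cases hzy : z = y
  · subst hzy
    obtain ⟨U, hzU, hU⟩ := exists_integral_nhd z
    obtain ⟨B, hB, hzB, hBO⟩ := exists_isAffineOpen_mem_and_subset (U := O ⊓ U) ⟨hz, hzU⟩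
    have : Nonempty ↥(B : Scheme.{u}) := ⟨⟨z, hzB⟩⟩
    have : IsIntegral (B : Scheme.{u}) := isIntegral_of_isOpenImmersion (X'.homOfLE (fun x hx => (hBO hx).2 : B ≤ U))
    refine ⟨B, hB, hzB, fun x hx => (hBO hx).1, isIso_app hb hB hzB ?_⟩
    by_contra hne
    push Not at hne
    apply hdim
    have hgen : B.ι (genericPoint ↥(B : Scheme.{u})) = z := hne _ (genericPoint ↥(B : Scheme.{u})).2
    have hfield : IsField ((B : Scheme.{u}).presheaf.stalk (genericPoint ↥(B : Scheme.{u}))) :=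
      Field.toIsField (B : Scheme.{u}).functionField
    rw [← hgen]
    exact ((asIso (B.ι.stalkMap (genericPoint ↥(B : Scheme.{u})))).commRingCatIsoToRingEquiv).toMulEquiv.isField hfield
  · obtain ⟨B, hB, hzB, hBO⟩ :=
      exists_isAffineOpen_mem_and_subset (U := O ⊓ ⟨({y} : Set X')ᶜ, hy.isOpen_compl⟩) ⟨hz, hzy⟩
    have := isIso_restrict hb (W := B) fun h => (hBO h).2 rfl
    exact ⟨B, hB, hzB, fun x hx => (hBO hx).1, isIso_app_of_isIso_restrict b B⟩

/-- Local rings are flat over the scheme. -/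
theorem flat_fromSpecStalk (y : X') : Flat (X'.fromSpecStalk y) := by
  obtain ⟨U, hU, hxU, -⟩ := exists_isAffineOpen_mem_and_subset (U := (⊤ : X'.Opens)) (x := y) trivial
  rw [← hU.fromSpecStalk_eq_fromSpecStalk hxU]
  have hflat : Flat (Spec.map (X'.presheaf.germ U y hxU)) := by
    rw [HasRingHomProperty.Spec_iff (P := @Flat)]
    let := (X'.presheaf.germ U y hxU).hom.toAlgebra
    have := hU.isLocalization_stalk ⟨y, hxU⟩
    exact RingHom.flat_algebraMap_iff.mpr
      (IsLocalization.flat _ (hU.primeIdealOf ⟨y, hxU⟩).asIdeal.primeCompl)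
  show Flat (Spec.map (X'.presheaf.germ U y hxU) ≫ hU.fromSpec)
  infer_instance

/-- The pullback of the ideal of the point to its local ring. -/
theorem comap_vanishingIdeal_fromSpecStalk (y : X') (hy : IsClosed ({y} : Set X')) :
    (Scheme.IdealSheafData.vanishingIdeal ⟨{y}, hy⟩).comap (X'.fromSpecStalk y) =
      sheafOf (IsLocalRing.maximalIdeal (X'.presheaf.stalk y)) := by
  obtain ⟨U, hU, hyU, -⟩ := exists_isAffineOpen_mem_and_subset (U := ⊤) (Set.mem_univ y)
  rw [← hU.fromSpecStalk_eq_fromSpecStalk hyU, IsAffineOpen.fromSpecStalk, Scheme.IdealSheafData.comap_comp,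
    Groth.HTopHyper.comap_fromSpec _ ⟨U, hU⟩]
  refine (comap_sheafOf_Spec (X'.presheaf.germ U y hyU).hom _).trans ?_
  congr 1
  let _ := X'.presheaf.algebra_section_stalk ⟨y, hyU⟩
  have := hU.isLocalization_stalk ⟨y, hyU⟩
  have hset : hU.fromSpec ⁻¹' ({y} : Set X') = {hU.primeIdealOf ⟨y, hyU⟩} := by
    ext q
    exact ⟨fun h => hU.fromSpec.isEmbedding.injective ((h : hU.fromSpec q = y).trans
      (hU.fromSpec_primeIdealOf ⟨y, hyU⟩).symm),
      fun h => (congrArg hU.fromSpec (h : q = _)).trans (hU.fromSpec_primeIdealOf ⟨y, hyU⟩)⟩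
  rw [← IsLocalization.AtPrime.map_eq_maximalIdeal (hU.primeIdealOf ⟨y, hyU⟩).asIdeal (X'.presheaf.stalk y)]
  congr 1
  show PrimeSpectrum.vanishingIdeal (hU.fromSpec ⁻¹' ({y} : Set X')) = _
  exact (congrArg PrimeSpectrum.vanishingIdeal hset).trans (PrimeSpectrum.vanishingIdeal_singleton _)

/-- The fibre over the point is an irreducible curve. -/
theorem exists_generic_fibre (hb : BlowUp.IsBlowUp b (Scheme.IdealSheafData.vanishingIdeal ⟨{y}, hy⟩))
    (hreg : IsRegularLocalRing (X'.presheaf.stalk y)) (hdim : ringKrullDim (X'.presheaf.stalk y) = 2) :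
    ∃ η : X, b η = y ∧ (∀ z, b z = y → η ⤳ z) ∧
      ∀ z z', b z = y → b z' = y → z ⤳ z' → z = η ∨ z = z' := by
  have : Flat (X'.fromSpecStalk y) := flat_fromSpecStalk y
  let c := X'.fromSpecStalk y
  have hQ : BlowUp.IsBlowUp (pullback.fst c b) (sheafOf (IsLocalRing.maximalIdeal (X'.presheaf.stalk y))) :=
    comap_vanishingIdeal_fromSpecStalk y hy ▸ Groth.Divisors.isBlowUp_flat_pullback c hb
  obtain ⟨η, hη, hgen, huniq⟩ := PointFibre.exists_generic hdim hQ
  let j := pullback.snd c b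
  have : IsPreimmersion j := inferInstance
  have hc : ∀ q, c (pullback.fst c b q) = b (j q) := fun q => by
    rw [← Scheme.Hom.comp_apply, pullback.condition, Scheme.Hom.comp_apply]
  have hlift : ∀ z, b z = y → ∃ q, j q = z ∧ pullback.fst c b q = IsLocalRing.closedPoint (X'.presheaf.stalk y) := by
    intro z hz
    obtain ⟨q, hq1, hq2⟩ := Scheme.Pullback.exists_preimage_pullback
      (f := c) (g := b) (IsLocalRing.closedPoint (X'.presheaf.stalk y)) z
      (Scheme.fromSpecStalk_closedPoint.trans hz.symm)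
    exact ⟨q, hq2, hq1⟩
  refine ⟨j η, by rw [← hc, hη]; exact Scheme.fromSpecStalk_closedPoint, fun z hz => ?_, fun z z' hz hz' h => ?_⟩
  · obtain ⟨q, rfl, hq⟩ := hlift z hz
    exact (hgen q hq).map j.continuous
  · obtain ⟨q, rfl, hq⟩ := hlift z hz
    obtain ⟨q', rfl, hq'⟩ := hlift z' hz'
    exact (huniq q q' hq hq' (j.isEmbedding.isInducing.specializes_iff.1 h)).imp (congrArg j) (congrArg j)

/-- An irreducible closed subset of the fibre with two points is the fibre. -/
theorem range_eq_fibre {E : Scheme.{u}} (ι : E ⟶ X) [IsClosedImmersion ι] [IrreducibleSpace E]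
    (hEy : ∀ e, b (ι e) = y) (hnt : ∃ e, e ≠ genericPoint E) {η : X}
    (hη : ∀ z, b z = y → η ⤳ z)
    (huniq : ∀ z z', b z = y → b z' = y → z ⤳ z' → z = η ∨ z = z') (z : X) (hz : b z = y) :
    z ∈ Set.range ι := by
  obtain ⟨e, he⟩ := hnt
  have hge : ι (genericPoint E) = η := ((huniq _ (ι e) (hEy _) (hEy _)
    ((genericPoint_specializes e).map ι.continuous)).resolve_right fun h => he (ι.isEmbedding.injective h).symm)
  exact (hη z hz).mem_closed ι.isClosedEmbedding.isClosed_range ⟨_, hge⟩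

end Groth.ResolveSurf.PointContraction
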