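import Groth.Agent.ResolveSurf.PointContraction
import Groth.Agent.Ega4Algebra1.RegularNormal
import Groth.Agent.Ega4Algebra1.RegularLocal
import Groth.Agent.Variety2.ProjDim

/-!
The universal property of contractions.
-/

set_option autoImplicit false
universe u

open CategoryTheory CategoryTheory.Limits AlgebraicGeometry TopologicalSpace

namespace Groth.ResolveSurf.ContractionDesc

theorem exists_ne_genericPoint {k : Type u} [Field k] {E : Scheme.{u}} (e : CohB1.ProjSpace 1 k ≅ E) :
    ∃ (_ : IrreducibleSpace E), ∃ x : E, x ≠ genericPoint E := by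
  have h : (Set.univ : Set ↥(CohB1.ProjSpace 1 k)) =
      closure {(Variety2.PSpace.eta 1 k : ↥(CohB1.ProjSpace 1 k))} :=
    (Set.eq_univ_of_forall fun x =>
      specializes_iff_mem_closure.mp (Variety2.PSpace.eta_specializes x)).symm
  have hirr : IrreducibleSpace ↥(CohB1.ProjSpace 1 k) :=
    have : PreirreducibleSpace ↥(CohB1.ProjSpace 1 k) :=
      ⟨by rw [h]; exact isIrreducible_singleton.closure.isPreirreducible⟩
    { toNonempty := ⟨Variety2.PSpace.eta 1 k⟩ }
  let ψ := e.hom.homeomorph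
  have hE : IrreducibleSpace E :=
    have : PreirreducibleSpace E := ⟨by
      rw [← ψ.surjective.range_eq, ← Set.image_univ]
      exact (PreirreducibleSpace.isPreirreducible_univ (X := ↥(CohB1.ProjSpace 1 k))).image _
        ψ.continuous.continuousOn⟩
    { toNonempty := ⟨ψ (Variety2.PSpace.eta 1 k)⟩ }
  refine ⟨hE, ?_⟩
  by_contra hall
  push Not at hall
  have hsub : Subsingleton ↥(CohB1.ProjSpace 1 k) :=
    ⟨fun a c => ψ.injective ((hall _).trans (hall _).symm)⟩
  have hcl : IsClosed ({Variety2.PSpace.eta 1 k} : Set ↥(CohB1.ProjSpace 1 k)) := by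
    convert isClosed_univ
    exact Set.eq_univ_of_forall fun x => Subsingleton.elim (α := ↥(CohB1.ProjSpace 1 k)) _ _
  have h0 := (Variety2.PSpace.ht_eq_zero_iff _).2 hcl
  rw [Variety2.PSpace.ht_eta] at h0
  exact one_ne_zero h0

/-- The universal property of a contraction. -/
theorem existsUnique_desc {E X X' : Scheme.{u}} (ι : E ⟶ X) [IsClosedImmersion ι]
    (hE : Models.IsExcCurve ι) (b : X ⟶ X') (hb : Models.IsContractionOf ι b)
    {Y : Scheme.{u}} (φ : X ⟶ Y) (hφ : ∀ e e' : E, φ (ι e) = φ (ι e')) :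
    ∃! ψ : X' ⟶ Y, b ≫ ψ = φ := by
  obtain ⟨hN, hp, y, hy, hrange, hreg, hdim, hbl⟩ := hb
  obtain ⟨-, k, _, e, -⟩ := hE
  obtain ⟨_, hnt⟩ := exists_ne_genericPoint e
  have := Groth.Ega4Algebra1.isDomain_of_isRegularLocalRing (X'.presheaf.stalk y)
  have := Groth.Ega4Algebra1.isIntegrallyClosed_of_isRegularLocalRing (X'.presheaf.stalk y)
  have hnf : ¬ IsField (X'.presheaf.stalk y) := fun hf => by
    rw [ringKrullDim_eq_zero_of_isField hf] at hdim
    exact absurd hdim (by decide)
  have hpi : Groth.AlgGrp1.PushIso b := PointContraction.pushIso hbl hnf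
  have : Surjective b := hpi.surjective
  obtain ⟨η, hη, hgen, huniq⟩ := PointContraction.exists_generic_fibre hbl hreg hdim
  have hEy : ∀ x, b (ι x) = y := fun x => by
    have : (ι ≫ b).base x ∈ ({y} : Set X') := hrange ▸ ⟨x, rfl⟩
    exact this
  obtain ⟨ψ, hψ⟩ := hpi.exists_desc φ fun x x' h => by
    by_cases hx : b x = y
    · obtain ⟨a, rfl⟩ := PointContraction.range_eq_fibre ι hEy hnt hgen huniq x hx
      obtain ⟨a', rfl⟩ := PointContraction.range_eq_fibre ι hEy hnt hgen huniq x' ((h.symm.trans hx : _))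
      exact hφ a a'
    · let W : X'.Opens := ⟨({y} : Set X')ᶜ, hy.isOpen_compl⟩
      have := PointContraction.isIso_restrict hbl (W := W) fun h => h rfl
      have hx' : b x' ≠ y := fun h' => hx (h.trans h')
      have hxx : (⟨x, hx⟩ : ↥(b ⁻¹ᵁ W)) = ⟨x', hx'⟩ := (b ∣_ W).homeomorph.injective <| Subtype.ext <| by
        exact ((morphismRestrict_base_coe b W _).trans h).trans (morphismRestrict_base_coe b W _).symm
      exact congrArg (fun q : ↥(b ⁻¹ᵁ W) => φ q.1) hxx
  exact ⟨ψ, hψ, fun ψ' hψ' => hpi.cancel _ _ (hψ'.trans hψ.symm)⟩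

end Groth.ResolveSurf.ContractionDesc
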