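import Groth.Agent.CohDev.PushEdge

/-!
# The edge map in degree one is injective
-/

set_option autoImplicit false
set_option backward.isDefEq.respectTransparency.types false
set_option linter.style.haveILetI false

universe u

open CategoryTheory Limits TopologicalSpace Opposite
open CategoryTheory.Abelian (Ext)

namespace Groth.ResolveSurf.EdgeInjective

open Groth.CohDev

variable {X Y : TopCat.{u}} (f : X ⟶ Y)

/-- `H¹(Y, f_* A) → H¹(X, A)` is injective. -/
theorem edgeAb_one_injective (A : CohTop.Ab X) : Function.Injective (edgeAb f A 1) := by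
  let S := CohBase.injPres A
  have hS : S.ShortExact := CohBase.injPres_shortExact A
  haveI hI : Injective S.X₂ := inferInstanceAs (Injective (Injective.under A))
  haveI := hS.mono_f
  have hex : ((S.map (CohTop.push f))).Exact := (((Functor.preservesFiniteLimits_tfae (CohBase.pushSheaf f)).out 3 1 rfl rfl).mp
    inferInstance S ⟨hS.exact, hS.mono_f⟩).1
  haveI hmf : Mono ((CohTop.push f).map S.f) := inferInstanceAs (Mono ((CohBase.pushSheaf f).map S.f))
  let T : ShortComplex (CohTop.Ab Y) :=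
    ShortComplex.mk ((CohTop.push f).map S.f) (cokernel.π ((CohTop.push f).map S.f)) (cokernel.condition _)
  have hT : T.ShortExact :=
    { exact := ShortComplex.exact_cokernel _
      mono_f := hmf
      epi_g := by dsimp [T]; infer_instance }
  let m : T.X₃ ⟶ (CohTop.push f).obj S.X₃ := cokernel.desc _ ((CohTop.push f).map S.g) (S.map (CohTop.push f)).zero
  have hm : Mono m := hex.mono_cokernelDesc
  haveI : Injective T.X₂ := CohBase.injective_pushSheaf_obj (f := f) S.X₂
  refine (injective_iff_map_eq_zero _).2 fun x hx => ?_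
  obtain ⟨y, rfl⟩ := Ext.covariant_sequence_exact₁ (ZC Y) hT x (Ext.eq_zero_of_injective _) rfl
  obtain ⟨a, rfl⟩ := (Ext.mk₀_bijective _ _).2 y
  let φ : T.map (CohPull.inv f) ⟶ S :=
    { τ₁ := (CohPull.invPushAdj f).counit.app S.X₁
      τ₂ := (CohPull.invPushAdj f).counit.app S.X₂
      τ₃ := (CohPull.inv f).map m ≫ (CohPull.invPushAdj f).counit.app S.X₃
      comm₁₂ := ((CohPull.invPushAdj f).counit.naturality S.f).symm
      comm₂₃ := by
        change (CohPull.invPushAdj f).counit.app S.X₂ ≫ S.g =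
          (CohPull.inv f).map (cokernel.π _) ≫ (CohPull.inv f).map m ≫ _
        rw [← Category.assoc, ← Functor.map_comp, cokernel.π_desc]
        exact ((CohPull.invPushAdj f).counit.naturality S.g).symm }
  have key : edgeAb f S.X₁ 1 ((Ext.mk₀ a).comp hT.extClass rfl) =
      (edgeAb f S.X₃ 0 (Ext.mk₀ (a ≫ m))).comp hS.extClass rfl := by
    have e : ((Ext.mk₀ a).comp hT.extClass rfl).mapExactFunctor (CohPull.inv f) =
        (Ext.mk₀ ((CohPull.inv f).map a)).comp (hT.map_of_exact (CohPull.inv f)).extClass rfl :=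
      (Ext.mapExactFunctor_comp (CohPull.inv f) (Ext.mk₀ a) hT.extClass rfl).trans
        (by rw [Ext.mapExactFunctor_mk₀, Ext.mapExactFunctor_extClass _ hT]; rfl)
    have n := ShortComplex.ShortExact.extClass_naturality (hT.map_of_exact (CohPull.inv f)) hS φ
    change ((Ext.mk₀ (CohPull.oneTo f)).comp (((Ext.mk₀ a).comp hT.extClass rfl).mapExactFunctor (CohPull.inv f))
      (zero_add 1)).comp (Ext.mk₀ φ.τ₁) (add_zero 1) = _
    rw [e]
    refine (reassoc_extClass (CohPull.oneTo f) (p := 0) _ _ φ.τ₁ φ.τ₃ hS.extClass n).trans ?_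
    congr 1
    rw [edgeAb_apply, Ext.mapExactFunctor_mk₀, Functor.map_comp]
    simp [φ]
    exact (congrArg (fun t => (Ext.mk₀ (CohPull.oneTo f)).comp t (zero_add 0)) (Ext.mk₀_comp_mk₀ _ _)).trans
      (Ext.mk₀_comp_mk₀ _ _)
  replace hx := key.symm.trans hx
  obtain ⟨v, hv⟩ := Ext.covariant_sequence_exact₃ (ZC X) hS _ rfl hx
  obtain ⟨v', rfl⟩ := (edgeAb_zero_bijective f S.X₂).2 v
  obtain ⟨w, rfl⟩ := (Ext.mk₀_bijective _ _).2 v'
  rw [← edgeAb_map, Ext.mk₀_comp_mk₀] at hv
  have h1 : w ≫ (CohTop.push f).map S.g = a ≫ m :=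
    (Ext.mk₀_bijective _ _).1 ((edgeAb_zero_bijective f S.X₃).1 hv)
  have h2 : a = w ≫ T.g := by
    rw [← cancel_mono m, Category.assoc, ← h1]
    exact congrArg (w ≫ ·) (cokernel.π_desc _ _ _).symm
  rw [h2, ← Ext.mk₀_comp_mk₀]
  exact (Ext.comp_assoc_of_second_deg_zero _ _ _ _).trans
    ((congrArg (fun t => (Ext.mk₀ w).comp t rfl) hT.comp_extClass).trans (Ext.comp_zero _ _ _ _ _))

end Groth.ResolveSurf.EdgeInjective
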