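import Groth.Agent.ModelsGraphs.RatSingPush
import Groth.Agent.ResolveSurf.EdgeInjective
import Groth.Agent.ResolveSurf.PointContraction
import Groth.Agent.PointBlowUp.TwoChart
import Groth.Agent.S2348
import Groth.Agent.S1624
import Groth.Agent.Ega4Algebra1.RegularNormal
import Groth.Agent.Ega4Algebra1.RegularLocal
import Groth.Agent.Limits.NormalBirational
import Groth.Agent.ResPropLib.FibreBound
import Groth.Agent.ArSurfBasics.PointPrincipalization

/-!
# Contraction sequences do not create first cohomology of the structure sheaf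
-/

set_option autoImplicit false
set_option backward.isDefEq.respectTransparency.types false
set_option linter.style.haveILetI false

universe u

open CategoryTheory Limits AlgebraicGeometry TopologicalSpace Opposite

namespace Groth.ResolveSurf.RegularRational

variable {X' X : Scheme.{u}} (ρ : X' ⟶ X)

instance isQuasicoherent_structureModule (Y : Scheme.{u}) : (Coh.structureModule Y).IsQuasicoherent :=
  (Groth.EulerDeg.isCoh_of_isInvertible (Groth.EulerDeg.isInvertible_structureModule Y)).1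

theorem subsingleton_H1_of_isAffine (W : Scheme.{u}) [IsAffine W] :
    Subsingleton (Coh.HH W (Coh.structureModule W) 1) :=
  @Equiv.subsingleton _ _ (Groth.CohBase.equivHTop _ _).toEquiv
    (Groth.CohBase.hVanish_of_isAffineOpen (Coh.structureModule W) (isAffineOpen_top W) 0)

/-- The first higher direct image near a point over whose local scheme `H¹(O)` vanishes. -/
theorem exists_smul_eq_zero_of [IsProper ρ] [IsLocallyNoetherian X] (x : X)
    (hx1 : ∀ (W : Scheme.{u}) (j : W ⟶ X') (q : W ⟶ Spec (X.presheaf.stalk x)),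
      IsPullback j q ρ (X.fromSpecStalk x) → Subsingleton (Coh.HH W (Coh.structureModule W) 1))
    {V : X.Opens} (hV : IsAffineOpen V) (hx : x ∈ V) :
    letI : ((ρ ⁻¹ᵁ V : X'.Opens) : Scheme.{u}).Over (Spec (CommRingCat.of Γ(X, V))) :=
      ⟨CohBase.preimageToSpec ρ⟩
    ∀ ξ : Coh.HH (ρ ⁻¹ᵁ V : X'.Opens) ((Coh.structureModule X').restrict (ρ ⁻¹ᵁ V).ι) 1,
      ∃ s : Γ(X, V), x ∈ X.basicOpen s ∧ s • ξ = 0 := by
  letI : ((ρ ⁻¹ᵁ V : X'.Opens) : Scheme.{u}).Over (Spec (CommRingCat.of Γ(X, V))) :=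
    ⟨CohBase.preimageToSpec ρ⟩
  let A := Γ(X, V)
  let B := X.presheaf.stalk x
  letI : Algebra A B := (X.presheaf.germ V x hx).hom.toAlgebra
  haveI : IsLocalization.AtPrime B (hV.primeIdealOf ⟨x, hx⟩).asIdeal := hV.isLocalization_stalk ⟨x, hx⟩
  haveI : Module.Flat A B := IsLocalization.flat B (hV.primeIdealOf ⟨x, hx⟩).asIdeal.primeCompl
  let W : Scheme.{u} := pullback (CohBase.preimageToSpec ρ (V := V)) (Spec.map (CommRingCat.ofHom (algebraMap A B)))
  letI : W.Over (Spec (CommRingCat.of B)) := ⟨pullback.snd _ _⟩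
  let g' : W ⟶ (ρ ⁻¹ᵁ V : X'.Opens) := pullback.fst _ _
  have hpb : IsPullback g' (W ↘ Spec (CommRingCat.of B))
      ((ρ ⁻¹ᵁ V : X'.Opens).toScheme ↘ Spec (CommRingCat.of A)) (Spec.map (CommRingCat.ofHom (algebraMap A B))) :=
    IsPullback.of_hasPullback _ _
  have hspec : Spec.map (CommRingCat.ofHom (algebraMap A B)) ≫ hV.fromSpec = X.fromSpecStalk x := by
    rw [← hV.fromSpecStalk_eq_fromSpecStalk hx, IsAffineOpen.fromSpecStalk]
    rfl
  let j : W ⟶ X' := g' ≫ (ρ ⁻¹ᵁ V).ι
  have hbig : IsPullback j (W ↘ Spec (CommRingCat.of B)) ρ (X.fromSpecStalk x) :=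
    hspec ▸ hpb.paste_horiz (CohBase.isPullback_preimageToSpec ρ hV)
  have hvan : Subsingleton (Coh.HH W (Coh.structureModule W) 1) := hx1 W j _ hbig
  intro ξ
  let M := (Coh.structureModule X').restrict (ρ ⁻¹ᵁ V).ι
  haveI : CompactSpace (ρ ⁻¹ᵁ V : X'.Opens).toScheme := by
    haveI : IsProper (CohBase.preimageToSpec ρ (V := V)) :=
      MorphismProperty.of_isPullback (CohBase.isPullback_preimageToSpec ρ hV) ‹IsProper ρ›
    exact QuasiCompact.compactSpace_of_compactSpace (CohBase.preimageToSpec ρ (V := V))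
  haveI : QuasiSeparatedSpace (ρ ⁻¹ᵁ V : X'.Opens).toScheme := by
    haveI : IsLocallyNoetherian X' := LocallyOfFiniteType.isLocallyNoetherian ρ
    infer_instance
  haveI : M.IsQuasicoherent := inferInstance
  obtain ⟨eBC⟩ := Groth.CohBase.FlatBC.exists_affine_base_linEquiv A B g' hpb M 1
  obtain ⟨i1⟩ := Groth.PicAux.pullback_structure_iso j
  let i2 : (Scheme.Modules.pullback g').obj M ≅ Coh.structureModule W :=
    (Scheme.Modules.pullback g').mapIso ((Scheme.Modules.restrictFunctorIsoPullback (ρ ⁻¹ᵁ V).ι).app _) ≪≫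
      (Scheme.Modules.pullbackComp g' (ρ ⁻¹ᵁ V).ι).app _ ≪≫ i1
  haveI : Subsingleton (Coh.HH W ((Scheme.Modules.pullback g').obj M) 1) :=
    (Groth.EulerDeg.hEquiv B i2 1).toEquiv.subsingleton
  have h0 : (1 : B) ⊗ₜ[A] ξ = 0 := eBC.injective (Subsingleton.elim _ _)
  have hloc : IsLocalizedModule (hV.primeIdealOf ⟨x, hx⟩).asIdeal.primeCompl
      (TensorProduct.mk A B (Coh.HH (ρ ⁻¹ᵁ V : X'.Opens) M 1) 1) :=
    inferInstance
  obtain ⟨s, hs⟩ := (IsLocalizedModule.eq_zero_iff (hV.primeIdealOf ⟨x, hx⟩).asIdeal.primeCompl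
    (TensorProduct.mk A B _ 1)).1 h0
  refine ⟨s, (X.mem_basicOpen s.1 x hx).2 ?_, hs⟩
  exact IsLocalization.map_units B s

/-- `R¹ρ_* O = 0` if `H¹(O)` vanishes over the local schemes at all closed points. -/
theorem isZero_RpushAb_one_of [IsProper ρ] [IsLocallyNoetherian X] [CompactSpace X]
    (hH : ∀ x : X, IsClosed ({x} : Set X) → ∀ (W : Scheme.{u}) (j : W ⟶ X') (q : W ⟶ Spec (X.presheaf.stalk x)),
      IsPullback j q ρ (X.fromSpecStalk x) → Subsingleton (Coh.HH W (Coh.structureModule W) 1)) :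
    IsZero ((Coh.RpushAb ρ 1).obj (Coh.toAb (Coh.structureModule X'))) := by
  refine Groth.SiteCohomology.SubSheafGerms.isZero_of_stalks fun y a => ?_
  obtain ⟨x, hx, hxc⟩ := IsClosed.exists_closed_singleton (isClosed_closure (s := ({y} : Set X)))
    ⟨y, subset_closure rfl⟩
  have hyx : y ⤳ x := specializes_iff_mem_closure.2 hx
  obtain ⟨V, hV, hxV⟩ := QCohMod.exists_affine_mem x
  have hz := Groth.Limits.FibreVanishing.isZero_stalk_RpushAb ρ (Coh.structureModule X') 1 hV y
    (hyx.mem_open V.2 hxV) (fun ξ => by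
      obtain ⟨s, hs, hξ⟩ := exists_smul_eq_zero_of ρ x (hH x hxc) hV hxV ξ
      exact ⟨s, hyx.mem_open (X.basicOpen s).2 hs, hξ⟩)
  have hz2 := (Groth.SiteCohomology.isZero_sfib_iff ((Coh.RpushAb ρ 1).obj (Coh.toAb (Coh.structureModule X'))) y).2
    ((Groth.SiteCohomology.isZero_stalk_iff _ y).1 hz)
  exact @Subsingleton.elim _ (AddCommGrpCat.subsingleton_of_isZero hz2) a 0

/-- `H¹` only depends on the isomorphism class. -/
theorem subsingleton_HH_of_iso {Y : Scheme.{u}} {M N : Y.Modules} (e : M ≅ N) (n : ℕ)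
    (h : Subsingleton (Coh.HH Y N n)) : Subsingleton (Coh.HH Y M n) := by
  refine Function.Injective.subsingleton
    (f := Sheaf.H.map ((SheafOfModules.toSheaf Y.ringCatSheaf).map e.hom) n) fun a b hab => ?_
  have he : (SheafOfModules.toSheaf Y.ringCatSheaf).map e.hom ≫ (SheafOfModules.toSheaf Y.ringCatSheaf).map e.inv =
      𝟙 _ := ((SheafOfModules.toSheaf Y.ringCatSheaf).mapIso e).hom_inv_id
  have := congrArg (Sheaf.H.map ((SheafOfModules.toSheaf Y.ringCatSheaf).map e.inv) n) hab
  rwa [← Sheaf.H.map_comp_apply, ← Sheaf.H.map_comp_apply, he, Sheaf.H.map_id_apply, Sheaf.H.map_id_apply] at this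

/-- If `ρ_* O = O` then `H¹(X, O)` injects into `H¹(X', O)`. -/
theorem subsingleton_H1_of_dominated [IsIso (ClSub.unitToPush ρ)]
    (h : Subsingleton (Coh.HH X' (Coh.structureModule X') 1)) :
    Subsingleton (Coh.HH X (Coh.structureModule X) 1) :=
  subsingleton_HH_of_iso (asIso (ClSub.unitToPush ρ)) 1
    (Function.Injective.subsingleton (β := Coh.HH X' (Coh.structureModule X') 1)
      (Groth.ResolveSurf.EdgeInjective.edgeAb_one_injective (X := X'.toTopCat) (Y := X.toTopCat) ρ.base
        (Coh.toAb (Coh.structureModule X'))))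

/-- If `ρ_* O = O` and `R¹ρ_* O = 0` then `H¹(X', O)` is a quotient of `H¹(X, O)`. -/
theorem subsingleton_H1_top [IsIso (ClSub.unitToPush ρ)]
    (hz : IsZero ((Coh.RpushAb ρ 1).obj (Coh.toAb (Coh.structureModule X'))))
    (h : Subsingleton (Coh.HH X (Coh.structureModule X) 1)) :
    Subsingleton (Coh.HH X' (Coh.structureModule X') 1) := by
  have h' : Subsingleton (Coh.HH X ((Scheme.Modules.pushforward ρ).obj (Coh.structureModule X')) 1) :=
    subsingleton_HH_of_iso (asIso (ClSub.unitToPush ρ)).symm 1 h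
  exact @Function.Surjective.subsingleton _ _ _ h' (Groth.ModelsGraphs.RatSingPush.edgeAb_one_bijective (X := X'.toTopCat) (Y := X.toTopCat) ρ.base
    (Coh.toAb (Coh.structureModule X')) hz).2

/-- `PushIso` gives `ρ_* O = O`. -/
theorem isIso_unitToPush_of_pushIso (h : Groth.AlgGrp1.PushIso ρ) : IsIso (ClSub.unitToPush ρ) := by
  have hb : ∀ U : X.Opens, Function.Bijective (ρ.app U) := fun U =>
    Groth.PicAux.Seesaw.app_bijective_of_basis ρ (fun W => IsIso (ρ.app W))
      (fun W hW => ConcreteCategory.bijective_of_isIso (ρ.app W))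
      (fun V t ht => by
        obtain ⟨B, -, htB, hBV, hB⟩ := h V t ht
        exact ⟨B, hB, htB, hBV⟩) U
  exact Scheme.Modules.Hom.isIso_iff_isIso_app.mpr fun U =>
    (ConcreteCategory.isIso_iff_bijective _).mpr (hb U)

/-- A contraction of a point keeps `H¹(O) = 0`. -/
theorem subsingleton_H1_contraction {E Y Z : Scheme.{u}} (ι : E ⟶ Y) (b : Y ⟶ Z) (hb : Models.IsContractionOf ι b)
    (h : Subsingleton (Coh.HH Z (Coh.structureModule Z) 1)) :
    Subsingleton (Coh.HH Y (Coh.structureModule Y) 1) := by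
  obtain ⟨hN, hp, y, hy, -, hreg, hdim, hbl⟩ := hb
  haveI := hN
  haveI := hp
  haveI := hreg
  haveI := Groth.Ega4Algebra1.isDomain_of_isRegularLocalRing (Z.presheaf.stalk y)
  haveI := Groth.Ega4Algebra1.isIntegrallyClosed_of_isRegularLocalRing (Z.presheaf.stalk y)
  have hnf : ¬ IsField (Z.presheaf.stalk y) := fun hf => by
    rw [ringKrullDim_eq_zero_of_isField hf] at hdim
    exact absurd hdim (by norm_num)
  haveI := isIso_unitToPush_of_pushIso b (PointContraction.pushIso hbl hnf)
  refine subsingleton_H1_top b (isZero_RpushAb_one_of b fun x hx W j q hpb => ?_) h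
  by_cases hxy : x = y
  · subst hxy
    have : Flat (Z.fromSpecStalk x) := PointContraction.flat_fromSpecStalk x
    have hq : BlowUp.IsBlowUp q (Groth.BlowUpBasics.sheafOf (IsLocalRing.maximalIdeal (Z.presheaf.stalk x))) :=
      PointContraction.comap_vanishingIdeal_fromSpecStalk x hx ▸
        Groth.BlowUpBasics.isBlowUp_of_isPullback hbl hpb.flip
    refine Groth.Agent.S1624.result (Z.presheaf.stalk x) hdim W q hq (Coh.structureModule W) inferInstance ?_
    refine ⟨PUnit.{u + 1}, Sigma.desc fun _ => 𝟙 _, ?_⟩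
    haveI : IsSplitEpi (Sigma.desc fun _ : PUnit.{u + 1} => 𝟙 (Coh.structureModule W)) :=
      IsSplitEpi.mk' ⟨Sigma.ι (fun _ : PUnit.{u + 1} => Coh.structureModule W) PUnit.unit,
        Sigma.ι_desc (fun _ : PUnit.{u + 1} => 𝟙 (Coh.structureModule W)) PUnit.unit⟩
    exact (inferInstance : Epi (Sigma.desc fun _ : PUnit.{u + 1} => 𝟙 (Coh.structureModule W)))
  · let V : Z.Opens := ⟨({y} : Set Z)ᶜ, hy.isOpen_compl⟩
    haveI : IsIso (b ∣_ V) := PointContraction.isIso_restrict hbl fun hh => hh rfl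
    have hr : Set.range (Z.fromSpecStalk x) ⊆ Set.range V.ι := by
      rw [Scheme.Opens.range_ι, Scheme.range_fromSpecStalk]
      intro z hz (hzy : z = y)
      exact hxy ((hzy ▸ hz : y ⤳ x).mem_closed hy rfl)
    let t := IsOpenImmersion.lift V.ι (Z.fromSpecStalk x) hr
    have ht : t ≫ V.ι = Z.fromSpecStalk x := IsOpenImmersion.lift_fac _ _ _
    haveI : IsIso q := by
      let hU := isPullback_morphismRestrict b V
      have hj : Set.range j ⊆ Set.range (b ⁻¹ᵁ V).ι := by
        rw [Scheme.Opens.range_ι]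
        rintro _ ⟨w, rfl⟩
        show b (j w) ∈ V
        rw [← Scheme.Hom.comp_apply, hpb.w, Scheme.Hom.comp_apply]
        have := hr ⟨q w, rfl⟩
        rwa [Scheme.Opens.range_ι] at this
      let j' := IsOpenImmersion.lift (b ⁻¹ᵁ V).ι j hj
      have hj' : j' ≫ (b ⁻¹ᵁ V).ι = j := IsOpenImmersion.lift_fac _ _ _
      have hres : IsPullback j' q (b ∣_ V) t := by
        refine IsPullback.of_right ?_ ?_ hU.flip
        · rw [hj', ht]; exact hpb
        · rw [← cancel_mono V.ι, Category.assoc, Category.assoc, morphismRestrict_ι, reassoc_of% hj',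
            ht, hpb.w]
      exact MorphismProperty.of_isPullback (P := MorphismProperty.isomorphisms Scheme) hres ‹IsIso (b ∣_ V)›
    haveI : IsAffine W := IsAffine.of_isIso q
    exact subsingleton_H1_of_isAffine W

/-- Blowing up a point of an integral scheme gives an integral scheme. -/
theorem isIntegral_contraction {E Y Z : Scheme.{u}} (ι : E ⟶ Y) (b : Y ⟶ Z) (hb : Models.IsContractionOf ι b)
    [IsIntegral Z] : IsIntegral Y := by
  obtain ⟨-, -, y, hy, -, -, hdim, hbl⟩ := hb
  refine (Groth.Agent.S2348.result _ (fun h0 => ?_) b hbl).1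
  have h1 := congrArg (fun J : Z.IdealSheafData => (J.support : Set Z)) h0
  simp only [Scheme.IdealSheafData.coe_support_vanishingIdeal, Scheme.IdealSheafData.support_bot] at h1
  have hall : ∀ z : Z, z = y := fun z => h1.ge trivial
  have hfield : IsField (Z.presheaf.stalk (genericPoint Z)) := Field.toIsField Z.functionField
  have h0' := ringKrullDim_eq_zero_of_isField hfield
  rw [hall (genericPoint Z), hdim] at h0'
  replace hdim := h0'
  exact absurd hdim (by norm_num)

/-- Contraction sequences over an integral scheme with `H¹(O) = 0`. -/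
theorem contractionSeq {Y Z : Scheme.{u}} {g : Y ⟶ Z} (hg : Models.IsContractionSeq g) :
    IsProper g ∧ ∀ [IsIntegral Z], Subsingleton (Coh.HH Z (Coh.structureModule Z) 1) →
      IsIntegral Y ∧ Subsingleton (Coh.HH Y (Coh.structureModule Y) 1) := by
  induction hg with
  | @iso Y Z e =>
    refine ⟨inferInstance, fun h => ?_⟩
    haveI : Nonempty Y := ⟨e.inv (genericPoint Z)⟩
    haveI : IsIso (ClSub.unitToPush e.inv) := isIso_unitToPush_of_pushIso e.inv
      (Groth.AlgGrp1.pushIso_of_isIso_app fun U _ => inferInstance)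
    exact ⟨isIntegral_of_isOpenImmersion e.hom, subsingleton_H1_of_dominated e.inv h⟩
  | @step Y Z' Z E ι b r hι hE hb hr ih =>
    haveI : IsProper b := hb.2.1
    haveI := ih.1
    refine ⟨inferInstance, fun h => ?_⟩
    obtain ⟨hint, h1⟩ := ih.2 h
    exact ⟨isIntegral_contraction ι b hb, subsingleton_H1_contraction ι b hb h1⟩

/-- A proper birational morphism onto a normal two dimensional local scheme is an isomorphism off the
closed point. -/
theorem isIso_restrict_punctured {A : Type u} [CommRing A] [IsLocalRing A] [IsNoetherianRing A] [IsDomain A]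
    [IsIntegrallyClosed A] (hdim : ringKrullDim A ≤ 2) {X : Scheme.{u}} (f : X ⟶ Spec (CommRingCat.of A))
    [IsProper f] [IsIntegral X] (hgen : f (genericPoint X) = genericPoint (Spec (CommRingCat.of A)))
    (hbir : IsIso (f.stalkMap (genericPoint X))) (U : (Spec (CommRingCat.of A)).Opens)
    (hne : ((f ⁻¹ᵁ U : X.Opens) : Set X).Nonempty) (hiso : IsIso (f ∣_ U))
    (W : (Spec (CommRingCat.of A)).Opens) (hW : IsLocalRing.closedPoint A ∉ W) : IsIso (f ∣_ W) := by
  have key : ∀ P ∈ W, ∃ V : (Spec (CommRingCat.of A)).Opens, P ∈ V ∧ V ≤ W ∧ IsIso (f ∣_ V) := by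
    intro P hP
    have hPm : P.asIdeal < IsLocalRing.maximalIdeal A :=
      lt_of_le_of_ne (IsLocalRing.le_maximalIdeal P.isPrime.ne_top) fun h => hW (by
        rwa [show P = IsLocalRing.closedPoint A from PrimeSpectrum.ext h] at hP)
    have hheight : Order.coheight P ≤ ((0 + 1 : ℕ) : ℕ∞) := by
      have h1 : P.asIdeal.height < (IsLocalRing.maximalIdeal A).height := Ideal.height_strict_mono_of_isPrime hPm
      have h2 : (IsLocalRing.maximalIdeal A).height ≤ 2 := WithBot.coe_le_coe.1
        ((IsLocalRing.maximalIdeal_height_eq_ringKrullDim).le.trans hdim)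
      rw [show Order.coheight P = P.asIdeal.height from (idealHeight_eq_coheight (CommRingCat.of A) P).symm]
      exact (ENat.lt_add_one_iff (ENat.natCast_ne_top (0 + 1))).1 (lt_of_lt_of_le h1 (h2.trans (by norm_num)))
    have hd0 := Groth.ResPropLib.fiber_dim_le f U ((f ⁻¹ᵁ U).2.dense hne)
      (fun y hy => Groth.ResPropLib.finite_fiber_of_isIso f U hiso y hy) P 0 hheight
    haveI : LocallyOfFiniteType (f.fiberToSpecResidueField P) :=
      MorphismProperty.pullback_snd (P := @LocallyOfFiniteType) _ _ inferInstance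
    haveI : IsLocallyNoetherian (f.fiber P) :=
      LocallyOfFiniteType.isLocallyNoetherian (f.fiberToSpecResidueField P)
    haveI := IsLocallyArtinian.of_topologicalKrullDim_le_zero (X := f.fiber P) hd0
    have hsurj : P ∈ Set.range f := by
      have h1 : genericPoint (Spec (CommRingCat.of A)) ∈ Set.range f := ⟨_, hgen⟩
      exact (genericPoint_specializes P).mem_closed f.isClosedMap.isClosed_range h1
    obtain ⟨x, hx⟩ := hsurj
    obtain ⟨z, -⟩ : ∃ z, f.fiberι P z = x := (f.range_fiberι P).ge hx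
    letI : Algebra A ((Spec (CommRingCat.of A)).presheaf.stalk P) := StructureSheaf.stalkAlgebra A P
    haveI : IsLocalization.AtPrime ((Spec (CommRingCat.of A)).presheaf.stalk P) P.asIdeal :=
      StructureSheaf.IsLocalization.to_stalk A P
    haveI : IsIntegrallyClosed ((Spec (CommRingCat.of A)).presheaf.stalk P) :=
      isIntegrallyClosed_of_isLocalization _ P.asIdeal.primeCompl P.asIdeal.primeCompl_le_nonZeroDivisors
    obtain ⟨V, hPV, hV⟩ := Groth.Limits.exists_isIso_of_isolated_normal f hgen hbir P inferInstance z (isOpen_discrete _)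
    haveI := hV
    exact ⟨V ⊓ W, ⟨hPV, hP⟩, inf_le_right, Groth.ArSurfBasics.Principalization.isIso_restrict_mono f inf_le_left⟩
  choose V hV hVW hVi using key
  refine (IsZariskiLocalAtTarget.iff_of_iSup_eq_top (P := MorphismProperty.isomorphisms Scheme)
    (fun P : W => W.ι ⁻¹ᵁ V P.1 P.2) ?_).mpr fun P => ?_
  · exact eq_top_iff.2 fun w _ => Opens.mem_iSup.2 ⟨w, hV w.1 w.2⟩
  refine ((MorphismProperty.isomorphisms Scheme.{u}).arrow_mk_iso_iff
    (morphismRestrictRestrict f W (W.ι ⁻¹ᵁ V P.1 P.2))).2 ?_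
  have e : W.ι ''ᵁ (W.ι ⁻¹ᵁ V P.1 P.2) = V P.1 P.2 := by
    rw [Scheme.Hom.image_preimage_eq_opensRange_inf, Scheme.Opens.opensRange_ι, inf_eq_right]
    exact hVW P.1 P.2
  rw [e]
  exact hVi P.1 P.2

end Groth.ResolveSurf.RegularRational
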