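import Groth.Prelude.Def_Pi1
import Groth.Prelude.Def_Curv2
import Groth.Agent.PropsBasic.NagataNormalization
import Groth.Agent.LocImm.NormalizationBirational
import Groth.Agent.Calg1.NagataTheorem
import Groth.Agent.PropsBasic.NagataLocal
import Groth.Agent.S9674
import Groth.Agent.S9833

/-!
Normalizations of schemes of finite type over Nagata bases.
-/

set_option autoImplicit false
universe u

open CategoryTheory CategoryTheory.Limits AlgebraicGeometry TopologicalSpace

namespace Groth.ResolveSurf.Normalization

variable {X S : Scheme.{u}}

/-- Schemes locally of finite type over a Nagata scheme are Nagata. -/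
theorem isNagata_of_locallyOfFiniteType (g : X ⟶ S) [LocallyOfFiniteType g]
    (hS : ∀ U : S.affineOpens, CAlg.IsNagata Γ(S, U)) (U : X.affineOpens) : CAlg.IsNagata Γ(X, U) := by
  have h : ∀ x : X, ∃ (V : S.affineOpens) (W : X.Opens), IsAffineOpen W ∧ x ∈ W ∧ W ≤ g ⁻¹ᵁ V.1 := by
    intro x
    obtain ⟨V, hV, hxV, -⟩ := exists_isAffineOpen_mem_and_subset (U := ⊤) (Set.mem_univ (g x))
    obtain ⟨W, hW, hxW, hWV⟩ := exists_isAffineOpen_mem_and_subset (U := g ⁻¹ᵁ V) hxV
    exact ⟨⟨V, hV⟩, W, hW, hxW, hWV⟩
  choose V W hW hxW hWV using h
  refine Groth.Agent.S9833.result X W (eq_top_iff.2 fun x _ => Opens.mem_iSup.2 ⟨x, hxW x⟩) hW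
    (fun x => ?_) U.1 U.2
  let := (g.appLE (V x) (W x) (hWV x)).hom.toAlgebra
  have : Algebra.FiniteType Γ(S, (V x).1) Γ(X, W x) := g.finiteType_appLE (V x).2 (hW x) (hWV x)
  exact Groth.Calg1.isNagata_of_finiteType (R := Γ(S, (V x).1)) (hS (V x))

/-- The affine opens of the spectrum of a Nagata ring. -/
theorem isNagata_spec {A : Type u} [CommRing A] (hA : CAlg.IsNagata A)
    (U : (Spec (CommRingCat.of A)).affineOpens) : CAlg.IsNagata Γ(Spec (CommRingCat.of A), U) := by
  refine Groth.Agent.S9833.result (Spec (CommRingCat.of A)) (fun _ : PUnit => ⊤) iSup_const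
    (fun _ => isAffineOpen_top (Spec (CommRingCat.of A))) (fun _ => ?_) U.1 U.2
  exact Groth.PropsBasic.isNagata_of_ringEquiv
    (Scheme.ΓSpecIso (CommRingCat.of A)).symm.commRingCatIsoToRingEquiv hA

/-- Residue field maps of preimmersions are surjective. -/
theorem residueFieldMap_surjective (f : X ⟶ S) [IsPreimmersion f] (x : X) :
    Function.Surjective (f.residueFieldMap x).hom := fun z => by
  obtain ⟨z', rfl⟩ := X.residue_surjective x z
  obtain ⟨w, rfl⟩ := f.stalkMap_surjective x z'
  exact ⟨S.residue (f x) w, congr($(Scheme.residue_residueFieldMap f x) w)⟩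

/-- The normalization of a Nagata integral scheme is finite. -/
theorem isFinite_normalizationι (X : Scheme.{u}) [IsIntegral X]
    [QuasiCompact (X.fromSpecStalk (genericPoint X))] [QuasiSeparated (X.fromSpecStalk (genericPoint X))]
    (hX : ∀ U : X.affineOpens, CAlg.IsNagata Γ(X, U)) : IsFinite (Curv2.normalizationι X) := by
  have hred : IsReduced (Spec (X.presheaf.stalk (genericPoint X))) := inferInstance
  have : Subsingleton ↥(Spec (X.presheaf.stalk (genericPoint X))) :=
    inferInstanceAs (Subsingleton (PrimeSpectrum X.functionField))
  exact Groth.Agent.S9674.result (X.fromSpecStalk (genericPoint X)) hX (locallyFinite_of_finite _)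
    fun x _ => RingHom.FiniteType.essFiniteType
      (RingHom.FiniteType.of_surjective _ (residueFieldMap_surjective _ x))

/-- A finite map from a normal integral scheme onto the closure of a point, birational onto it. -/
theorem exists_normalization_point [CompactSpace X] [X.IsSeparated]
    (hX : ∀ U : X.affineOpens, CAlg.IsNagata Γ(X, U)) (c : X) :
    ∃ (Y : Scheme.{u}) (i : Y ⟶ X) (_ : IsIntegral Y), IsFinite i ∧ Pi1.IsNormalScheme Y ∧
      i (genericPoint ↥Y) = c ∧ Function.Surjective (i.stalkMap (genericPoint ↥Y)) := by
  let f := X.fromSpecResidueField c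
  have : QuasiSeparated f := inferInstance
  have : QuasiCompact f := inferInstance
  refine ⟨f.normalization, f.fromNormalization, inferInstance, ?_, fun n => ⟨inferInstance, ?_⟩, ?_, ?_⟩
  · exact Groth.Agent.S9674.result f hX (locallyFinite_of_finite _) fun x _ =>
      RingHom.FiniteType.essFiniteType (RingHom.FiniteType.of_surjective _ (residueFieldMap_surjective f x))
  · exact Groth.LocImmersion.NormalizationBirational.isIntegrallyClosed_stalk f (fun x => by
      have : Subsingleton ↥(Spec (X.residueField c)) :=
        inferInstanceAs (Subsingleton (PrimeSpectrum (X.residueField c)))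
      have hx : x = genericPoint ↥(Spec (X.residueField c)) := Subsingleton.elim _ _
      subst hx
      let _ : Field ((Spec (X.residueField c)).presheaf.stalk (genericPoint ↥(Spec (X.residueField c)))) :=
        inferInstanceAs (Field (Spec (X.residueField c)).functionField)
      infer_instance) n
  · have h1 := Groth.LocImmersion.NormalizationBirational.apply_genericPoint f.toNormalization
    rw [← h1, ← Scheme.Hom.comp_apply, f.toNormalization_fromNormalization]
    exact X.fromSpecResidueField_apply c _
  · have h1 := Groth.LocImmersion.NormalizationBirational.apply_genericPoint f.toNormalization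
    set P := genericPoint ↥(Spec (X.residueField c)) with hP
    rw [← h1]
    have hs : Function.Surjective ((f.toNormalization ≫ f.fromNormalization).stalkMap P) :=
      (show IsPreimmersion (f.toNormalization ≫ f.fromNormalization) by
        rw [f.toNormalization_fromNormalization]; infer_instance).stalkMap_surjective P
    rw [Scheme.Hom.stalkMap_comp] at hs
    have hfield : IsField (f.normalization.presheaf.stalk (f.toNormalization P)) := by
      rw [h1]; exact Field.toIsField f.normalization.functionField
    let _ := hfield.toField
    intro z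
    obtain ⟨w, hw⟩ := hs (f.toNormalization.stalkMap P z)
    exact ⟨w, (f.toNormalization.stalkMap P).hom.injective hw⟩

end Groth.ResolveSurf.Normalization
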