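import Groth.Agent.ResolveSurf.CompletionPoint
import Groth.Agent.Calg1.CompletionLocal
import Groth.Agent.Agf.RegularPoints
import Mathlib.RingTheory.AdicCompletion.AsTensorProduct
import Mathlib.AlgebraicGeometry.Noetherian
import Mathlib.AlgebraicGeometry.Morphisms.Flat

/-!
# Regularity over the closed point does not change under completion
-/

set_option autoImplicit false

universe u

open CategoryTheory CategoryTheory.Limits AlgebraicGeometry IsLocalRing

namespace Groth.ResolveSurf.CompletionRegular

/-- A flat local extension inducing a bijection modulo the square of the maximal ideals preserves and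
reflects regularity. -/
theorem isRegularLocalRing_iff_of_mod_sq {S S' : Type u} [CommRing S] [CommRing S'] [IsLocalRing S]
    [IsLocalRing S'] [IsNoetherianRing S] [IsNoetherianRing S'] [Algebra S S'] [IsLocalHom (algebraMap S S')]
    [Module.Flat S S'] (hinj : ∀ s, algebraMap S S' s ∈ maximalIdeal S' ^ 2 → s ∈ maximalIdeal S ^ 2)
    (hsurj : ∀ y, ∃ s, y - algebraMap S S' s ∈ maximalIdeal S' ^ 2) :
    IsRegularLocalRing S' ↔ IsRegularLocalRing S := by
  have hle : (maximalIdeal S).map (algebraMap S S') ≤ maximalIdeal S' :=
    ((IsLocalRing.local_hom_TFAE (algebraMap S S')).out 0 2).1 (inferInstance : IsLocalHom (algebraMap S S'))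
  have hmem : ∀ s, algebraMap S S' s ∈ maximalIdeal S' → s ∈ maximalIdeal S := fun s hs hu =>
    hs (hu.map _)
  have hmap : (maximalIdeal S).map (algebraMap S S') = maximalIdeal S' := by
    refine le_antisymm hle (Submodule.le_of_le_smul_of_le_jacobson_bot (IsNoetherian.noetherian _)
      (maximalIdeal_le_jacobson ⊥) fun y hy => ?_)
    obtain ⟨s, hs⟩ := hsurj y
    have h2 : maximalIdeal S' ^ 2 ≤ maximalIdeal S' := Ideal.pow_le_self two_ne_zero
    have h1 : algebraMap S S' s ∈ maximalIdeal S' := by
      have := (maximalIdeal S').sub_mem hy (h2 hs)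
      rwa [sub_sub_cancel] at this
    rw [Submodule.mem_sup]
    refine ⟨_, Ideal.mem_map_of_mem _ (hmem s h1), _, ?_, add_sub_cancel _ _⟩
    rwa [Ideal.smul_eq_mul, ← pow_two]
  have hdim : ringKrullDim S' = ringKrullDim S := by
    have : (maximalIdeal S').LiesOver (maximalIdeal S) :=
      ⟨(IsLocalRing.maximalIdeal_comap (algebraMap S S')).symm⟩
    have h := Ideal.height_eq_height_add_of_liesOver_of_hasGoingDown (maximalIdeal S) (maximalIdeal S')
    have h0 : (maximalIdeal S').map (Ideal.Quotient.mk <| (maximalIdeal S).map (algebraMap S S')) = ⊥ := by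
      rw [hmap]; exact Ideal.map_quotient_self _
    rw [h0] at h
    have : Nontrivial (S' ⧸ (maximalIdeal S).map (algebraMap S S')) := by
      rw [Ideal.Quotient.nontrivial_iff, hmap]
      exact (maximalIdeal.isMaximal S').ne_top
    rw [Ideal.height_bot, add_zero] at h
    rw [← maximalIdeal_height_eq_ringKrullDim, ← maximalIdeal_height_eq_ringKrullDim, h]
  have hrank : (maximalIdeal S').spanFinrank = (maximalIdeal S).spanFinrank := by
    apply le_antisymm
    · rw [← hmap]
      have fg : (maximalIdeal S).FG := IsNoetherian.noetherian _
      have hgen : (maximalIdeal S).map (algebraMap S S') =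
          Submodule.span S' (algebraMap S S' '' (maximalIdeal S).generators) := by
        conv_lhs => rw [show maximalIdeal S = Ideal.span (maximalIdeal S).generators from
          (Submodule.span_generators _).symm]
        exact Ideal.map_span _ _
      have hfin : (maximalIdeal S).generators.Finite := Submodule.FG.finite_generators fg
      rw [hgen, ← Submodule.FG.generators_ncard fg]
      exact (Submodule.spanFinrank_span_le_ncard_of_finite (hfin.image _)).trans (Set.ncard_image_le hfin)
    · have fg : (maximalIdeal S').FG := IsNoetherian.noetherian _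
      have hfin : (maximalIdeal S').generators.Finite := Submodule.FG.finite_generators fg
      choose g hg using hsurj
      have hgm : ∀ y ∈ maximalIdeal S', g y ∈ maximalIdeal S := fun y hy => hmem _ (by
        have := (maximalIdeal S').sub_mem hy (Ideal.pow_le_self two_ne_zero (hg y))
        rwa [sub_sub_cancel] at this)
      let T : Ideal S := Submodule.span S (g '' (maximalIdeal S').generators)
      have hgenm : ∀ y ∈ (maximalIdeal S').generators, y ∈ maximalIdeal S' := fun y hy =>
        (Submodule.span_generators (maximalIdeal S')).le (Submodule.subset_span hy)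
      have hT : T = maximalIdeal S := by
        refine le_antisymm (Submodule.span_le.2 ?_) (Submodule.le_of_le_smul_of_le_jacobson_bot
          (IsNoetherian.noetherian _) (maximalIdeal_le_jacobson ⊥) fun s hs => ?_)
        · rintro _ ⟨y, hy, rfl⟩
          exact hgm y (hgenm y hy)
        · have hy : algebraMap S S' s ∈ Submodule.span S' (maximalIdeal S').generators := by
            rw [Submodule.span_generators]
            exact hle (Ideal.mem_map_of_mem _ hs)
          have key : ∀ y ∈ Submodule.span S' (maximalIdeal S').generators,
              ∃ t ∈ T, y - algebraMap S S' t ∈ maximalIdeal S' ^ 2 := by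
            intro y hy
            induction hy using Submodule.span_induction with
            | mem y hy => exact ⟨g y, Submodule.subset_span ⟨y, hy, rfl⟩, hg y⟩
            | zero => exact ⟨0, zero_mem _, by simp⟩
            | add a b _ _ ha hb =>
              obtain ⟨t, ht, ht'⟩ := ha
              obtain ⟨t', hu, hu'⟩ := hb
              refine ⟨t + t', add_mem ht hu, ?_⟩
              rw [map_add, add_sub_add_comm]
              exact add_mem ht' hu'
            | smul c a ha' ha =>
              obtain ⟨t, ht, ht'⟩ := ha
              refine ⟨g c * t, T.mul_mem_left _ ht, ?_⟩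
              have hta : algebraMap S S' t ∈ maximalIdeal S' := by
                have h1 : a ∈ maximalIdeal S' := by
                  rw [← Submodule.span_generators (maximalIdeal S')]; exact ha'
                have := (maximalIdeal S').sub_mem h1 (Ideal.pow_le_self two_ne_zero ht')
                rwa [sub_sub_cancel] at this
              have h2 := add_mem (Ideal.mul_mem_left _ c ht')
                (Ideal.mul_mem_right (algebraMap S S' t) _ (hg c))
              convert h2 using 1
              rw [smul_eq_mul, map_mul]
              ring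
          obtain ⟨t, ht, ht'⟩ := key _ hy
          rw [← map_sub] at ht'
          rw [Submodule.mem_sup]
          refine ⟨t, ht, s - t, ?_, add_sub_cancel _ _⟩
          rw [Ideal.smul_eq_mul, ← pow_two]
          exact hinj _ ht'
      rw [← hT, ← Submodule.FG.generators_ncard fg]
      exact (Submodule.spanFinrank_span_le_ncard_of_finite (hfin.image _)).trans (Set.ncard_image_le hfin)
  rw [isRegularLocalRing_iff, isRegularLocalRing_iff, hdim, hrank]

variable (A : Type u) [CommRing A] [IsLocalRing A] [IsNoetherianRing A] {X : Scheme.{u}}
  (f : X ⟶ Spec (CommRingCat.of A)) [LocallyOfFiniteType f]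

instance : IsLocallyNoetherian (Curv2.bcCpl A f) := by
  have : IsNoetherianRing (Curv2.cpl A) :=
    Groth.Calg1.isNoetherianRing_adicCompletion _ (IsNoetherian.noetherian (maximalIdeal A))
  exact LocallyOfFiniteType.isLocallyNoetherian (Curv2.bcCplSnd A f)

instance : Flat (Curv2.bcCplFst A f) := by
  have : Flat (Spec.map (CommRingCat.ofHom (algebraMap A (Curv2.cpl A)))) := by
    rw [HasRingHomProperty.Spec_iff (P := @Flat)]
    exact RingHom.flat_algebraMap_iff.2 inferInstance
  infer_instance

theorem isRegularLocalRing_stalk_iff (y : ↥(Curv2.bcCpl A f))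
    (hy : f.base ((Curv2.bcCplFst A f).base y) = closedPoint A) :
    IsRegularLocalRing ((Curv2.bcCpl A f).presheaf.stalk y) ↔
      IsRegularLocalRing (X.presheaf.stalk ((Curv2.bcCplFst A f).base y)) := by
  have : IsLocallyNoetherian X := LocallyOfFiniteType.isLocallyNoetherian f
  let φ := (Curv2.bcCplFst A f).stalkMap y
  let : Algebra (X.presheaf.stalk ((Curv2.bcCplFst A f).base y))
      ((Curv2.bcCpl A f).presheaf.stalk y) := φ.hom.toAlgebra
  have : Module.Flat (X.presheaf.stalk ((Curv2.bcCplFst A f).base y))
      ((Curv2.bcCpl A f).presheaf.stalk y) := Flat.stalkMap (Curv2.bcCplFst A f) y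
  have : IsLocalHom (algebraMap (X.presheaf.stalk ((Curv2.bcCplFst A f).base y))
      ((Curv2.bcCpl A f).presheaf.stalk y)) :=
    (inferInstance : IsLocalHom ((Curv2.bcCplFst A f).stalkMap y).hom)
  obtain ⟨hinj, hsurj⟩ := CompletionPoint.stalkMap_mod_pow A f (IsNoetherian.noetherian _) y hy 2 two_ne_zero
  exact isRegularLocalRing_iff_of_mod_sq hinj hsurj

omit [LocallyOfFiniteType f] in
theorem fst_closed_of_snd_closed (y : ↥(Curv2.bcCpl A f))
    (hy : (Curv2.bcCplSnd A f).base y = closedPoint (Curv2.cpl A)) :
    f.base ((Curv2.bcCplFst A f).base y) = closedPoint A := by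
  show (Curv2.bcCplFst A f ≫ f).base y = _
  rw [pullback.condition]
  show (Spec.map (CommRingCat.ofHom (algebraMap A (Curv2.cpl A)))).base ((Curv2.bcCplSnd A f).base y) = _
  rw [hy]
  have := AdicCompletion.algebraMap_isLocalHom_of_fg (R := A) (IsNoetherian.noetherian (maximalIdeal A))
  exact Spec_closedPoint (f := CommRingCat.ofHom (algebraMap A (Curv2.cpl A)))

/-- Every point of a proper scheme over a local ring specializes to a point of the closed fibre. -/
theorem exists_specializes_closed {R : Type u} [CommRing R] [IsLocalRing R] {Z : Scheme.{u}}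
    (g : Z ⟶ Spec (CommRingCat.of R)) [IsProper g] (z : Z) :
    ∃ z', z ⤳ z' ∧ g.base z' = closedPoint R := by
  have hcl : IsClosed (g.base '' closure {z}) := g.isClosedMap _ isClosed_closure
  have h : closedPoint R ∈ g.base '' closure {z} :=
    (IsLocalRing.specializes_closedPoint (g.base z)).mem_closed hcl ⟨z, subset_closure rfl, rfl⟩
  obtain ⟨z', hz', hz''⟩ := h
  exact ⟨z', specializes_iff_mem_closure.2 hz', hz''⟩

omit [LocallyOfFiniteType f] in
theorem forall_isRegularLocalRing_iff [IsProper f] :
    (∀ x : X, IsRegularLocalRing (X.presheaf.stalk x)) ↔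
      ∀ y : Curv2.bcCpl A f, IsRegularLocalRing ((Curv2.bcCpl A f).presheaf.stalk y) := by
  constructor
  · intro h y
    obtain ⟨y', hyy', hy'⟩ := exists_specializes_closed (Curv2.bcCplSnd A f) y
    have := (isRegularLocalRing_stalk_iff A f y' (fst_closed_of_snd_closed A f y' hy')).2 (h _)
    exact Groth.Agf.RegularPoints.isRegularLocalRing_stalk_of_specializes hyy'
  · intro h x
    obtain ⟨x', hxx', hx'⟩ := exists_specializes_closed f x
    obtain ⟨y, hy, -⟩ := Scheme.Pullback.exists_preimage_pullback (f := f)
      (g := Spec.map (CommRingCat.ofHom (algebraMap A (Curv2.cpl A)))) x' (closedPoint (Curv2.cpl A)) (by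
        rw [hx']
        have := AdicCompletion.algebraMap_isLocalHom_of_fg (R := A) (IsNoetherian.noetherian (maximalIdeal A))
        exact (Spec_closedPoint (f := CommRingCat.ofHom (algebraMap A (Curv2.cpl A)))).symm)
    have hy' : (Curv2.bcCplFst A f).base y = x' := hy
    have := (isRegularLocalRing_stalk_iff A f y (hy'.symm ▸ hx')).1 (h y)
    have : IsRegularLocalRing (X.presheaf.stalk x') := hy' ▸ this
    exact Groth.Agf.RegularPoints.isRegularLocalRing_stalk_of_specializes hxx'

end Groth.ResolveSurf.CompletionRegular
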