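import Groth.Prelude.Def_Curv2
import Groth.Agent.Limits.TopDegreeFibre
import Groth.Agent.ResPropLib.FibreBound
import Groth.Agent.QCohMod.Category

/-!
Cohomology vanishing on modifications of two dimensional local schemes.
-/

set_option autoImplicit false
set_option backward.isDefEq.respectTransparency.types false
universe u

open CategoryTheory CategoryTheory.Limits AlgebraicGeometry

namespace Groth.ResolveSurf.ModVanish

variable {A : Type u} [CommRing A] [IsNoetherianRing A] {X : Scheme.{u}}
  (f : X ⟶ Spec (CommRingCat.of A))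

/-- The fibres of a modification of a two dimensional scheme have dimension at most one. -/
theorem fiber_dim_le_one [IsProper f] [IsIntegral X] (hdim : ringKrullDim A ≤ 2)
    (U : (Spec (CommRingCat.of A)).Opens) (hne : ((f ⁻¹ᵁ U : X.Opens) : Set X).Nonempty)
    (hiso : IsIso (f ∣_ U)) (P : Spec (CommRingCat.of A)) :
    topologicalKrullDim ↥(f.fiber P) ≤ ((1 : ℕ) : WithBot ℕ∞) := by
  refine Groth.ResPropLib.fiber_dim_le f U ((f ⁻¹ᵁ U).2.dense hne)
    (fun y hy => Groth.ResPropLib.finite_fiber_of_isIso f U hiso y hy) P 1 ?_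
  have h := idealHeight_eq_coheight (CommRingCat.of A) P
  have h1 : ((P.asIdeal.height : ℕ∞) : WithBot ℕ∞) ≤ 2 :=
    (Ideal.height_le_ringKrullDim_of_ne_top P.isPrime.ne_top).trans hdim
  rw [h] at h1
  show Order.coheight P ≤ (2 : ℕ∞)
  exact WithBot.coe_le_coe.1 h1

omit [IsNoetherianRing A] in
theorem preimage_nonempty [IsIntegral X] {U : (Spec (CommRingCat.of A)).Opens}
    (hne : (U : Set (Spec (CommRingCat.of A))).Nonempty) (hiso : IsIso (f ∣_ U)) :
    ((f ⁻¹ᵁ U : X.Opens) : Set X).Nonempty := by
  obtain ⟨y, hy⟩ := hne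
  exact ⟨((inv (f ∣_ U)) ⟨y, hy⟩).1, ((inv (f ∣_ U)) ⟨y, hy⟩).2⟩

/-- A globally generated module has no first cohomology when the structure module has none and all
second cohomology of quasi-coherent modules vanishes. -/
theorem subsingleton_of_epi_free [X.Over (Spec (CommRingCat.of A))]
    [IsProper (X ↘ Spec (CommRingCat.of A))]
    (hd : ∀ P, topologicalKrullDim ↥((X ↘ Spec (CommRingCat.of A)).fiber P) ≤ ((1 : ℕ) : WithBot ℕ∞))
    (h0 : Subsingleton (Coh.HH X (Coh.structureModule X) 1))
    (F : X.Modules) [F.IsQuasicoherent] (hgg : Curv2.IsGloballyGenerated F) :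
    Subsingleton (Coh.HH X F 1) := by
  obtain ⟨ι, p, hp⟩ := hgg
  have hfree : Subsingleton (Coh.HH X (∐ fun _ : ι => Coh.structureModule X) 1) :=
    Groth.Limits.FibreVanishing.subsingleton_HH_free (A := A) 1 hd h0 ι
  let p' : (∐ fun _ : ι => Coh.structureModule X) ⟶ F := p
  have : Epi p' := hp
  have : (∐ fun _ : ι => Coh.structureModule X : X.Modules).IsQuasicoherent := inferInstance
  have : (kernel p').IsQuasicoherent := inferInstance
  have h2 : Subsingleton (Coh.HH X (kernel p') 2) :=
    Groth.Limits.FibreVanishing.subsingleton_HH_of_dim_fiber_le (A := A) 1 hd (kernel p') 2 one_lt_two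
  let S : ShortComplex X.Modules := ShortComplex.mk (kernel.ι p') p' (kernel.condition p')
  have hS : S.ShortExact :=
    { exact := ShortComplex.exact_of_f_is_kernel _ (kernelIsKernel p') }
  refine subsingleton_of_forall_eq 0 fun x => ?_
  obtain ⟨y, hy⟩ := Groth.CohC3.exists_of_hdelta_eq_zero (A := A) hS x
    (@Subsingleton.elim _ h2 _ _)
  rw [← hy, @Subsingleton.elim _ hfree y 0, map_zero]

end Groth.ResolveSurf.ModVanish
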