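import Groth.Agent.HensPair.ProperClopenNoeth
import Groth.Agent.Variety2.Normal

/-!
The integral closure of the base inside the functions of a normal integral scheme dominant over it.
-/

set_option autoImplicit false
universe u

open CategoryTheory AlgebraicGeometry

namespace Groth.ResolveSurf.AlterationH0

theorem exists_injective_algHom {A : Type u} [CommRing A] [IsDomain A] {X : Scheme.{u}} [IsIntegral X]
    (f : X ⟶ Spec (CommRingCat.of A)) [IsDominant f]
    (hno : ∀ x : X, IsIntegrallyClosed (X.presheaf.stalk x)) :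
    letI := RingHom.toAlgebra (Groth.HensPair.toΓ f)
    ∃ l : integralClosure A (FractionRing A) →ₐ[A] Γ(X, ⊤), Function.Injective l := by
  let _ : Algebra A Γ(X, ⊤) := RingHom.toAlgebra (Groth.HensPair.toΓ f)
  have hne : Nonempty (⊤ : X.Opens) := ⟨⟨genericPoint X, trivial⟩⟩
  have hic : IsIntegrallyClosed Γ(X, ⊤) := Groth.Variety2.isIntegrallyClosed_Γ hno ⊤
  have hinj : Function.Injective (algebraMap A Γ(X, ⊤)) := by
    rw [injective_iff_map_eq_zero]
    intro a ha
    by_contra h0
    obtain ⟨z, hz, x, rfl⟩ := (Scheme.Hom.denseRange f).inter_open_nonempty _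
      (PrimeSpectrum.isOpen_basicOpen (a := a)) ⟨⟨⊥, Ideal.isPrime_bot⟩, fun h => h0 (Ideal.mem_bot.1 h)⟩
    have h := (Groth.HensPair.mem_basicOpen_toGlobal f a x).2 ((PrimeSpectrum.mem_basicOpen _ _).1 hz)
    rw [show Groth.HensPair.toΓ f a = 0 from ha, Scheme.basicOpen_zero] at h
    exact h.elim
  let L := FractionRing Γ(X, ⊤)
  let ψ : FractionRing A →+* L := IsFractionRing.lift
    (g := (algebraMap Γ(X, ⊤) L).comp (algebraMap A Γ(X, ⊤)))
    ((IsFractionRing.injective Γ(X, ⊤) L).comp hinj)
  let ψ' : FractionRing A →ₐ[A] L := { ψ with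
    commutes' := fun a => (IsFractionRing.lift_algebraMap _ a).trans
      (IsScalarTower.algebraMap_apply A Γ(X, ⊤) L a).symm }
  let q : integralClosure A (FractionRing A) →ₐ[A] L := ψ'.comp (Subalgebra.val _)
  have hmem : q.range ≤ (IsScalarTower.toAlgHom A Γ(X, ⊤) L).range := by
    rintro _ ⟨z, rfl⟩
    exact IsIntegrallyClosed.isIntegral_iff.1 ((IsIntegral.map ψ' z.2).tower_top (A := Γ(X, ⊤)))
  let e := AlgEquiv.ofInjective (IsScalarTower.toAlgHom A Γ(X, ⊤) L) (IsFractionRing.injective Γ(X, ⊤) L)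
  refine ⟨e.symm.toAlgHom.comp ((Subalgebra.inclusion hmem).comp q.rangeRestrict), fun z w h => ?_⟩
  have h1 := congrArg Subtype.val (Subalgebra.inclusion_injective hmem (e.symm.injective h))
  exact Subtype.ext (ψ.injective h1)

end Groth.ResolveSurf.AlterationH0
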