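import Groth.Prelude.Def_Curv2
import Groth.Agent.PropsBasic.NagataNormalization
import Groth.Agent.PropsBasic.NagataLocal
import Groth.Agent.Calg1.NagataTheorem
import Groth.Agent.Calg1.NagataIntegralClosure
import Groth.Agent.Calg2.CompleteNagata
import Groth.Agent.Ega4Algebra1.FormalFibreLoci
import Mathlib

/-!
Finiteness of normalization when the generic formal fibre is reduced.
-/

set_option autoImplicit false
universe u

open CategoryTheory CategoryTheory.Limits AlgebraicGeometry TensorProduct

namespace Groth.ResolveSurf.AnalyticUnramified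

/-- Descent of finiteness of the integral closure from a faithfully flat Nagata algebra. -/
theorem finite_integralClosure_of_model {B : Type u} [CommRing B] {K : Type u} [Field K] [Algebra B K]
    [Algebra.EssFiniteType B K] (C : Type u) [CommRing C] [Algebra B C] [Module.FaithfullyFlat B C]
    (hC : CAlg.IsNagata C) [_root_.IsReduced (C ⊗[B] K)] : Module.Finite B (integralClosure B K) := by
  have := hC.1
  have : Module.Finite C (integralClosure C (C ⊗[B] K)) :=
    Groth.Calg1.finite_integralClosure_of_isReduced hC
  have : _root_.IsNoetherian C (integralClosure C (C ⊗[B] K)) := isNoetherian_of_isNoetherianRing_of_finite C _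
  let B' := integralClosure B K
  let l : C ⊗[B] B' →ₐ[C] C ⊗[B] K := Algebra.TensorProduct.map (AlgHom.id C C) B'.val
  have hl : Function.Injective l := Module.Flat.lTensor_preserves_injective_linearMap
    B'.val.toLinearMap Subtype.val_injective
  let l' : C ⊗[B] B' →ₐ[C] integralClosure C (C ⊗[B] K) :=
    l.codRestrict _ fun z => (Algebra.IsIntegral.isIntegral (R := C) z).map l
  have : Module.Finite C (C ⊗[B] B') := Module.Finite.of_injective l'.toLinearMap
    fun a b h => hl (congrArg Subtype.val h)
  exact Module.Finite.of_finite_tensorProduct_of_faithfullyFlat C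

/-- A domain of finite type over a Noetherian local ring with reduced generic formal fibre is N-1. -/
theorem finite_integralClosure (A : Type u) [CommRing A] [IsLocalRing A] [IsNoetherianRing A]
    (B : Type u) [CommRing B] [IsDomain B] [Algebra A B] [Algebra.FiniteType A B]
    (K : Type u) [Field K] [Algebra B K] [IsFractionRing B K] [Algebra A K] [IsScalarTower A B K]
    (hred : _root_.IsReduced (K ⊗[A] AdicCompletion (IsLocalRing.maximalIdeal A) A)) :
    Module.Finite B (integralClosure B K) := by
  let Ah := AdicCompletion (IsLocalRing.maximalIdeal A) A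
  have := Groth.Ega4b.isNoetherianRing_cpl A
  have : IsAdicComplete (IsLocalRing.maximalIdeal Ah) Ah := by
    rw [AdicCompletion.maximalIdeal_eq_map]
    exact AdicCompletion.isAdicComplete_self _ (IsLocalRing.maximalIdeal A).fg_of_isNoetherianRing
  have : Module.FaithfullyFlat A Ah := Groth.Ega4Algebra1.faithfullyFlat_cpl' A
  let C := B ⊗[A] Ah
  have hC : CAlg.IsNagata C := Groth.PropsBasic.isNagata_of_ringEquiv
    (Algebra.TensorProduct.comm A Ah B).toRingEquiv
    (Groth.Calg1.isNagata_of_finiteType (R := Ah) (Groth.Calg2.CompleteNagata.isNagata_of_isAdicComplete Ah))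
  have : _root_.IsReduced (C ⊗[B] K) := isReduced_of_injective
    ((Algebra.TensorProduct.comm B C K).toRingEquiv.trans
      (Algebra.TensorProduct.cancelBaseChange A B B K Ah).toRingEquiv) (RingEquiv.injective _)
  have : Algebra.EssFiniteType B K := Algebra.EssFiniteType.of_isLocalization K (nonZeroDivisors B)
  exact finite_integralClosure_of_model C hC

/-- The structure map to the function field. -/
noncomputable def toFunctionField {A : Type u} [CommRing A] {X : Scheme.{u}} [IrreducibleSpace X]
    (f : X ⟶ Spec (CommRingCat.of A)) : CommRingCat.of A ⟶ X.functionField :=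
  Spec.preimage (X.fromSpecStalk (genericPoint X) ≫ f)

theorem toFunctionField_eq {A : Type u} [CommRing A] {X : Scheme.{u}} [IrreducibleSpace X]
    (f : X ⟶ Spec (CommRingCat.of A)) {U : X.Opens} (hU : IsAffineOpen U) (hξ : genericPoint X ∈ U) :
    toFunctionField f = ((Scheme.ΓSpecIso (CommRingCat.of A)).inv ≫ f.appLE ⊤ U le_top) ≫
      X.presheaf.germ U (genericPoint X) hξ := by
  apply Spec.map_injective
  rw [toFunctionField, Spec.map_preimage, ← hU.fromSpecStalk_eq_fromSpecStalk hξ,
    IsAffineOpen.fromSpecStalk, Category.assoc, Spec.map_comp, Spec.map_comp]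
  congr 1
  rw [← IsAffineOpen.SpecMap_appLE_fromSpec f (isAffineOpen_top _) hU le_top, IsAffineOpen.fromSpec_top,
    Scheme.isoSpec_Spec_inv]

/-- The normalization is finite when the generic formal fibre is reduced. -/
theorem isFinite_normalizationι {A : Type u} [CommRing A] [IsLocalRing A] [IsNoetherianRing A]
    (X : Scheme.{u}) [IsIntegral X] (f : X ⟶ Spec (CommRingCat.of A)) [LocallyOfFiniteType f]
    [QuasiCompact (X.fromSpecStalk (genericPoint X))] [QuasiSeparated (X.fromSpecStalk (genericPoint X))]
    (hred : IsReduced (pullback (X.fromSpecStalk (genericPoint X) ≫ f)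
      (Spec.map (CommRingCat.ofHom (algebraMap A (Curv2.cpl A)))))) :
    IsFinite (Curv2.normalizationι X) := by
  refine Groth.PropsBasic.isFinite_fromNormalization _ fun U => ?_
  let j := X.fromSpecStalk (genericPoint X)
  let _ := (j.app U.1).hom.toAlgebra
  rcases (U.1 : Set X).eq_empty_or_nonempty with he | hne
  · have : j ⁻¹ᵁ U.1 = ⊥ := TopologicalSpace.Opens.ext (by simp [he])
    have : Subsingleton Γ(Spec (X.presheaf.stalk (genericPoint X)), j ⁻¹ᵁ U.1) :=
      CommRingCat.subsingleton_of_isTerminal ((Spec _).sheaf.isTerminalOfEqEmpty this)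
    infer_instance
  · have hξ : genericPoint X ∈ U.1 := ((genericPoint_spec X).mem_open_set_iff U.1.2).mpr (by simpa using hne)
    have : Nonempty U.1 := hne.to_subtype
    let φ : CommRingCat.of A ⟶ Γ(X, U.1) := (Scheme.ΓSpecIso (CommRingCat.of A)).inv ≫ f.appLE ⊤ U.1 le_top
    let _ : Algebra A Γ(X, U.1) := φ.hom.toAlgebra
    let _ : Algebra A X.functionField := (toFunctionField f).hom.toAlgebra
    have : IsScalarTower A Γ(X, U.1) X.functionField := IsScalarTower.of_algebraMap_eq fun a =>
      congr($(toFunctionField_eq f U.2 hξ) a)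
    have : Algebra.FiniteType A Γ(X, U.1) := RingHom.FiniteType.comp
      (f.finiteType_appLE (isAffineOpen_top _) U.2 le_top)
      (RingHom.FiniteType.of_surjective _ (ConcreteCategory.bijective_of_isIso (Scheme.ΓSpecIso (CommRingCat.of A)).inv).2)
    have : IsFractionRing Γ(X, U.1) X.functionField := functionField_isFractionRing_of_isAffineOpen X U.1 U.2
    have hred' : _root_.IsReduced (X.functionField ⊗[A] AdicCompletion (IsLocalRing.maximalIdeal A) A) := by
      let e := pullbackSpecIso A X.functionField (Curv2.cpl A)
      have hj : Spec.map (CommRingCat.ofHom (algebraMap A X.functionField)) = j ≫ f := Spec.map_preimage _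
      rw [← hj] at hred
      have := isReduced_of_isOpenImmersion e.inv
      exact (affine_isReduced_iff _).1 this
    have := finite_integralClosure A Γ(X, U.1) X.functionField hred'
    have htop : j ⁻¹ᵁ U.1 = ⊤ := eq_top_iff.2 fun z _ => by
      have hz : j z ⤳ genericPoint X :=
        (Scheme.range_fromSpecStalk (x := genericPoint X)).le ⟨z, rfl⟩
      exact hz.mem_open U.1.2 hξ
    let e : X.functionField ≅ Γ(Spec (X.presheaf.stalk (genericPoint X)), j ⁻¹ᵁ U.1) :=
      (Scheme.ΓSpecIso (X.presheaf.stalk (genericPoint X))).symm ≪≫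
        (Spec (X.presheaf.stalk (genericPoint X))).presheaf.mapIso (eqToIso htop).op
    let eA : X.functionField ≃ₐ[Γ(X, U.1)] Γ(Spec (X.presheaf.stalk (genericPoint X)), j ⁻¹ᵁ U.1) :=
      AlgEquiv.ofRingEquiv (f := e.commRingCatIsoToRingEquiv) fun s => by
        refine Eq.trans ?_ (congr($(Scheme.fromSpecStalk_app hξ) s)).symm
        rfl
    exact Module.Finite.equiv eA.mapIntegralClosure.toLinearEquiv

end Groth.ResolveSurf.AnalyticUnramified
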