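import Groth.Agent.Ega4Algebra2.NormalRingBasic
import Groth.Agent.Ega4Algebra1.AdicCompletionFibres
import Groth.Agent.ArtfunDeform.Completion
import Groth.Agent.S16443
import Mathlib

/-!
Completions of normal rings with a finite extension whose completion is normal.
-/

set_option autoImplicit false

universe u

namespace Groth.ResolveSurf.CplNormal

open Polynomial TensorProduct

/-- A normal ring is reduced. -/
theorem isReduced_of_isNormalRing {R : Type u} [CommRing R] (h : EGA4.IsNormalRing R) : IsReduced R := by
  refine Groth.Ega4Algebra1.isReduced_of_localizations R fun Q _ => ?_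
  have := (h Q).1
  exact ⟨Localization.AtPrime Q, inferInstance, inferInstance, Q.primeCompl, inferInstance,
    Set.disjoint_left.2 fun _ hx hxQ => hx hxQ, inferInstance⟩

/-- A reduced Artinian ring is normal. -/
theorem isNormalRing_of_artinian (R : Type u) [CommRing R] [IsArtinianRing R] [IsReduced R] :
    EGA4.IsNormalRing R := by
  intro p hp
  have : IsArtinianRing (Localization.AtPrime p) :=
    (IsArtinianRing.localization_surjective p.primeCompl (Localization.AtPrime p)).isArtinianRing
  have hf : IsField (Localization.AtPrime p) := IsArtinianRing.isField_of_isReduced_of_isLocalRing _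
  let := hf.toField
  exact ⟨inferInstance, inferInstance⟩

/-- In a normal ring a root of a rescaled monic polynomial is divisible. -/
theorem dvd_of_scaleRoots {R : Type u} [CommRing R] (h : EGA4.IsNormalRing R) {a b : R} {p : R[X]}
    (hp : p.Monic) (h0 : (p.scaleRoots b).eval a = 0) : b ∣ a := by
  rw [← Ideal.mem_span_singleton]
  refine Ideal.mem_of_localization_maximal fun P _ => ?_
  obtain ⟨h1, h2⟩ := h P
  let g := algebraMap R (Localization.AtPrime P)
  rw [Ideal.map_span, Set.image_singleton, Ideal.mem_span_singleton]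
  have hz : ((p.map g).scaleRoots (g b)).eval (g a) = 0 := by
    rw [Groth.Ega4b.scaleRoots_eval_map g hp, h0, map_zero]
  by_cases hb : g b = 0
  · rw [hb, scaleRoots_zero, (hp.map g).leadingCoeff, one_smul, eval_pow, eval_X] at hz
    rw [show algebraMap R (Localization.AtPrime P) a = 0 from eq_zero_of_pow_eq_zero hz]
    exact dvd_zero _
  · exact Groth.Ega4b.dvd_of_scaleRoots hb (hp.map g) hz

variable {B C : Type u} [CommRing B] [CommRing C] [Algebra B C]

/-- A reduced Noetherian ring acts through its total fraction ring, over which everything is flat. -/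
theorem flat_tensor_fractionRing [IsNoetherianRing B] [IsReduced B] (E : Type u) [AddCommGroup E]
    [Module B E] : Module.Flat B (FractionRing B ⊗[B] E) := by
  have : IsArtinianRing (FractionRing B) :=
    Groth.Agent.S16443.isArtinianRing_fractionRing (minimalPrimes.finite_of_isNoetherianRing B)
  have : IsReduced (FractionRing B) := inferInstance
  have : IsSemisimpleRing (FractionRing B) := IsArtinianRing.isSemisimpleRing_of_isReduced _
  have : Module.Projective (FractionRing B) (FractionRing B ⊗[B] E) :=
    Module.projective_of_isSemisimpleRing _ _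
  have : Module.Flat B (FractionRing B) := IsLocalization.flat _ (nonZeroDivisors B)
  exact Module.Flat.trans B (FractionRing B) (FractionRing B ⊗[B] E)

/-- Nonzerodivisors of the completion act injectively on completed torsion-free modules. -/
theorem isSMulRegular_completion [IsNoetherianRing B] [IsReduced B] (I : Ideal B)
    (E : Type u) [AddCommGroup E] [Module B E] [Module.Finite B E]
    (htf : ∀ d ∈ nonZeroDivisors B, ∀ e : E, d • e = 0 → e = 0)
    {y : AdicCompletion I B} (hy : y ∈ nonZeroDivisors (AdicCompletion I B))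
    {n : AdicCompletion I E} (hn : y • n = 0) : n = 0 := by
  have : Module.Flat B (FractionRing B ⊗[B] E) := flat_tensor_fractionRing E
  let ι : E →ₗ[B] FractionRing B ⊗[B] E := TensorProduct.mk B (FractionRing B) E 1
  have hι : Function.Injective ι := by
    rw [injective_iff_map_eq_zero]
    intro e he
    have h := (isLocalizedModule_iff_isBaseChange (nonZeroDivisors B) (FractionRing B) ι).2
      (TensorProduct.isBaseChange B E (FractionRing B))
    obtain ⟨d, hd⟩ := (IsLocalizedModule.eq_zero_iff (nonZeroDivisors B) ι).1 he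
    exact htf d d.2 e hd
  let e := AdicCompletion.ofTensorProductEquivOfFiniteNoetherian I E
  obtain ⟨t, rfl⟩ := e.surjective n
  rw [← map_smul, e.map_eq_zero_iff] at hn
  rw [e.map_eq_zero_iff]
  let Φ : AdicCompletion I B ⊗[B] E →ₗ[B] AdicCompletion I B ⊗[B] (FractionRing B ⊗[B] E) :=
    LinearMap.lTensor _ ι
  have hΦ : Function.Injective Φ := Module.Flat.lTensor_preserves_injective_linearMap ι hι
  let M : AdicCompletion I B →ₗ[B] AdicCompletion I B := LinearMap.mulLeft B y
  have hM : Function.Injective (LinearMap.rTensor (FractionRing B ⊗[B] E) M) :=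
    Module.Flat.rTensor_preserves_injective_linearMap M fun a b h =>
      mul_cancel_left_mem_nonZeroDivisors hy |>.1 h
  refine hΦ ?_
  rw [map_zero]
  refine hM ?_
  rw [map_zero]
  have key : ∀ s, LinearMap.rTensor (FractionRing B ⊗[B] E) M (Φ s) = Φ (y • s) := by
    intro s
    induction s using TensorProduct.induction_on with
    | zero => simp
    | tmul r x => rfl
    | add s s' h h' => rw [map_add, map_add, h, h', smul_add, map_add]
  rw [key, hn, map_zero]

/-- The maps of the truncations. -/
noncomputable def levelMap (I : Ideal B) (n : ℕ) :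
    AdicCompletion I B →+* C ⧸ (I.map (algebraMap B C)) ^ n :=
  (Ideal.quotientMap ((I.map (algebraMap B C)) ^ n) (algebraMap B C)
      (by rw [← Ideal.map_pow]; exact Ideal.le_comap_map)).comp (AdicCompletion.evalₐ I n).toRingHom

theorem levelMap_compat (I : Ideal B) {m n : ℕ} (h : m ≤ n) :
    (Ideal.Quotient.factorPow (I.map (algebraMap B C)) h).comp (levelMap I n) = levelMap I m := by
  refine RingHom.ext fun x => ?_
  obtain ⟨a, rfl⟩ := AdicCompletion.mk_surjective I B x
  simp only [levelMap, RingHom.comp_apply, AlgHom.toRingHom_eq_coe, RingHom.coe_coe, AdicCompletion.evalₐ_mk,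
    Ideal.quotientMap_mk, Ideal.Quotient.factor_mk]
  rw [Ideal.Quotient.eq, ← map_sub, ← Ideal.map_pow]
  have := SModEq.sub_mem.1 (a.property h)
  rw [smul_eq_mul, Ideal.mul_top] at this
  exact Ideal.mem_map_of_mem _ (sub_mem_comm_iff.1 this)

/-- The completion along an ideal of the base of an overring. -/
noncomputable def cplMap (I : Ideal B) :
    AdicCompletion I B →+* AdicCompletion (I.map (algebraMap B C)) C :=
  AdicCompletion.liftRingHom (I.map (algebraMap B C)) (levelMap I) (levelMap_compat I)

theorem evalₐ_cplMap_mk (I : Ideal B) (a : AdicCompletion.AdicCauchySequence I B) (n : ℕ) :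
    AdicCompletion.evalₐ (I.map (algebraMap B C)) n (cplMap I (AdicCompletion.mk I B a)) =
      Ideal.Quotient.mk _ (algebraMap B C (a.val n)) := by
  rw [cplMap, AdicCompletion.evalₐ_liftRingHom, levelMap]
  simp only [RingHom.comp_apply, AlgHom.toRingHom_eq_coe, RingHom.coe_coe, AdicCompletion.evalₐ_mk,
    Ideal.quotientMap_mk]

theorem mem_smul_top_iff (I : Ideal B) (n : ℕ) (x : C) :
    x ∈ (I ^ n • ⊤ : Submodule B C) ↔ x ∈ (I.map (algebraMap B C)) ^ n := by
  rw [Ideal.smul_top_eq_map, Submodule.restrictScalars_mem, Ideal.map_pow]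

theorem cplMap_injective [IsNoetherianRing B] [Module.Finite B C] (I : Ideal B)
    (hinj : Function.Injective (algebraMap B C)) : Function.Injective (cplMap (C := C) I) := by
  rw [injective_iff_map_eq_zero]
  intro x hx
  obtain ⟨a, rfl⟩ := AdicCompletion.mk_surjective I B x
  refine AdicCompletion.map_injective I (f := Algebra.linearMap B C) hinj ?_
  rw [map_zero, AdicCompletion.map_mk]
  ext n
  have h := evalₐ_cplMap_mk (C := C) I a n
  rw [hx, map_zero, eq_comm, Ideal.Quotient.eq_zero_iff_mem, ← mem_smul_top_iff] at h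
  exact (Submodule.Quotient.mk_eq_zero _).2 h

/-- Divisibility in the completion of `C` descends to the completion of `B`. -/
theorem dvd_of_cplMap_dvd [IsNoetherianRing B] [IsReduced B] [Module.Finite B C] (I : Ideal B)
    (hinj : Function.Injective (algebraMap B C))
    (hclosed : ∀ c : C, ∀ d ∈ nonZeroDivisors B, ∀ b : B, d • c = algebraMap B C b →
      ∃ b', d • (c - algebraMap B C b') = 0)
    {y a : AdicCompletion I B} (hy : y ∈ nonZeroDivisors (AdicCompletion I B))
    (h : cplMap (C := C) I y ∣ cplMap I a) : y ∣ a := by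
  obtain ⟨c, hc⟩ := h
  obtain ⟨ys, rfl⟩ := AdicCompletion.mk_surjective I B y
  obtain ⟨as, rfl⟩ := AdicCompletion.mk_surjective I B a
  obtain ⟨cs, rfl⟩ := AdicCompletion.mk_surjective _ C c
  let ι : B →ₗ[B] C := Algebra.linearMap B C
  let T : Submodule B C := Submodule.torsion B C
  let σ : B × T →ₗ[B] C := ι.coprod T.subtype
  let K : Submodule B C := LinearMap.range σ
  -- the quotient is torsion-free
  have htf : ∀ d ∈ nonZeroDivisors B, ∀ e : C ⧸ K, d • e = 0 → e = 0 := by
    intro d hd e he
    obtain ⟨c, rfl⟩ := Submodule.Quotient.mk_surjective K e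
    rw [← Submodule.Quotient.mk_smul, Submodule.Quotient.mk_eq_zero] at he
    obtain ⟨⟨b, t, ht⟩, hbt⟩ := he
    obtain ⟨d', hd'⟩ := (Submodule.mem_torsion_iff t).1 ht
    obtain ⟨b', hb'⟩ := hclosed c ((d' : B) * d) (mul_mem d'.2 hd) ((d' : B) * b) (by
      rw [mul_smul, ← hbt, LinearMap.coprod_apply, smul_add, map_mul]
      show (d' : B) • algebraMap B C b + (d' : B) • t = _
      rw [show (d' : B) • t = 0 from hd', add_zero, Algebra.smul_def])
    refine (Submodule.Quotient.mk_eq_zero K).2 ⟨⟨b', c - algebraMap B C b',
      (Submodule.mem_torsion_iff _).2 ⟨⟨_, mul_mem d'.2 hd⟩, hb'⟩⟩, ?_⟩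
    rw [LinearMap.coprod_apply]
    exact add_sub_cancel (algebraMap B C b') c
  -- the sequence as a module element
  let ns : AdicCompletion.AdicCauchySequence I C := ⟨cs.val, fun {m n} h => by
    rw [SModEq.sub_mem, mem_smul_top_iff]
    have := SModEq.sub_mem.1 (cs.property h)
    rwa [smul_eq_mul, Ideal.mul_top] at this⟩
  have hrel : AdicCompletion.mk I B ys • AdicCompletion.mk I C ns =
      AdicCompletion.map I ι (AdicCompletion.mk I B as) := by
    ext n
    have h := congrArg (AdicCompletion.evalₐ (I.map (algebraMap B C)) n) hc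
    rw [map_mul, evalₐ_cplMap_mk, evalₐ_cplMap_mk, AdicCompletion.evalₐ_mk, ← map_mul,
      Ideal.Quotient.eq, ← mem_smul_top_iff] at h
    show Submodule.Quotient.mk (p := (I ^ n • ⊤ : Submodule B C)) (ys.val n • cs.val n) =
      Submodule.Quotient.mk (algebraMap B C (as.val n))
    rw [← Algebra.smul_def] at h
    exact ((Submodule.Quotient.eq _).2 h).symm
  -- hence it comes from `K`
  have hπι : K.mkQ ∘ₗ ι = 0 := LinearMap.ext fun b => (Submodule.Quotient.mk_eq_zero K).2
    ⟨(b, 0), by simp [σ]⟩
  have hzero : AdicCompletion.map I K.mkQ (AdicCompletion.mk I C ns) = 0 := by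
    refine isSMulRegular_completion I (C ⧸ K) htf hy ?_
    rw [← map_smul, hrel, AdicCompletion.map_comp_apply, hπι, AdicCompletion.map_zero, LinearMap.zero_apply]
  have hexact : Function.Exact (AdicCompletion.map I K.subtype) (AdicCompletion.map I K.mkQ) :=
    AdicCompletion.map_exact K.subtype_injective (LinearMap.exact_subtype_mkQ K) K.mkQ_surjective
  obtain ⟨k, hk⟩ := (hexact _).1 hzero
  obtain ⟨z, rfl⟩ := AdicCompletion.map_surjective I σ.surjective_rangeRestrict k
  rw [AdicCompletion.map_comp_apply, show K.subtype ∘ₗ σ.rangeRestrict = σ from LinearMap.ext fun _ => rfl] at hk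
  -- the components
  have hσ : Function.Injective σ := by
    rw [injective_iff_map_eq_zero]
    rintro ⟨b, t, ht⟩ h0
    obtain ⟨d, hd⟩ := (Submodule.mem_torsion_iff t).1 ht
    have h0' : algebraMap B C b + t = 0 := h0
    have hb : b = 0 := by
      refine (mul_left_mem_nonZeroDivisors_eq_zero_iff d.2).1 (hinj ?_)
      rw [map_mul, map_zero, ← Algebra.smul_def, eq_neg_of_add_eq_zero_left h0', smul_neg]
      exact neg_eq_zero.2 hd
    subst hb
    rw [map_zero, zero_add] at h0'
    subst h0'
    rfl
  have hz : AdicCompletion.mk I B ys • z =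
      AdicCompletion.map I (LinearMap.inl B B T) (AdicCompletion.mk I B as) := by
    refine AdicCompletion.map_injective I hσ ?_
    rw [map_smul, hk, hrel, AdicCompletion.map_comp_apply, LinearMap.coprod_inl]
  refine ⟨AdicCompletion.map I (LinearMap.fst B B T) z, ?_⟩
  have h1 := congrArg (AdicCompletion.map I (LinearMap.fst B B T)) hz
  rw [map_smul, AdicCompletion.map_comp_apply, LinearMap.fst_comp_inl, AdicCompletion.map_id] at h1
  exact h1.symm

/-- If a finite extension of a normal ring has normal completion, so does the ring. -/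
theorem isNormalRing_completion [IsNoetherianRing B] [Module.Finite B C] (I : Ideal B)
    (hinj : Function.Injective (algebraMap B C)) (hB : EGA4.IsNormalRing B)
    (hC : EGA4.IsNormalRing (AdicCompletion (I.map (algebraMap B C)) C)) :
    EGA4.IsNormalRing (AdicCompletion I B) := by
  have : IsReduced B := isReduced_of_isNormalRing hB
  have : IsReduced (AdicCompletion (I.map (algebraMap B C)) C) := isReduced_of_isNormalRing hC
  have : IsReduced (AdicCompletion I B) :=
    isReduced_of_injective (cplMap (C := C) I) (cplMap_injective I hinj)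
  have : IsNoetherianRing (AdicCompletion I B) := Groth.ArtfunDeform.isNoetherianRing_completion I
  let Q := FractionRing (AdicCompletion I B)
  have : IsArtinianRing Q :=
    Groth.Agent.S16443.isArtinianRing_fractionRing (minimalPrimes.finite_of_isNoetherianRing _)
  have hclosed : ∀ c : C, ∀ d ∈ nonZeroDivisors B, ∀ b : B, d • c = algebraMap B C b →
      ∃ b', d • (c - algebraMap B C b') = 0 := by
    intro c d hd b hcb
    obtain ⟨p, hp, hp0⟩ := Algebra.IsIntegral.isIntegral (R := B) c
    have h0 : (p.scaleRoots d).eval b = 0 := hinj (by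
      rw [map_zero, ← eval₂_at_apply, ← hcb, Algebra.smul_def, scaleRoots_eval₂_mul, hp0, mul_zero])
    obtain ⟨b', hb'⟩ := dvd_of_scaleRoots hB hp h0
    exact ⟨b', by rw [smul_sub, hcb, hb', map_mul, ← Algebra.smul_def, sub_self]⟩
  refine Groth.Ega4b.isNormalRing_of_integrallyClosedIn (N := Q)
    (IsFractionRing.injective _ _) (isNormalRing_of_artinian Q) fun x hx => ?_
  obtain ⟨a, y, rfl⟩ := IsLocalization.exists_mk'_eq (nonZeroDivisors (AdicCompletion I B)) x
  obtain ⟨p, hp, hp0⟩ := hx
  have h0 : (p.scaleRoots (y : AdicCompletion I B)).eval a = 0 := by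
    apply IsFractionRing.injective (AdicCompletion I B) Q
    rw [map_zero, ← eval₂_at_apply, ← IsLocalization.mk'_spec' Q a y, scaleRoots_eval₂_mul, hp0, mul_zero]
  have hdvd : cplMap (C := C) I y ∣ cplMap I a := by
    refine dvd_of_scaleRoots hC (hp.map (cplMap I)) ?_
    rw [Groth.Ega4b.scaleRoots_eval_map (cplMap (C := C) I) hp, h0, map_zero]
  obtain ⟨r, hr⟩ := dvd_of_cplMap_dvd I hinj hclosed y.2 hdvd
  refine ⟨r, ?_⟩
  rw [eq_comm, IsLocalization.mk'_eq_iff_eq_mul, ← map_mul, hr, mul_comm]

end Groth.ResolveSurf.CplNormal
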