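import Groth.Prelude.Def_Curv2
import Mathlib.AlgebraicGeometry.Stalk
import Mathlib.AlgebraicGeometry.ResidueField
import Mathlib.RingTheory.AdicCompletion.Completeness
import Mathlib.RingTheory.AdicCompletion.LocalRing

/-!
# Points of the base change to the completion over the closed point
-/

set_option autoImplicit false

universe u

open CategoryTheory CategoryTheory.Limits AlgebraicGeometry IsLocalRing

namespace Groth.ResolveSurf.CompletionPoint

section Algebra

variable (A : Type u) [CommRing A] [IsLocalRing A]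

/-- Modulo a power of the maximal ideal every element of the completion comes from the ring. -/
theorem exists_sub_mem_map_pow (fg : (maximalIdeal A).FG) (n : ℕ) (x : Curv2.cpl A) :
    ∃ a : A, x - algebraMap A (Curv2.cpl A) a ∈ (maximalIdeal A ^ n).map (algebraMap A (Curv2.cpl A)) := by
  obtain ⟨a, ha⟩ := Submodule.mkQ_surjective _ (AdicCompletion.eval (maximalIdeal A) A n x)
  refine ⟨a, ?_⟩
  have h : x - algebraMap A (Curv2.cpl A) a ∈ maximalIdeal A ^ n • (⊤ : Submodule A (Curv2.cpl A)) := by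
    rw [AdicCompletion.pow_smul_top_eq_ker_eval fg, LinearMap.mem_ker, map_sub, AdicCompletion.algebraMap_apply,
      AdicCompletion.eval_of, Algebra.algebraMap_self, RingHom.id_apply, ha, sub_self]
  rw [Ideal.smul_top_eq_map] at h
  exact h

end Algebra

variable (A : Type u) [CommRing A] [IsLocalRing A] {X : Scheme.{u}} (f : X ⟶ Spec (CommRingCat.of A))

/-- A morphism from an Artinian local scheme to `X` landing over the closed point makes the structure map
kill a power of the maximal ideal. -/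
theorem le_maximalIdeal_of_closed {Q : CommRingCat.{u}} [IsLocalRing Q] (g : Spec Q ⟶ X)
    (hg : f.base (g.base (closedPoint Q)) = closedPoint A) :
    (maximalIdeal A).map (Spec.preimage (g ≫ f)).hom ≤ maximalIdeal Q := by
  have h : (g ≫ f).base (closedPoint Q) = closedPoint A := hg
  rw [← Spec.map_preimage (g ≫ f)] at h
  have h' := congrArg PrimeSpectrum.asIdeal h
  rw [Ideal.map_le_iff_le_comap]
  exact h'.ge

theorem exists_lift (fg : (maximalIdeal A).FG) {Q : CommRingCat.{u}} [IsLocalRing Q] {n : ℕ}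
    (hQ : maximalIdeal Q ^ n = ⊥) (g : Spec Q ⟶ X) (hg : f.base (g.base (closedPoint Q)) = closedPoint A) :
    ∃ s : Spec Q ⟶ Curv2.bcCpl A f, s ≫ Curv2.bcCplFst A f = g := by
  have _ := fg
  let θ := Spec.preimage (g ≫ f)
  have hθ : ∀ a ∈ maximalIdeal A ^ n, θ.hom a = 0 := by
    intro a ha
    have h1 : θ.hom a ∈ ((maximalIdeal A) ^ n).map θ.hom := Ideal.mem_map_of_mem _ ha
    rw [Ideal.map_pow] at h1
    have h2 := Ideal.pow_right_mono (le_maximalIdeal_of_closed A f g hg) n h1
    rw [hQ] at h2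
    exact h2
  let u : CommRingCat.of (Curv2.cpl A) ⟶ Q := CommRingCat.ofHom
    ((Ideal.Quotient.lift (maximalIdeal A ^ n) θ.hom hθ).comp
      (AdicCompletion.evalₐ (maximalIdeal A) n).toRingHom)
  have hu : CommRingCat.ofHom (algebraMap A (Curv2.cpl A)) ≫ u = θ := by
    ext a
    show Ideal.Quotient.lift (maximalIdeal A ^ n) θ.hom hθ
      (AdicCompletion.evalₐ (maximalIdeal A) n (algebraMap A (Curv2.cpl A) a)) = θ.hom a
    rw [AlgHom.commutes]
    rfl
  refine ⟨pullback.lift g (Spec.map u) ?_, pullback.lift_fst _ _ _⟩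
  rw [← Spec.map_comp, hu, Spec.map_preimage]

theorem hom_ext_of_closed (fg : (maximalIdeal A).FG) {Q : CommRingCat.{u}} [IsLocalRing Q] {n : ℕ}
    (hQ : maximalIdeal Q ^ n = ⊥) (g₁ g₂ : Spec Q ⟶ Curv2.bcCpl A f)
    (h : g₁ ≫ Curv2.bcCplFst A f = g₂ ≫ Curv2.bcCplFst A f)
    (hg : f.base ((g₁ ≫ Curv2.bcCplFst A f).base (closedPoint Q)) = closedPoint A) : g₁ = g₂ := by
  refine pullback.hom_ext h ?_
  obtain ⟨u₁, hu₁⟩ : ∃ u, Spec.map u = g₁ ≫ Curv2.bcCplSnd A f := Spec.map_surjective _
  obtain ⟨u₂, hu₂⟩ : ∃ u, Spec.map u = g₂ ≫ Curv2.bcCplSnd A f := Spec.map_surjective _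
  rw [← hu₁, ← hu₂]
  have hc : ∀ (g : Spec Q ⟶ Curv2.bcCpl A f) (u : CommRingCat.of (Curv2.cpl A) ⟶ Q),
      Spec.map u = g ≫ Curv2.bcCplSnd A f →
      CommRingCat.ofHom (algebraMap A (Curv2.cpl A)) ≫ u = Spec.preimage ((g ≫ Curv2.bcCplFst A f) ≫ f) := by
    intro g u hu
    apply Spec.map_injective
    rw [Spec.map_comp, hu, Spec.map_preimage, Category.assoc, Category.assoc, pullback.condition]
  have h₁ := hc g₁ u₁ hu₁
  have h₂ := hc g₂ u₂ hu₂
  rw [← h] at h₂
  have hle := le_maximalIdeal_of_closed A f (g₁ ≫ Curv2.bcCplFst A f) hg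
  congr 1
  ext x
  obtain ⟨a, ha⟩ := exists_sub_mem_map_pow A fg n x
  have hkill : ∀ u : CommRingCat.of (Curv2.cpl A) ⟶ Q,
      CommRingCat.ofHom (algebraMap A (Curv2.cpl A)) ≫ u =
        Spec.preimage ((g₁ ≫ Curv2.bcCplFst A f) ≫ f) →
      u.hom x = (Spec.preimage ((g₁ ≫ Curv2.bcCplFst A f) ≫ f)).hom a := by
    intro u hu
    have h1 : u.hom (x - algebraMap A (Curv2.cpl A) a) ∈
        ((maximalIdeal A ^ n).map (algebraMap A (Curv2.cpl A))).map u.hom := Ideal.mem_map_of_mem _ ha
    rw [Ideal.map_map, Ideal.map_pow,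
      show u.hom.comp (algebraMap A (Curv2.cpl A)) = (Spec.preimage ((g₁ ≫ Curv2.bcCplFst A f) ≫ f)).hom from
        congrArg CommRingCat.Hom.hom hu] at h1
    have h2 := Ideal.pow_right_mono hle n h1
    rw [hQ, Submodule.mem_bot, map_sub, sub_eq_zero] at h2
    rw [h2]
    exact RingHom.congr_fun (congrArg CommRingCat.Hom.hom hu) a
  rw [hkill u₁ h₁, hkill u₂ h₂]

/-- There is only one point over a given point of the closed fibre. -/
theorem eq_of_fst_eq (fg : (maximalIdeal A).FG) (y₁ y₂ : ↥(Curv2.bcCpl A f))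
    (h : (Curv2.bcCplFst A f).base y₁ = (Curv2.bcCplFst A f).base y₂)
    (hy : f.base ((Curv2.bcCplFst A f).base y₁) = closedPoint A) : y₁ = y₂ := by
  let p := (Curv2.bcCplFst A f).base y₁
  let K := X.residueField p
  have hK : maximalIdeal K ^ 1 = ⊥ := by
    rw [pow_one, IsLocalRing.maximalIdeal_eq_bot]
  have hg : f.base ((X.fromSpecResidueField p).base (closedPoint K)) = closedPoint A := by
    exact (congrArg f.base (Scheme.fromSpecResidueField_apply p _)).trans hy
  obtain ⟨t, ht⟩ := exists_lift A f fg hK (X.fromSpecResidueField p) hg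
  have key : ∀ y : ↥(Curv2.bcCpl A f), (Curv2.bcCplFst A f).base y = p → y = t.base (closedPoint K) := by
    intro y hyp
    let L := (Curv2.bcCpl A f).residueField y
    have hL : maximalIdeal L ^ 1 = ⊥ := by
      rw [pow_one, IsLocalRing.maximalIdeal_eq_bot]
    let g₁ := (Curv2.bcCpl A f).fromSpecResidueField y
    let g₂ := Spec.map ((X.residueFieldCongr hyp.symm).hom ≫ (Curv2.bcCplFst A f).residueFieldMap y) ≫ t
    have he : g₁ ≫ Curv2.bcCplFst A f = g₂ ≫ Curv2.bcCplFst A f := by
      simp only [g₁, g₂, Category.assoc, ht, Spec.map_comp,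
        Scheme.residueFieldCongr_fromSpecResidueField, Scheme.Hom.SpecMap_residueFieldMap_fromSpecResidueField]
    have hg₁ : f.base ((g₁ ≫ Curv2.bcCplFst A f).base (closedPoint L)) = closedPoint A := by
      show f.base ((Curv2.bcCplFst A f).base (g₁.base (closedPoint L))) = _
      refine (congrArg (fun z => f.base ((Curv2.bcCplFst A f).base z))
        (Scheme.fromSpecResidueField_apply y _)).trans ?_
      exact (congrArg f.base hyp).trans hy
    have := congrArg (fun g => g.base (closedPoint L)) (hom_ext_of_closed A f fg hL g₁ g₂ he hg₁)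
    refine ((Scheme.fromSpecResidueField_apply y (closedPoint L)).symm.trans this).trans ?_
    show t.base _ = _
    congr 1
    exact Subsingleton.elim _ _
  rw [key y₁ rfl, key y₂ h.symm]

theorem exists_stalk_hom {Y : Scheme.{u}} {Q : CommRingCat.{u}} [IsLocalRing Q] (s : Spec Q ⟶ Y) (q : Y)
    (h : s.base (closedPoint Q) = q) :
    ∃ ψ : Y.presheaf.stalk q ⟶ Q, IsLocalHom ψ.hom ∧ Spec.map ψ ≫ Y.fromSpecStalk q = s := by
  subst h
  exact ⟨Scheme.stalkClosedPointTo s, inferInstance, Scheme.Spec_stalkClosedPointTo_fromSpecStalk s⟩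

/-- The local rings agree modulo all powers of the maximal ideals. -/
theorem stalkMap_mod_pow (fg : (maximalIdeal A).FG) (q : ↥(Curv2.bcCpl A f))
    (hq : f.base ((Curv2.bcCplFst A f).base q) = closedPoint A) (n : ℕ) (hn : n ≠ 0) :
    (∀ s, ((Curv2.bcCplFst A f).stalkMap q).hom s ∈ maximalIdeal ((Curv2.bcCpl A f).presheaf.stalk q) ^ n →
        s ∈ maximalIdeal (X.presheaf.stalk ((Curv2.bcCplFst A f).base q)) ^ n) ∧
      ∀ y, ∃ s, y - ((Curv2.bcCplFst A f).stalkMap q).hom s ∈
        maximalIdeal ((Curv2.bcCpl A f).presheaf.stalk q) ^ n := by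
  let p := (Curv2.bcCplFst A f).base q
  let Oq := (Curv2.bcCpl A f).presheaf.stalk q
  let Op := X.presheaf.stalk p
  let φ : Op ⟶ Oq := (Curv2.bcCplFst A f).stalkMap q
  let I : Ideal Op := maximalIdeal Op ^ n
  let Q : CommRingCat.{u} := CommRingCat.of (Op ⧸ I)
  have hne : I ≤ maximalIdeal Op := Ideal.pow_le_self hn
  have : Nontrivial Q := Ideal.Quotient.nontrivial_iff.2 fun h => (maximalIdeal.isMaximal Op).ne_top
    (top_le_iff.1 (h ▸ hne))
  have : IsLocalRing Q := IsLocalRing.of_surjective' (Ideal.Quotient.mk I) Ideal.Quotient.mk_surjective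
  let μ : Op ⟶ Q := CommRingCat.ofHom (Ideal.Quotient.mk I)
  have hμ : IsLocalHom μ.hom := IsLocalHom.of_surjective _ Ideal.Quotient.mk_surjective
  have hmQ : maximalIdeal Q = (maximalIdeal Op).map (Ideal.Quotient.mk I) := by
    refine le_antisymm (fun x hx => ?_) ((IsLocalRing.local_hom_TFAE μ.hom).out 0 2 |>.1 hμ)
    obtain ⟨y, rfl⟩ := Ideal.Quotient.mk_surjective x
    exact Ideal.mem_map_of_mem _ fun hy => hx (hy.map _)
  have hQ : maximalIdeal Q ^ n = ⊥ := by
    rw [hmQ, ← Ideal.map_pow]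
    exact Ideal.map_quotient_self I
  have hcl : (Spec.map μ).base (closedPoint Q) = closedPoint Op := Spec_closedPoint (f := μ)
  have hg : f.base ((Spec.map μ ≫ X.fromSpecStalk p).base (closedPoint Q)) = closedPoint A := by
    show f.base ((X.fromSpecStalk p).base ((Spec.map μ).base (closedPoint Q))) = _
    rw [hcl, Scheme.fromSpecStalk_closedPoint]
    exact hq
  obtain ⟨s, hs⟩ := exists_lift A f fg hQ (Spec.map μ ≫ X.fromSpecStalk p) hg
  have hsq : s.base (closedPoint Q) = q := by
    have h1 : (Curv2.bcCplFst A f).base (s.base (closedPoint Q)) = p := by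
      show (s ≫ Curv2.bcCplFst A f).base _ = p
      rw [hs]
      show (X.fromSpecStalk p).base ((Spec.map μ).base (closedPoint Q)) = _
      rw [hcl, Scheme.fromSpecStalk_closedPoint]
    exact eq_of_fst_eq A f fg _ _ h1 (h1.symm ▸ hq)
  obtain ⟨ψ, hψ, hψs⟩ := exists_stalk_hom s q hsq
  have hψφ : φ ≫ ψ = μ := by
    apply Spec.map_injective
    rw [← cancel_mono (X.fromSpecStalk p), Spec.map_comp, Category.assoc, ← hs, ← hψs, Category.assoc,
      ← Scheme.SpecMap_stalkMap_fromSpecStalk]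
  have hψm : (maximalIdeal Oq).map ψ.hom ≤ maximalIdeal Q :=
    (IsLocalRing.local_hom_TFAE ψ.hom).out 0 2 |>.1 hψ
  refine ⟨fun x hx => ?_, fun y => ?_⟩
  · have h1 : ψ.hom (φ.hom x) ∈ (maximalIdeal Oq ^ n).map ψ.hom := Ideal.mem_map_of_mem _ hx
    rw [Ideal.map_pow] at h1
    have h2 := Ideal.pow_right_mono hψm n h1
    rw [hQ, Submodule.mem_bot] at h2
    have h3 : μ.hom x = 0 := by rw [← hψφ]; exact h2
    exact Ideal.Quotient.eq_zero_iff_mem.1 h3
  · let J : Ideal Oq := maximalIdeal Oq ^ n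
    let Q' : CommRingCat.{u} := CommRingCat.of (Oq ⧸ J)
    have hneJ : J ≤ maximalIdeal Oq := Ideal.pow_le_self hn
    have : Nontrivial Q' := Ideal.Quotient.nontrivial_iff.2 fun h => (maximalIdeal.isMaximal Oq).ne_top
      (top_le_iff.1 (h ▸ hneJ))
    have : IsLocalRing Q' := IsLocalRing.of_surjective' (Ideal.Quotient.mk J) Ideal.Quotient.mk_surjective
    let π : Oq ⟶ Q' := CommRingCat.ofHom (Ideal.Quotient.mk J)
    have hπ : IsLocalHom π.hom := IsLocalHom.of_surjective _ Ideal.Quotient.mk_surjective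
    have hmQ' : maximalIdeal Q' = (maximalIdeal Oq).map (Ideal.Quotient.mk J) := by
      refine le_antisymm (fun x hx => ?_) ((IsLocalRing.local_hom_TFAE π.hom).out 0 2 |>.1 hπ)
      obtain ⟨z, rfl⟩ := Ideal.Quotient.mk_surjective x
      exact Ideal.mem_map_of_mem _ fun hz => hx (hz.map _)
    have hQ' : maximalIdeal Q' ^ n = ⊥ := by
      rw [hmQ', ← Ideal.map_pow]
      exact Ideal.map_quotient_self J
    have hφJ : ∀ x ∈ I, (φ ≫ π).hom x = 0 := by
      intro x hx
      refine Ideal.Quotient.eq_zero_iff_mem.2 ?_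
      have hφm : (maximalIdeal Op).map φ.hom ≤ maximalIdeal Oq :=
        ((IsLocalRing.local_hom_TFAE φ.hom).out 0 2).1 (inferInstance : IsLocalHom ((Curv2.bcCplFst A f).stalkMap q).hom)
      have h1 : φ.hom x ∈ (maximalIdeal Op ^ n).map φ.hom := Ideal.mem_map_of_mem _ hx
      rw [Ideal.map_pow] at h1
      exact Ideal.pow_right_mono hφm n h1
    let φ' : Q ⟶ Q' := CommRingCat.ofHom (Ideal.Quotient.lift I (φ ≫ π).hom hφJ)
    have hφ' : μ ≫ φ' = φ ≫ π := by ext x; rfl
    have hclπ : (Spec.map π).base (closedPoint Q') = closedPoint Oq := Spec_closedPoint (f := π)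
    have heq : Spec.map π ≫ (Curv2.bcCpl A f).fromSpecStalk q = Spec.map φ' ≫ s := by
      refine hom_ext_of_closed A f fg hQ' _ _ ?_ ?_
      · rw [Category.assoc, Category.assoc, hs, ← Scheme.SpecMap_stalkMap_fromSpecStalk,
          ← Spec.map_comp_assoc, ← Spec.map_comp_assoc, hφ']
      · show f.base ((Curv2.bcCplFst A f).base (((Curv2.bcCpl A f).fromSpecStalk q).base
          ((Spec.map π).base (closedPoint Q')))) = _
        rw [hclπ, Scheme.fromSpecStalk_closedPoint]
        exact hq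
    rw [← hψs, ← Spec.map_comp_assoc, cancel_mono] at heq
    have hπψ := RingHom.congr_fun (congrArg CommRingCat.Hom.hom (Spec.map_injective heq)) y
    obtain ⟨x, hx⟩ := Ideal.Quotient.mk_surjective (ψ.hom y)
    refine ⟨x, Ideal.Quotient.eq.1 ?_⟩
    refine hπψ.trans ?_
    show φ'.hom (ψ.hom y) = π.hom (φ.hom x)
    rw [← hx]
    exact RingHom.congr_fun (congrArg CommRingCat.Hom.hom hφ') x

end Groth.ResolveSurf.CompletionPoint
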