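import Groth.Agent.ResolveSurf.CompletionNormal

/-!
The completion of a finite algebra is the base change to the completion, as rings.
-/

set_option autoImplicit false

universe u

namespace Groth.ResolveSurf.CplTensor

open TensorProduct Groth.ResolveSurf.CplNormal

variable {B C : Type u} [CommRing B] [CommRing C] [Algebra B C]

theorem cplMap_algebraMap (I : Ideal B) (b : B) :
    cplMap (C := C) I (algebraMap B (AdicCompletion I B) b) =
      algebraMap B (AdicCompletion (I.map (algebraMap B C)) C) b := by
  refine AdicCompletion.ext_evalₐ fun n => ?_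
  rw [cplMap, AdicCompletion.evalₐ_liftRingHom,
    IsScalarTower.algebraMap_apply B C (AdicCompletion (I.map (algebraMap B C)) C), AlgHom.commutes]
  simp only [levelMap, RingHom.comp_apply, AlgHom.toRingHom_eq_coe, RingHom.coe_coe, AlgHom.commutes]
  rfl

/-- The comparison map. -/
noncomputable def tensorHom (I : Ideal B) :
    AdicCompletion I B ⊗[B] C →ₐ[B] AdicCompletion (I.map (algebraMap B C)) C :=
  Algebra.TensorProduct.lift
    (AlgHom.mk (cplMap (C := C) I) (cplMap_algebraMap I))
    (IsScalarTower.toAlgHom B C _)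
    (fun _ _ => Commute.all _ _)

theorem tensorHom_tmul (I : Ideal B) (r : AdicCompletion I B) (c : C) :
    tensorHom I (r ⊗ₜ c) = cplMap I r * algebraMap C (AdicCompletion (I.map (algebraMap B C)) C) c :=
  Algebra.TensorProduct.lift_tmul _ _ _ r c

/-- The map of rings and the map of modules agree level by level. -/
theorem exists_level (I : Ideal B) (t : AdicCompletion I B ⊗[B] C) (n : ℕ) :
    ∃ s : C, (AdicCompletion.ofTensorProduct I C t).val n = Submodule.Quotient.mk s ∧
      AdicCompletion.evalₐ (I.map (algebraMap B C)) n (tensorHom I t) = Ideal.Quotient.mk _ s := by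
  induction t using TensorProduct.induction_on with
  | zero => exact ⟨0, by rw [map_zero]; rfl, by rw [map_zero, map_zero, map_zero]⟩
  | tmul r c =>
    obtain ⟨a, rfl⟩ := AdicCompletion.mk_surjective I B r
    refine ⟨algebraMap B C (a.val n) * c, ?_, ?_⟩
    · rw [AdicCompletion.ofTensorProduct_tmul, AdicCompletion.smul_eval, ← Algebra.smul_def]
      rfl
    · rw [tensorHom_tmul, map_mul, evalₐ_cplMap_mk, AlgHom.commutes, map_mul]
      rfl
  | add t t' ht ht' =>
    obtain ⟨s, h1, h2⟩ := ht
    obtain ⟨s', h1', h2'⟩ := ht'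
    exact ⟨s + s', by rw [map_add, AdicCompletion.val_add_apply, h1, h1', Submodule.Quotient.mk_add],
      by rw [map_add, map_add, h2, h2', map_add]⟩

theorem tensorHom_bijective [IsNoetherianRing B] [Module.Finite B C] (I : Ideal B) :
    Function.Bijective (tensorHom (C := C) I) := by
  have hbij := AdicCompletion.ofTensorProduct_bijective_of_finite_of_isNoetherian I C
  refine ⟨(injective_iff_map_eq_zero _).2 fun t ht => ?_, fun z => ?_⟩
  · refine hbij.1 ?_
    rw [map_zero]
    ext n
    obtain ⟨s, h1, h2⟩ := exists_level I t n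
    rw [ht, map_zero, eq_comm, Ideal.Quotient.eq_zero_iff_mem, ← mem_smul_top_iff] at h2
    rw [h1]
    exact (Submodule.Quotient.mk_eq_zero _).2 h2
  · obtain ⟨cs, rfl⟩ := AdicCompletion.mk_surjective _ C z
    let ns : AdicCompletion.AdicCauchySequence I C := ⟨cs.val, fun {m n} h => by
      rw [SModEq.sub_mem, mem_smul_top_iff]
      have := SModEq.sub_mem.1 (cs.property h)
      rwa [smul_eq_mul, Ideal.mul_top] at this⟩
    obtain ⟨t, ht⟩ := hbij.2 (AdicCompletion.mk I C ns)
    refine ⟨t, AdicCompletion.ext_evalₐ fun n => ?_⟩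
    obtain ⟨s, h1, h2⟩ := exists_level I t n
    rw [h2, AdicCompletion.evalₐ_mk, Ideal.Quotient.eq, ← mem_smul_top_iff]
    rw [ht] at h1
    exact (Submodule.Quotient.eq _).1 h1.symm

/-- `B^ ⊗ C = C^` as rings. -/
noncomputable def tensorEquiv [IsNoetherianRing B] [Module.Finite B C] (I : Ideal B) :
    AdicCompletion I B ⊗[B] C ≃+* AdicCompletion (I.map (algebraMap B C)) C :=
  RingEquiv.ofBijective (tensorHom I).toRingHom (tensorHom_bijective I)

end Groth.ResolveSurf.CplTensor
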