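import Groth.Prelude.Def_Curv2
import Groth.Agent.Chow.ToPn
import Groth.Agent.PointBlowUp.TwoChart
import Groth.Agent.PicAux.EffCartierLine
import Groth.Agent.HTopHyper.BlowUpProper

/-!
The blow-up of a two dimensional regular local ring in its maximal ideal is a closed subscheme of the
projective line over the ring, embedded by the ideal of the exceptional divisor.
-/

set_option autoImplicit false
set_option backward.isDefEq.respectTransparency.types false
set_option maxHeartbeats 1000000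
universe u

open CategoryTheory AlgebraicGeometry IsLocalRing TopologicalSpace Groth.BlowUpBasics
open Groth.PointBlowUp
open Groth.PicAux (res resX Gen)

namespace Groth.ResolveSurf.LineImm

variable {A : Type u} [CommRing A] {I : Ideal A} {X : Scheme.{u}} {b : X ⟶ Spec (CommRingCat.of A)}

/-- A global function coming from the centre, as a section of the exceptional ideal. -/
theorem exists_sect {a : A} (ha : a ∈ I) :
    ∃ k : Γ(ClSub.idealMod ((sheafOf I).comap b), (⊤ : X.Opens)),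
      OmegaSh.idealSect _ ⊤ k = phi b ⊤ a := by
  let J := (sheafOf I).comap b
  refine Groth.OmegaSheaf.exists_idealSect_eq J ⊤ _ ?_
  refine TopCat.Presheaf.section_ext J.subscheme.sheaf _ _ _ fun z hz => ?_
  obtain ⟨W, hzW, -⟩ := Divisors.exists_affine_le (J.subschemeι z) ⊤ trivial
  have h1 : J.subschemeι.app W.1 (phi b W.1 a) = 0 := by
    rw [← RingHom.mem_ker, Scheme.IdealSheafData.ker_subschemeι_app, ideal_comap_sheafOf]
    exact Ideal.mem_map_of_mem _ ha
  have h2 : J.subscheme.presheaf.map ((TopologicalSpace.Opens.map J.subschemeι.base).map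
      (homOfLE (le_top : W.1 ≤ ⊤))).op (J.subschemeι.app ⊤ (phi b ⊤ a)) = 0 := by
    have e := ConcreteCategory.congr_hom
      (J.subschemeι.naturality (homOfLE (le_top : W.1 ≤ ⊤)).op) (phi b ⊤ a)
    refine Eq.trans e.symm ?_
    show J.subschemeι.app W.1 (X.presheaf.map (homOfLE (le_top : W.1 ≤ ⊤)).op (phi b ⊤ a)) = 0
    rw [show X.presheaf.map (homOfLE (le_top : W.1 ≤ ⊤)).op (phi b ⊤ a) = phi b W.1 a from
      (RingHom.congr_fun (phi_restrict b le_top) a).symm]
    exact h1
  have h3 := congrArg (J.subscheme.presheaf.germ (J.subschemeι ⁻¹ᵁ W.1) z hzW) h2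
  erw [TopCat.Presheaf.germ_res_apply] at h3
  exact h3.trans (((map_zero (J.subscheme.presheaf.germ (J.subschemeι ⁻¹ᵁ W.1) z hzW).hom)).trans
    (map_zero (J.subscheme.presheaf.germ (J.subschemeι ⁻¹ᵁ ⊤) z hz).hom).symm)

/-- The two charts, with both overlap inclusions. -/
structure Data (I : Ideal A) (b : X ⟶ Spec (CommRingCat.of A)) (x y : A) where
  U : X.Opens
  V : X.Opens
  hU : IsAffineOpen U
  hV : IsAffineOpen V
  cover : U ⊔ V = ⊤
  u : Γ(X, U)
  v : Γ(X, V)
  mul_u : phi b U y = u * phi b U x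
  mul_v : phi b V x = v * phi b V y
  nzdU : phi b U x ∈ nonZeroDivisors Γ(X, U)
  nzdV : phi b V y ∈ nonZeroDivisors Γ(X, V)
  leV : X.basicOpen u ≤ V
  leU : X.basicOpen v ≤ U
  span_eq : I = Ideal.span {x, y}
  surjU : Function.Surjective (Polynomial.eval₂ (phi b U) u)
  surjV : Function.Surjective (Polynomial.eval₂ (phi b V) v)

theorem nonempty_data {x y : A} (T : Atlas I b) (hI : I = Ideal.span {x, y}) (hx : x ∈ I) (hy : y ∈ I)
    (hsx : Function.Surjective (Polynomial.eval₂ (algebraMap A _) (frac I x y hy)))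
    (hsy : Function.Surjective (Polynomial.eval₂ (algebraMap A _) (frac I y x hx))) :
    Nonempty (Data I b x y) := by
  have hbij := chartHom_bijective T
  refine ⟨{
    U := chartOpen T ⟨x, hx⟩
    V := chartOpen T ⟨y, hy⟩
    hU := (isAffineOpen_top _).image_of_isOpenImmersion _
    hV := (isAffineOpen_top _).image_of_isOpenImmersion _
    cover := sup_chartOpen_eq_top T hI hx hy
    u := chartHom T ⟨x, hx⟩ (frac I x y hy)
    v := chartHom T ⟨y, hy⟩ (frac I y x hx)
    mul_u := ?_, mul_v := ?_, nzdU := ?_, nzdV := ?_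
    leV := basicOpen_chartHom_le T ⟨x, hx⟩ ⟨y, hy⟩
    leU := basicOpen_chartHom_le T ⟨y, hy⟩ ⟨x, hx⟩
    span_eq := hI, surjU := ?_, surjV := ?_ }⟩
  · rw [phi_chartOpen, RingHom.comp_apply, RingHom.comp_apply, ← map_mul, frac_mul_algebraMap]
  · rw [phi_chartOpen, RingHom.comp_apply, RingHom.comp_apply, ← map_mul, frac_mul_algebraMap]
  · rw [phi_chartOpen, RingHom.comp_apply]
    exact map_mem_nonZeroDivisors_of_flat (RingHom.Flat.of_bijective (hbij _))
      algebraMap_self_mem_nonZeroDivisors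
  · rw [phi_chartOpen, RingHom.comp_apply]
    exact map_mem_nonZeroDivisors_of_flat (RingHom.Flat.of_bijective (hbij _))
      algebraMap_self_mem_nonZeroDivisors
  · intro s
    obtain ⟨t, rfl⟩ := (hbij _).2 s
    obtain ⟨g, rfl⟩ := hsx t
    exact ⟨g, by rw [Polynomial.hom_eval₂, ← phi_chartOpen]⟩
  · intro s
    obtain ⟨t, rfl⟩ := (hbij _).2 s
    obtain ⟨g, rfl⟩ := hsy t
    exact ⟨g, by rw [Polynomial.hom_eval₂, ← phi_chartOpen]⟩

variable {x y : A}

noncomputable def Data.symm (C : Data I b x y) : Data I b y x :=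
  ⟨C.V, C.U, C.hV, C.hU, sup_comm C.U C.V ▸ C.cover, C.v, C.u, C.mul_v, C.mul_u, C.nzdV, C.nzdU,
    C.leU, C.leV, C.span_eq.trans (by rw [Set.pair_comm]), C.surjV, C.surjU⟩

noncomputable abbrev excMod (I : Ideal A) (b : X ⟶ Spec (CommRingCat.of A)) : X.Modules :=
  ClSub.idealMod ((sheafOf I).comap b)

theorem idealSect_res_phi {a : A} {k : Γ(excMod I b, (⊤ : X.Opens))}
    (hk : OmegaSh.idealSect _ ⊤ k = phi b ⊤ a) (W : X.Opens) :
    OmegaSh.idealSect _ W (res (excMod I b) le_top k) = phi b W a := by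
  rw [Groth.PicAux.idealSect_res', hk, phi_restrict b (le_top : W ≤ ⊤)]
  rfl

theorem Data.ideal_U (C : Data I b x y) :
    ((sheafOf I).comap b).ideal ⟨C.U, C.hU⟩ = Ideal.span {phi b C.U x} := by
  refine ((ideal_comap_sheafOf b I ⟨C.U, C.hU⟩).trans (congrArg (Ideal.map _) C.span_eq)).trans ?_
  rw [Ideal.map_span, Set.image_pair]
  show Ideal.span {phi b C.U x, phi b C.U y} = _
  rw [C.mul_u]
  refine le_antisymm (Ideal.span_le.2 ?_) (Ideal.span_mono (by simp))
  rintro _ (rfl | rfl)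
  · exact Ideal.mem_span_singleton_self _
  · exact Ideal.mul_mem_left _ _ (Ideal.mem_span_singleton_self _)

/-- The parameter generates the exceptional ideal on its chart. -/
theorem Data.gen (C : Data I b x y) {k : Γ(excMod I b, (⊤ : X.Opens))}
    (hk : OmegaSh.idealSect _ ⊤ k = phi b ⊤ x) : Gen (excMod I b) C.U (res _ le_top k) :=
  Groth.PicAux.gen_idealMod ⟨C.U, C.hU⟩
    (by rw [idealSect_res_phi hk]; exact Divisors.isNzdSec_of_mem C.hU C.nzdU)
    (by rw [idealSect_res_phi hk]; exact C.ideal_U)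

open Groth.Chow

theorem le_U_of_gen (L : X.Modules) {n : ℕ} (s : Fin (n + 1) → ProjUP.Γm L) (i : Fin (n + 1))
    (W : X.Opens) (h : Gen L W (res L le_top (s i))) : W ≤ ToPn.U L s i :=
  (Groth.PicAux.le_genLocus_iff _ _).mpr (by rwa [Groth.PicAux.gsec_homOfSection])

/-- The morphism given by the two parameters is a closed immersion. -/
theorem exists_immersion (C : Data I b x y) :
    ∃ r : X ⟶ CohB1.ProjSpace 1 A, IsClosedImmersion r ∧ r ≫ CohB1.ProjSpace.toSpec 1 A = b ∧
      Nonempty ((Scheme.Modules.pullback r).obj (Twist.twistProjSpace 1 A 1) ≅ excMod I b) := by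
  have hI := C.span_eq
  have hx : x ∈ I := hI ▸ Ideal.subset_span (by simp)
  have hy : y ∈ I := hI ▸ Ideal.subset_span (by simp)
  obtain ⟨sx, hsx⟩ := exists_sect (b := b) hx
  obtain ⟨sy, hsy⟩ := exists_sect (b := b) hy
  let L := excMod I b
  let s : Fin 2 → ProjUP.Γm L := ![sx, sy]
  have hU0 : C.U ≤ ToPn.U L s 0 := le_U_of_gen L s 0 _ (C.gen hsx)
  have hV1 : C.V ≤ ToPn.U L s 1 := le_U_of_gen L s 1 _ (C.symm.gen hsy)
  -- the value of the coordinate functions on the charts
  have hc : ∀ (D : X.Opens) (i l : Fin 2) (hD : D ≤ ToPn.U L s i) (w : Γ(X, D)) (p q : A),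
      OmegaSh.idealSect _ ⊤ (s i) = phi b ⊤ p → OmegaSh.idealSect _ ⊤ (s l) = phi b ⊤ q →
      phi b D q = w * phi b D p → resX X hD (ToPn.c L s i l) = w := by
    intro D i l hD w p q hp hq hw
    refine (ToPn.gen_U L s i).smul_inj hD ?_
    have h1 := congrArg (res L hD) (ToPn.c_spec L s i l)
    simp only [Groth.PicAux.res_smul, Groth.PicAux.res_res] at h1 ⊢
    rw [← h1]
    refine Groth.OmegaSheaf.idealSect_injective _ _ ?_
    rw [Groth.OmegaSheaf.idealSect_smul, idealSect_res_phi hp, idealSect_res_phi hq, hw]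
  have hU1 : ToPn.U L s 0 ≤ C.U := by
    intro z hz
    rcases C.cover.ge (Set.mem_univ z) with h | h
    · exact h
    have hzb : z ∈ X.basicOpen (ToPn.c L s 1 0) := (ToPn.U_inf L s 1 0).le ⟨hz, hV1 h⟩
    apply C.leU
    have h2 : resX X hV1 (ToPn.c L s 1 0) = C.v := hc C.V 1 0 hV1 C.v y x hsy hsx C.mul_v
    rw [← h2]
    exact (X.basicOpen_res _ _).ge ⟨h, hzb⟩
  have hV0 : ToPn.U L s 1 ≤ C.V := by
    intro z hz
    rcases C.cover.ge (Set.mem_univ z) with h | h
    · have hzb : z ∈ X.basicOpen (ToPn.c L s 0 1) := (ToPn.U_inf L s 0 1).le ⟨hz, hU0 h⟩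
      apply C.leV
      have h2 : resX X hU0 (ToPn.c L s 0 1) = C.u := hc C.U 0 1 hU0 C.u x y hsx hsy C.mul_u
      rw [← h2]
      exact (X.basicOpen_res _ _).ge ⟨h, hzb⟩
    · exact h
  have eU : ToPn.U L s 0 = C.U := le_antisymm hU1 hU0
  have eV : ToPn.U L s 1 = C.V := le_antisymm hV0 hV1
  have hU : ⨆ i, ToPn.U L s i = ⊤ := top_le_iff.1 <| C.cover.ge.trans <|
    sup_le (hU0.trans (le_iSup (fun i => ToPn.U L s i) 0)) (hV1.trans (le_iSup (fun i => ToPn.U L s i) 1))
  obtain ⟨r, hr⟩ := ToPn.exists_r b L s hU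
  obtain ⟨τ, -⟩ := ToPn.exists_tau hr hU
  refine ⟨r, ?_, ToPn.r_toSpec hr hU, ⟨τ⟩⟩
  -- surjectivity on the charts
  have hα : ∀ i l : Fin 2, (∀ z : Γ(X, ToPn.U L s i), ∃ g : Polynomial A,
      Polynomial.eval₂ (ToPn.baseMap b L s i) (ToPn.c L s i l) g = z) →
      Function.Surjective (ToPn.α b L s i) := by
    intro i l h z
    obtain ⟨g, rfl⟩ := h z
    show _ ∈ (ToPn.α b L s i).range
    induction g using Polynomial.induction_on with
    | C a =>
      refine ⟨HomogeneousLocalization.Away.mk _ (ToPn.X_mem i) 0 (MvPolynomial.C a)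
        (by simpa using MvPolynomial.isHomogeneous_C _ a), ?_⟩
      rw [ToPn.α, ToPn.chart_mk, MvPolynomial.eval₂_C, Polynomial.eval₂_C]
    | add p q hp hq => rw [Polynomial.eval₂_add]; exact add_mem hp hq
    | monomial k a hk =>
      rw [pow_succ, ← mul_assoc, Polynomial.eval₂_mul, Polynomial.eval₂_X]
      refine mul_mem hk ⟨HomogeneousLocalization.Away.mk _ (ToPn.X_mem i) 1 (MvPolynomial.X l)
        (by rw [one_smul]; exact ToPn.X_mem l), ?_⟩
      rw [ToPn.α, ToPn.chart_mk, MvPolynomial.eval₂_X]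
  have hbase : ∀ i, ToPn.baseMap b L s i = phi b (ToPn.U L s i) := fun i => by
    rw [phi_restrict b (le_top : ToPn.U L s i ≤ ⊤)]
    refine RingHom.ext fun a => ?_
    show X.presheaf.map (homOfLE le_top).op (b.app ⊤ _) = X.presheaf.map (homOfLE le_top).op (b.appLE ⊤ ⊤ _ _)
    exact congrArg _ (ConcreteCategory.congr_hom b.app_eq_appLE _)
  have main : ∀ (i l : Fin 2) (D : X.Opens) (eD : ToPn.U L s i = D) (w : Γ(X, D)),
      Function.Surjective (Polynomial.eval₂ (phi b D) w) →
      (∀ h : D ≤ ToPn.U L s i, resX X h (ToPn.c L s i l) = w) → IsAffineOpen D →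
      IsAffineOpen (ToPn.U L s i) ∧ Function.Surjective (ToPn.α b L s i) := by
    intro i l D eD w hs hw haff
    subst eD
    refine ⟨haff, hα i l fun z => ?_⟩
    obtain ⟨g, rfl⟩ := hs z
    exact ⟨g, by rw [hbase, ← hw le_rfl, Groth.PicAux.resX_self]⟩
  have key : ∀ i, IsAffineOpen (ToPn.U L s i) ∧ Function.Surjective (ToPn.α b L s i) := by
    intro i
    fin_cases i
    · exact main 0 1 C.U eU C.u C.surjU (fun h => hc C.U 0 1 h C.u x y hsx hsy C.mul_u) C.hU
    · exact main 1 0 C.V eV C.v C.surjV (fun h => hc C.V 1 0 h C.v y x hsy hsx C.mul_v) C.hV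
  let D : Fin 2 → (CohB1.ProjSpace 1 A).Opens := fun i =>
    Proj.basicOpen (CohB1.polyGrading 1 A) (MvPolynomial.X i)
  have hDtop : iSup D = ⊤ := by
    exact Proj.iSup_basicOpen_eq_top _ _ ToPn.irrelevant_le_span_X
  rw [IsZariskiLocalAtTarget.iff_of_iSup_eq_top (P := @IsClosedImmersion) D hDtop]
  intro i
  have : IsAffine (ToPn.U L s i).toScheme := (key i).1
  have hci : IsClosedImmersion (Spec.map (CommRingCat.ofHom (ToPn.α b L s i))) :=
    IsClosedImmersion.spec_of_surjective _ (key i).2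
  have eDi := ToPn.preimage_D hr hU i
  let g : (ToPn.U L s i).toScheme ⟶ (D i).toScheme :=
    (ToPn.U L s i).toSpecΓ ≫ Spec.map (CommRingCat.ofHom (ToPn.α b L s i)) ≫
      (Proj.basicOpenIsoSpec (CohB1.polyGrading 1 A) (MvPolynomial.X i)
        (ToPn.X_mem i) one_pos).inv
  have hg : (r ∣_ D i) = (X.isoOfEq eDi).hom ≫ g := by
    refine (cancel_mono (D i).ι).1 ?_
    refine (morphismRestrict_ι _ _).trans ?_
    refine Eq.trans ?_ (Category.assoc _ _ _).symm
    have h1 : g ≫ (D i).ι = (ToPn.U L s i).ι ≫ r := by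
      rw [hr i]
      simp only [g, ToPn.rU, Category.assoc, Proj.awayι]
      rfl
    refine Eq.trans ?_ (congrArg ((X.isoOfEq eDi).hom ≫ ·) h1.symm)
    exact (Scheme.isoOfEq_hom_ι_assoc _ _ _).symm
  have hsp : IsIso (ToPn.U L s i).toSpecΓ := by
    rw [← IsAffineOpen.isoSpec_hom (key i).1]
    infer_instance
  have hcg : IsClosedImmersion g :=
    MorphismProperty.comp_mem _ _ _ inferInstance (MorphismProperty.comp_mem _ _ _ hci inferInstance)
  rw [hg]
  exact MorphismProperty.comp_mem _ _ _ inferInstance hcg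

end Groth.ResolveSurf.LineImm
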