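import Groth.Prelude.Def_ModelsG
import Groth.Agent.ResolveSurf.LineImmersion
import Groth.Agent.ResolveSurf.PointBlowUpFibre
import Groth.Agent.PnCoh.OverAffine
import Groth.Agent.Curves1.RR.GenusZeroP1

/-!
The exceptional divisor of the blow-up of a two dimensional regular local ring in its maximal ideal is a
projective line over the residue field, and an exceptional curve of the first kind.
-/

set_option autoImplicit false
set_option backward.isDefEq.respectTransparency.types false
set_option maxHeartbeats 1000000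
universe u

open CategoryTheory AlgebraicGeometry IsLocalRing TopologicalSpace Groth.BlowUpBasics
open Groth.PointBlowUp

namespace Groth.ResolveSurf.ExcLine

variable {A : Type u} [CommRing A] [IsRegularLocalRing A] {X : Scheme.{u}}
  (b : X ⟶ Spec (CommRingCat.of A))

local notation "𝓔" => Scheme.IdealSheafData.comap (sheafOf (maximalIdeal A)) b

omit [IsRegularLocalRing A] in
/-- A morphism to an affine scheme killing an ideal factors through the closed subscheme. -/
theorem exists_factor {E : Scheme.{u}} (g : E ⟶ Spec (CommRingCat.of A)) (I : Ideal A)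
    (hI : ∀ a ∈ I, ((Scheme.ΓSpecIso (CommRingCat.of A)).inv ≫ g.appTop).hom a = 0) :
    ∃ h : E ⟶ Spec (CommRingCat.of (A ⧸ I)),
      h ≫ Spec.map (CommRingCat.ofHom (Ideal.Quotient.mk I)) = g := by
  let q := Ideal.Quotient.lift I ((Scheme.ΓSpecIso (CommRingCat.of A)).inv ≫ g.appTop).hom hI
  refine ⟨E.toSpecΓ ≫ Spec.map (CommRingCat.ofHom q), ?_⟩
  have hq : CommRingCat.ofHom (Ideal.Quotient.mk I) ≫ CommRingCat.ofHom q =
      (Scheme.ΓSpecIso (CommRingCat.of A)).inv ≫ g.appTop := CommRingCat.hom_ext (Ideal.Quotient.lift_comp_mk _ _ _)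
  rw [Category.assoc, ← Spec.map_comp, hq, Spec.map_comp, ← Scheme.toSpecΓ_naturality_assoc,
    toSpecΓ_SpecMap_ΓSpecIso_inv, Category.comp_id]

/-- The exceptional divisor lies over the residue field. -/
theorem exists_toResidue :
    ∃ h : (𝓔).subscheme ⟶ Spec (CommRingCat.of (ResidueField A)),
      h ≫ Spec.map (CommRingCat.ofHom (algebraMap A (ResidueField A))) = (𝓔).subschemeι ≫ b := by
  refine exists_factor _ (maximalIdeal A) fun a ha => ?_
  obtain ⟨k, hk⟩ := LineImm.exists_sect (b := b) ha
  have h0 := Groth.OmegaSheaf.subschemeι_app_idealSect (𝓔) ⊤ k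
  rw [hk] at h0
  refine Eq.trans ?_ h0
  exact congrArg ((𝓔).subschemeι.app ⊤).hom (ConcreteCategory.congr_hom b.app_eq_appLE _)

/-- The exceptional divisor has dimension at least one. -/
theorem one_le_dim (hA : ringKrullDim A = 2) (hb : BlowUp.IsBlowUp b (sheafOf (maximalIdeal A))) :
    ((1 : ℕ) : WithBot ℕ∞) ≤ topologicalKrullDim (𝓔).subscheme := by
  obtain ⟨T⟩ := nonempty_atlas_of_isBlowUp hb
  obtain ⟨x, y, h⟩ := exists_param (hA := hA) (A := A)
  let c : maximalIdeal A := ⟨x, h.mem_left⟩
  have hU : IsAffineOpen (chartOpen T c) := (isAffineOpen_top _).image_of_isOpenImmersion _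
  have hbij := chartHom_bijective T c
  let J := (maximalIdeal A).map (phi b (chartOpen T c))
  have hJ : J = (Ideal.span {algebraMap A (Chart x) x}).map (chartHom T c) := by
    show (maximalIdeal A).map (phi b (chartOpen T c)) = _
    rw [phi_chartOpen, ← Ideal.map_map]
    exact congrArg (Ideal.map (chartHom T c)) (map_eq_span h.mem_left)
  have hJc : J.comap (chartHom T c) = Ideal.span {algebraMap A (Chart x) x} := by
    rw [hJ, Ideal.comap_map_of_bijective _ hbij]
  have hprime : J.IsPrime := by
    rw [hJ]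
    have := h.span_isPrime
    exact Ideal.map_isPrime_of_equiv (RingEquiv.ofBijective _ hbij)
  have hnmax : ¬ J.IsMaximal := fun hm => by
    have := Ideal.comap_isMaximal_of_surjective (chartHom T c) hbij.2 (K := J)
    rw [hJc] at this
    let _ := @Ideal.Quotient.field _ _ _ this
    exact Polynomial.not_isField (ResidueField A)
      (MulEquiv.isField (Field.toIsField _) h.excEquiv.symm.toMulEquiv)
  obtain ⟨P, hP, hJP⟩ := Ideal.exists_le_maximal J hprime.ne_top
  let η : PrimeSpectrum Γ(X, chartOpen T c) := ⟨J, hprime⟩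
  let z : PrimeSpectrum Γ(X, chartOpen T c) := ⟨P, hP.isPrime⟩
  have mem : ∀ p : PrimeSpectrum Γ(X, chartOpen T c), J ≤ p.asIdeal →
      hU.fromSpec p ∈ Set.range (𝓔).subschemeι := fun p hp => by
    rw [Scheme.IdealSheafData.range_subschemeι]
    have : hU.fromSpec p ∈ (↑(𝓔).support ∩ (chartOpen T c : Set X)) := by
      rw [Scheme.IdealSheafData.coe_support_inter (𝓔) ⟨_, hU⟩]
      rw [ideal_comap_sheafOf, ← hU.fromSpec_image_zeroLocus]
      exact ⟨p, hp, rfl⟩
    exact this.1
  obtain ⟨e, he⟩ := mem η le_rfl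
  obtain ⟨w, hw⟩ := mem z hJP
  have hne : e ≠ w := fun heq => by
    subst heq
    have := hU.fromSpec.isEmbedding.injective (he.symm.trans hw)
    have e' : J = P := congrArg PrimeSpectrum.asIdeal this
    exact hnmax (by rw [e']; exact hP)
  have hsp : e ⤳ w := (𝓔).subschemeι.isEmbedding.isInducing.specializes_iff.1 <| by
    rw [he, hw]
    exact Specializes.map ((PrimeSpectrum.le_iff_specializes η z).1 hJP) hU.fromSpec.continuous
  let s : TopologicalSpace.IrreducibleCloseds (𝓔).subscheme :=
    ⟨closure {w}, isIrreducible_singleton.closure, isClosed_closure⟩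
  let t : TopologicalSpace.IrreducibleCloseds (𝓔).subscheme :=
    ⟨closure {e}, isIrreducible_singleton.closure, isClosed_closure⟩
  have hst : s < t := by
    refine lt_of_le_of_ne (fun p hp => closure_minimal ?_ isClosed_closure hp) fun heq => hne ?_
    · rintro _ rfl
      exact specializes_iff_mem_closure.1 hsp
    · refine (hsp.antisymm ?_).eq
      refine specializes_iff_mem_closure.2 ?_
      show e ∈ (s : Set (𝓔).subscheme)
      rw [heq]
      exact subset_closure rfl
  show (1 : WithBot ℕ∞) ≤ Order.krullDim _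
  exact Order.one_le_krullDim_iff.2 ⟨s, t, hst⟩

/-- A closed immersion in the projective line restricts to an isomorphism of the exceptional divisor with the
projective line over the residue field. -/
theorem isExcCurve (hA : ringKrullDim A = 2) (hb : BlowUp.IsBlowUp b (sheafOf (maximalIdeal A)))
    (r : X ⟶ CohB1.ProjSpace 1 A) [IsClosedImmersion r] (hr : r ≫ CohB1.ProjSpace.toSpec 1 A = b)
    (τ : (Scheme.Modules.pullback r).obj (Twist.twistProjSpace 1 A 1) ≅ ClSub.idealMod (𝓔)) :
    Models.IsExcCurve (𝓔).subschemeι := by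
  let κ := ResidueField A
  obtain ⟨h, hh⟩ := exists_toResidue b
  have hP := Groth.PnCoh.isPullback_toBasePn 1 A κ
  let j : (𝓔).subscheme ⟶ CohB1.ProjSpace 1 κ :=
    hP.lift ((𝓔).subschemeι ≫ r) h (by rw [Category.assoc, hr]; exact hh.symm)
  have hj : j ≫ Groth.PnCoh.toBasePn 1 A κ = (𝓔).subschemeι ≫ r := hP.lift_fst _ _ _
  have : IsClosedImmersion (Spec.map (CommRingCat.ofHom (algebraMap A κ))) :=
    IsClosedImmersion.spec_of_surjective _ residue_surjective
  have : IsClosedImmersion (Groth.PnCoh.toBasePn 1 A κ) :=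
    MorphismProperty.of_isPullback hP.flip this
  have : IsClosedImmersion (j ≫ Groth.PnCoh.toBasePn 1 A κ) := by rw [hj]; infer_instance
  have : IsClosedImmersion j := IsClosedImmersion.of_comp j (Groth.PnCoh.toBasePn 1 A κ)
  have : IsIso j := Groth.Curves1.RR.isIso_of_isClosedImmersion_projSpace κ 1 j (one_le_dim b hA hb)
  refine ⟨?_, κ, inferInstance, (asIso j).symm, ?_⟩
  · rw [Scheme.IdealSheafData.ker_subschemeι]
    exact hb.1
  rw [Scheme.IdealSheafData.ker_subschemeι]
  obtain ⟨e⟩ := Groth.PnCoh.nonempty_pullback_toBasePn_twist 1 A κ 1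
  have hcomp : ((asIso j).symm.hom ≫ (𝓔).subschemeι) ≫ r = Groth.PnCoh.toBasePn 1 A κ := by
    rw [Category.assoc, ← hj, Iso.symm_hom, asIso_inv, IsIso.inv_hom_id_assoc]
  exact ⟨(Scheme.Modules.pullback _).mapIso τ.symm ≪≫
    (Scheme.Modules.pullbackComp _ r).app _ ≪≫
    (Scheme.Modules.pullbackCongr hcomp).app _ ≪≫ e⟩

end Groth.ResolveSurf.ExcLine
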