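import Groth.Agent.ResolveSurf.LineImmersion
import Mathlib.RingTheory.Localization.FractionRing
import Mathlib.FieldTheory.RatFunc.AsPolynomial

/-!
Units on the overlap of the two charts of a point blow-up.
-/

set_option autoImplicit false
set_option backward.isDefEq.respectTransparency.types false
universe u

open CategoryTheory AlgebraicGeometry Polynomial Groth.BlowUpBasics
open Groth.PicAux (resX)

namespace Groth.ResolveSurf.TwoChartUnits

/-- Divisors of products of powers of two primes. -/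
theorem exists_unit_mul {A : Type u} [CommRing A] [IsDomain A] {x y : A} (hx : Prime x) (hy : Prime y) :
    ∀ (N M : ℕ) (c c' : A), c * c' = x ^ N * y ^ M →
      ∃ (ε : Aˣ) (i j : ℕ), c = ε * x ^ i * y ^ j
  | 0, 0, c, c', h => by
    have : IsUnit c := IsUnit.of_mul_eq_one c' (by simpa using h)
    exact ⟨this.unit, 0, 0, by simp⟩
  | 0, M + 1, c, c', h => by
    rcases hy.dvd_or_dvd (show y ∣ c * c' from ⟨y ^ M, by rw [h]; ring⟩) with ⟨d, rfl⟩ | ⟨d, rfl⟩
    · obtain ⟨ε, i, j, rfl⟩ := exists_unit_mul hx hy 0 M d c'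
        (mul_left_cancel₀ hy.ne_zero (by linear_combination h))
      exact ⟨ε, i, j + 1, by ring⟩
    · exact exists_unit_mul hx hy 0 M c d (mul_left_cancel₀ hy.ne_zero (by linear_combination h))
  | N + 1, M, c, c', h => by
    rcases hx.dvd_or_dvd (show x ∣ c * c' from ⟨x ^ N * y ^ M, by rw [h]; ring⟩) with ⟨d, rfl⟩ | ⟨d, rfl⟩
    · obtain ⟨ε, i, j, rfl⟩ := exists_unit_mul hx hy N M d c'
        (mul_left_cancel₀ hx.ne_zero (by linear_combination h))
      exact ⟨ε, i + 1, j, by ring⟩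
    · exact exists_unit_mul hx hy N M c d (mul_left_cancel₀ hx.ne_zero (by linear_combination h))

variable {A : Type u} [CommRing A] {I : Ideal A} {X : Scheme.{u}} {b : X ⟶ Spec (CommRingCat.of A)} {x y : A}
  (C : LineImm.Data I b x y)

local notation "rU" => resX X (inf_le_left : C.U ⊓ C.V ≤ C.U)
local notation "rV" => resX X (inf_le_right : C.U ⊓ C.V ≤ C.V)

theorem rU_phi (c : A) : rU (phi b C.U c) = phi b (C.U ⊓ C.V) c :=
  (RingHom.congr_fun (phi_restrict b inf_le_left) c).symm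

theorem rV_phi (c : A) : rV (phi b C.V c) = phi b (C.U ⊓ C.V) c :=
  (RingHom.congr_fun (phi_restrict b inf_le_right) c).symm

theorem inf_eq : C.U ⊓ C.V = X.basicOpen C.u ∧ rU C.u * rV C.v = 1 := by
  let T : Groth.PointBlowUp.TwoChart b x y :=
    { U := C.U, V := C.V, hU := C.hU, hV := C.hV, cover := C.cover, u := C.u, v := C.v,
      mul_u := C.mul_u, mul_v := C.mul_v, nzdU := C.nzdU, basicOpen_le := C.leV,
      surjU := C.surjU, surjV := C.surjV }
  exact ⟨T.inf_eq, T.mul_eq_one⟩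

/-- The coordinate as a unit of the overlap. -/
noncomputable def w : (Γ(X, C.U ⊓ C.V))ˣ :=
  ⟨rU C.u, rV C.v, (inf_eq C).2, (mul_comm _ _).trans (inf_eq C).2⟩

theorem phi_y : phi b (C.U ⊓ C.V) y = (w C : Γ(X, C.U ⊓ C.V)) * phi b (C.U ⊓ C.V) x := by
  rw [← rU_phi C, ← rU_phi C, C.mul_u, map_mul]
  rfl

theorem phi_x : phi b (C.U ⊓ C.V) x = ((w C)⁻¹ : (Γ(X, C.U ⊓ C.V))ˣ) * phi b (C.U ⊓ C.V) y := by
  rw [phi_y, Units.inv_mul_cancel_left]

section Residue

variable {κ : Type u} [Field κ] (res : A →+* κ) (π : Γ(X, C.U) →+* κ[X])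

/-- The residue map of the overlap. -/
theorem exists_psi (hπ : ∀ a, π (phi b C.U a) = Polynomial.C (res a)) (hπu : π C.u = Polynomial.X) :
    ∃ ψ : Γ(X, C.U ⊓ C.V) →+* RatFunc κ,
      (∀ a, ψ (phi b (C.U ⊓ C.V) a) = RatFunc.C (res a)) ∧ ψ (w C : Γ(X, C.U ⊓ C.V)) = RatFunc.X := by
  let f : Γ(X, C.U) →+* RatFunc κ := (algebraMap κ[X] (RatFunc κ)).comp π
  letI : Algebra Γ(X, C.U) Γ(X, C.U ⊓ C.V) := (rU).toAlgebra
  have : IsLocalization.Away C.u Γ(X, C.U ⊓ C.V) :=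
    C.hU.isLocalization_of_eq_basicOpen C.u (homOfLE inf_le_left) (inf_eq C).1
  have hf : IsUnit (f C.u) := isUnit_iff_ne_zero.2 (by
    show algebraMap κ[X] (RatFunc κ) (π C.u) ≠ 0
    rw [hπu, RatFunc.algebraMap_X]
    exact RatFunc.X_ne_zero)
  refine ⟨IsLocalization.Away.lift C.u hf, fun a => ?_, ?_⟩
  · rw [← rU_phi C]
    refine (IsLocalization.Away.lift_eq C.u hf _).trans ?_
    show algebraMap κ[X] (RatFunc κ) (π (phi b C.U a)) = _
    rw [hπ, RatFunc.algebraMap_C]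
  · refine (IsLocalization.Away.lift_eq C.u hf _).trans ?_
    show algebraMap κ[X] (RatFunc κ) (π C.u) = _
    rw [hπu, RatFunc.algebraMap_X]

variable {ψ : Γ(X, C.U ⊓ C.V) →+* RatFunc κ}
  (hψ : ∀ a, ψ (phi b (C.U ⊓ C.V) a) = RatFunc.C (res a)) (hψw : ψ (w C : Γ(X, C.U ⊓ C.V)) = RatFunc.X)

include hψ hψw

theorem psi_rU (g : A[X]) : ψ (rU (g.eval₂ (phi b C.U) C.u)) =
    algebraMap κ[X] (RatFunc κ) (g.map res) := by
  rw [hom_eval₂, hom_eval₂]
  show _ = ((algebraMap κ[X] (RatFunc κ)).comp (mapRingHom res)) g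
  rw [show (algebraMap κ[X] (RatFunc κ)).comp (mapRingHom res) =
      eval₂RingHom (RatFunc.C.comp res) RatFunc.X from Polynomial.ringHom_ext (fun a => by
        simp [RatFunc.algebraMap_C]) (by simp [RatFunc.algebraMap_X]),
    coe_eval₂RingHom]
  congr 1
  exact RingHom.ext fun a => by
    show ψ (rU (phi b C.U a)) = _
    rw [rU_phi]
    exact hψ a

theorem psi_rV (g : A[X]) : ψ (rV (g.eval₂ (phi b C.V) C.v)) =
    aeval (RatFunc.X⁻¹ : RatFunc κ) (g.map res) := by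
  rw [hom_eval₂, hom_eval₂, aeval_def, eval₂_map]
  congr 1
  · exact RingHom.ext fun a => by
      show ψ (rV (phi b C.V a)) = _
      rw [rV_phi, hψ a]
      rfl
  · refine eq_inv_of_mul_eq_one_right ?_
    rw [← hψw, ← map_mul, show (w C : Γ(X, C.U ⊓ C.V)) * rV C.v = 1 from (inf_eq C).2, map_one]

theorem exists_const_U (a : (Γ(X, C.U))ˣ) : ∃ c : κ, c ≠ 0 ∧ ψ (rU a) = RatFunc.C c := by
  obtain ⟨g, hg⟩ := C.surjU a
  obtain ⟨g', hg'⟩ := C.surjU ↑a⁻¹
  have h1 : g.map res * g'.map res = 1 := by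
    apply RatFunc.algebraMap_injective κ
    rw [map_mul, map_one, ← psi_rU C res hψ hψw, ← psi_rU C res hψ hψw, ← map_mul, ← map_mul, hg, hg',
      Units.mul_inv, map_one, map_one]
  obtain ⟨c, hc, hce⟩ := Polynomial.isUnit_iff.1 (IsUnit.of_mul_eq_one _ h1)
  exact ⟨c, hc.ne_zero, by rw [← hg, psi_rU C res hψ hψw, ← hce, RatFunc.algebraMap_C]⟩

theorem exists_const_V (a : (Γ(X, C.V))ˣ) : ∃ c : κ, c ≠ 0 ∧ ψ (rV a) = RatFunc.C c := by
  obtain ⟨g, hg⟩ := C.surjV a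
  obtain ⟨g', hg'⟩ := C.surjV ↑a⁻¹
  have hinj : Function.Injective (aeval (RatFunc.X⁻¹ : RatFunc κ) : κ[X] → RatFunc κ) := by
    rw [← transcendental_iff_injective]
    intro halg
    apply RatFunc.transcendental_X (K := κ)
    rw [← inv_inv (RatFunc.X : RatFunc κ)]
    exact halg.inv
  have h1 : g.map res * g'.map res = 1 := by
    apply hinj
    rw [map_mul, map_one, ← psi_rV C res hψ hψw, ← psi_rV C res hψ hψw, ← map_mul, ← map_mul, hg, hg',
      Units.mul_inv, map_one, map_one]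
  obtain ⟨c, hc, hce⟩ := Polynomial.isUnit_iff.1 (IsUnit.of_mul_eq_one _ h1)
  refine ⟨c, hc.ne_zero, ?_⟩
  rw [← hg, psi_rV C res hψ hψw, ← hce, aeval_C]
  rfl

/-- No nonzero power of the coordinate is a ratio of units of the two charts. -/
theorem zpow_ne (k : ℤ) (a : (Γ(X, C.U))ˣ) (a' : (Γ(X, C.V))ˣ)
    (h : rU a = ((w C ^ k : (Γ(X, C.U ⊓ C.V))ˣ) : Γ(X, C.U ⊓ C.V)) * rV a') : k = 0 := by
  obtain ⟨c, hc, hce⟩ := exists_const_U C res hψ hψw a
  obtain ⟨c', hc', hce'⟩ := exists_const_V C res hψ hψw a'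
  have h2 := congrArg ψ h
  rw [map_mul, hce, hce'] at h2
  have hk : ψ ((w C ^ k : (Γ(X, C.U ⊓ C.V))ˣ) : Γ(X, C.U ⊓ C.V)) = RatFunc.X ^ k := by
    rw [← hψw]
    have := congrArg Units.val (map_zpow (Units.map ψ.toMonoidHom) (w C) k)
    rw [Units.coe_map] at this
    refine this.trans ?_
    rw [Units.val_zpow_eq_zpow_val]
    rfl
  rw [hk] at h2
  have hX : (RatFunc.X : RatFunc κ) ^ k = RatFunc.C (c / c') := by
    rw [map_div₀, h2, mul_div_cancel_right₀ _ (by simpa using hc')]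
  have key : ∀ (n : ℕ) (d : κ), (RatFunc.X : RatFunc κ) ^ n = RatFunc.C d → n = 0 := by
    intro n d hnd
    by_contra hn
    rw [← RatFunc.algebraMap_X, ← map_pow, ← RatFunc.algebraMap_C] at hnd
    have := congrArg Polynomial.natDegree (RatFunc.algebraMap_injective κ hnd)
    rw [natDegree_X_pow, natDegree_C] at this
    exact hn this
  rcases Int.eq_nat_or_neg k with ⟨n, rfl | rfl⟩
  · rw [zpow_natCast] at hX
    simpa using key n _ hX
  · rw [zpow_neg, zpow_natCast, inv_eq_iff_eq_inv, ← map_inv₀] at hX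
    simpa using key n _ hX

/-- Every unit of the overlap is a constant unit times a power of the coordinate. -/
theorem exists_unit_eq [IsDomain A] (hx : Prime x) (hy : Prime y) (hresx : res x = 0)
    [IsDomain Γ(X, C.U)] (hinj : Function.Injective (phi b C.U)) (g : (Γ(X, C.U ⊓ C.V))ˣ) :
    ∃ (ε : Aˣ) (n : ℤ), (g : Γ(X, C.U ⊓ C.V)) =
      phi b (C.U ⊓ C.V) ε * ((w C ^ n : (Γ(X, C.U ⊓ C.V))ˣ) : Γ(X, C.U ⊓ C.V)) := by
  letI : Algebra Γ(X, C.U) Γ(X, C.U ⊓ C.V) := (rU).toAlgebra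
  have : IsLocalization.Away C.u Γ(X, C.U ⊓ C.V) :=
    C.hU.isLocalization_of_eq_basicOpen C.u (homOfLE inf_le_left) (inf_eq C).1
  have hu0 : C.u ≠ 0 := fun h => RatFunc.X_ne_zero (K := κ) (by
    rw [← hψw]; show ψ (rU C.u) = 0; rw [h, map_zero, map_zero])
  have hle : Submonoid.powers C.u ≤ nonZeroDivisors Γ(X, C.U) :=
    Submonoid.powers_le.2 (mem_nonZeroDivisors_of_ne_zero hu0)
  have : IsDomain Γ(X, C.U ⊓ C.V) := IsLocalization.isDomain_of_le_nonZeroDivisors _ hle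
  have hinjW : Function.Injective (phi b (C.U ⊓ C.V)) := fun p q hpq => hinj
    (IsLocalization.injective Γ(X, C.U ⊓ C.V) hle (by
      show rU (phi b C.U p) = rU (phi b C.U q)
      rw [rU_phi, rU_phi, hpq]))
  have hP : ∀ P : Γ(X, C.U), ∃ (j : ℕ) (c : A), P * phi b C.U x ^ j = phi b C.U c := by
    intro P
    obtain ⟨q, rfl⟩ := C.surjU P
    induction q using Polynomial.induction_on with
    | C a => exact ⟨0, a, by simp⟩
    | add p q hp hq =>
      obtain ⟨i, c, hc⟩ := hp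
      obtain ⟨j, d, hd⟩ := hq
      refine ⟨i + j, c * x ^ j + d * x ^ i, ?_⟩
      rw [eval₂_add, map_add, map_mul, map_mul, map_pow, map_pow, ← hc, ← hd]
      ring
    | monomial k a h =>
      obtain ⟨j, c, hc⟩ := h
      refine ⟨j + 1, c * y, ?_⟩
      rw [pow_succ Polynomial.X, ← mul_assoc, eval₂_mul, eval₂_X, map_mul, ← hc, C.mul_u, pow_succ]
      ring
  have hg : ∀ s : Γ(X, C.U ⊓ C.V), ∃ (i j : ℕ) (c : A),
      s * phi b (C.U ⊓ C.V) (x ^ i * y ^ j) = phi b (C.U ⊓ C.V) c := by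
    intro s
    obtain ⟨⟨P, ⟨_, n, rfl⟩⟩, hs⟩ := IsLocalization.surj (Submonoid.powers C.u) s
    obtain ⟨j, c, hc⟩ := hP P
    refine ⟨j, n, c * x ^ n, ?_⟩
    change s * rU (C.u ^ n) = rU P at hs
    have hc' := congrArg rU hc
    rw [map_mul, map_pow, rU_phi, rU_phi, ← hs, map_pow] at hc'
    rw [map_mul, map_mul, map_pow, map_pow, map_pow, phi_y, mul_pow, ← hc']
    show _ = s * (w C : Γ(X, C.U ⊓ C.V)) ^ n * _ * _
    ring
  obtain ⟨i, j, c, hc⟩ := hg g
  obtain ⟨i', j', c', hc'⟩ := hg ↑g⁻¹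
  have hcc : c * c' = x ^ (i + i') * y ^ (j + j') := by
    apply hinjW
    rw [map_mul, ← hc, ← hc']
    calc _ = ((g : Γ(X, C.U ⊓ C.V)) * ↑g⁻¹) * (phi b (C.U ⊓ C.V) (x ^ i * y ^ j) *
          phi b (C.U ⊓ C.V) (x ^ i' * y ^ j')) := by ring
      _ = _ := by rw [Units.mul_inv, one_mul, ← map_mul]; congr 1; ring
  obtain ⟨ε, p, q, rfl⟩ := exists_unit_mul hx hy _ _ c c' hcc
  simp only [map_mul, map_pow, phi_y, mul_pow] at hc
  set W := (w C : Γ(X, C.U ⊓ C.V)) with hW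
  set φx := phi b (C.U ⊓ C.V) x with hφx
  have hc2 : (g : Γ(X, C.U ⊓ C.V)) * W ^ j * φx ^ (i + j) =
      phi b (C.U ⊓ C.V) ε * W ^ q * φx ^ (p + q) := by
    rw [pow_add, pow_add]; linear_combination hc
  have hx0 : φx ≠ 0 := fun h => hx.ne_zero (hinjW (by rw [map_zero]; exact h))
  have hψx : ψ φx = 0 := by rw [hφx, hψ, hresx, map_zero]
  have hunit : ∀ (k : ℕ) (s t : Γ(X, C.U ⊓ C.V)), IsUnit t → s * φx ^ k = t → k = 0 := by
    intro k s t ht hst
    by_contra hk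
    have := (ht.map ψ).ne_zero
    rw [← hst, map_mul, map_pow, hψx, zero_pow hk, mul_zero] at this
    exact this rfl
  have hεu : IsUnit (phi b (C.U ⊓ C.V) ε) := ε.isUnit.map _
  have hWu : IsUnit W := (w C).isUnit
  have heq : i + j = p + q := by
    rcases le_total (i + j) (p + q) with h | h
    · obtain ⟨k, hk⟩ := Nat.exists_eq_add_of_le h
      rw [hk, pow_add _ (i + j) k, ← mul_assoc] at hc2
      have h3 := mul_right_cancel₀ (pow_ne_zero _ hx0)
        (hc2.trans (mul_right_comm _ _ _) : (g : Γ(X, C.U ⊓ C.V)) * W ^ j * φx ^ (i + j) =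
          phi b (C.U ⊓ C.V) ε * W ^ q * φx ^ k * φx ^ (i + j))
      rw [hk, hunit k _ _ (g.isUnit.mul (hWu.pow j)) h3.symm, Nat.add_zero]
    · obtain ⟨k, hk⟩ := Nat.exists_eq_add_of_le h
      rw [hk, pow_add, ← mul_assoc, mul_right_comm] at hc2
      have h3 := mul_right_cancel₀ (pow_ne_zero _ hx0) hc2
      rw [hk, hunit k _ _ (hεu.mul (hWu.pow q)) h3, Nat.add_zero]
  rw [heq] at hc2
  have h4 := mul_right_cancel₀ (pow_ne_zero _ hx0) hc2
  refine ⟨ε, (q : ℤ) - j, ?_⟩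
  apply (hWu.pow j).mul_right_cancel
  rw [h4, mul_assoc]
  congr 1
  rw [hW, ← Units.val_pow_eq_pow_val, ← Units.val_pow_eq_pow_val, ← Units.val_mul, ← zpow_natCast,
    ← zpow_natCast, ← zpow_add, sub_add_cancel]

end Residue

end Groth.ResolveSurf.TwoChartUnits
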