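import Groth.Agent.ResolveSurf.LineCocycle
import Groth.Agent.ResolveSurf.TwoChartUnits
import Groth.Agent.PnCoh.PicProjSpace
import Groth.Agent.Calg1.Misc
import Groth.Agent.PicAux.RegularUFD

/-!
The Picard group of the blow-up of a two dimensional regular local ring in its maximal ideal.
-/

set_option autoImplicit false
set_option backward.isDefEq.respectTransparency.types false
set_option maxHeartbeats 1000000
universe u

open CategoryTheory AlgebraicGeometry IsLocalRing Groth.BlowUpBasics Groth.PicAux
open Groth.PointBlowUp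
open Groth.ResolveSurf.LineCocycle (Deg)

namespace Groth.ResolveSurf.PointBlowUpPic

variable {A : Type u} [CommRing A] [IsRegularLocalRing A] {hA : ringKrullDim A = 2} {x y : A}

/-- A parameter is prime. -/
theorem prime_param (h : Param hA x y) : Prime x := by
  have : IsDomain A := Groth.Ega4Algebra1.isDomain_of_isRegularLocalRing A
  exact (Ideal.span_singleton_prime h.ne_zero).1
    ((Ideal.Quotient.isDomain_iff_prime _).1 h.isDomain_quotient)

/-- The chart ring is factorial. -/
theorem ufd_chart (h : Param hA x y) :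
    @UniqueFactorizationMonoid (Chart x) _ := by
  have : IsDomain A := Groth.Ega4Algebra1.isDomain_of_isRegularLocalRing A
  have : UniqueFactorizationMonoid A := Groth.PicAux.ufd_of_isRegularLocalRing A
  have := h.isDomain_chart
  have := h.isNoetherianRing_chart
  let xx : Chart x := algebraMap A (Chart x) x
  have hxx : Prime xx :=
    (Ideal.span_singleton_prime (nonZeroDivisors.ne_zero algebraMap_self_mem_nonZeroDivisors)).1 h.span_isPrime
  have hloc := isLocalization_away_affineAlgebra (maximalIdeal A) x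
  have hcl : Submonoid.closure ({xx} : Set (Chart x)) = Submonoid.powers xx :=
    (Submonoid.powers_eq_closure xx).symm
  have : IsLocalization (Submonoid.closure ({xx} : Set (Chart x))) (Localization.Away x) := hcl ▸ hloc
  have hufd : UniqueFactorizationMonoid (Localization.Away x) :=
    inferInstanceAs (UniqueFactorizationMonoid (Localization (Submonoid.powers x)))
  let e : Localization (Submonoid.closure ({xx} : Set (Chart x))) ≃+* Localization.Away x :=
    (IsLocalization.algEquiv (Submonoid.closure ({xx} : Set (Chart x))) _ _).toRingEquiv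
  have : IsDomain (Localization (Submonoid.closure ({xx} : Set (Chart x)))) := by
    refine IsLocalization.isDomain_of_le_nonZeroDivisors _ (M := Submonoid.closure ({xx} : Set (Chart x))) ?_
    rw [hcl]
    exact Submonoid.powers_le.2 algebraMap_self_mem_nonZeroDivisors
  refine Groth.Calg1.ufd_of_ufd_localization (fun a ha _ => WfDvdMonoid.exists_factors a ha) {xx}
    (by simpa using hxx) ?_
  exact MulEquiv.uniqueFactorizationMonoid e.symm.toMulEquiv hufd

/-- An invertible module has a basis on a chart. -/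
theorem exists_gen {X : Scheme.{u}} {b : X ⟶ Spec (CommRingCat.of A)}
    (T : Atlas (maximalIdeal A) b) (h : Param hA x y) (L : X.Modules) (hL : PicF.IsInvertible L) :
    ∃ s : Γ(L, chartOpen T ⟨x, h.mem_left⟩), Gen L (chartOpen T ⟨x, h.mem_left⟩) s := by
  have : IsDomain (CommRingCat.of (Chart x)) := h.isDomain_chart
  have : UniqueFactorizationMonoid (CommRingCat.of (Chart x)) := ufd_chart h
  obtain ⟨s, hs⟩ := Groth.PnCoh.exists_gen_chart (CommRingCat.of (Chart x)) (T.j ⟨x, h.mem_left⟩) L hL
  have he : chartOpen T ⟨x, h.mem_left⟩ ≤ (T.j ⟨x, h.mem_left⟩).opensRange :=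
    (Scheme.Hom.image_top_eq_opensRange _).le
  exact ⟨res L he s, hs.res he⟩

variable {X : Scheme.{u}} {b : X ⟶ Spec (CommRingCat.of A)}

variable (b) in
/-- The charts, with the residue map of the first one. -/
theorem exists_full (hb : BlowUp.IsBlowUp b (sheafOf (maximalIdeal A))) (hA : ringKrullDim A = 2) :
    ∃ (x y : A) (C : LineImm.Data (maximalIdeal A) b x y) (ψ : Γ(X, C.U ⊓ C.V) →+* RatFunc (ResidueField A)),
      Prime x ∧ Prime y ∧ IsDomain Γ(X, C.U) ∧ Function.Injective (phi b C.U) ∧
      (∀ a, ψ (phi b (C.U ⊓ C.V) a) = RatFunc.C (residue A a)) ∧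
      ψ (TwoChartUnits.w C : Γ(X, C.U ⊓ C.V)) = RatFunc.X ∧
      ∀ L : X.Modules, PicF.IsInvertible L →
        (∃ s : Γ(L, C.U), Gen L C.U s) ∧ ∃ s : Γ(L, C.V), Gen L C.V s := by
  obtain ⟨T⟩ := nonempty_atlas_of_isBlowUp hb
  obtain ⟨x, y, h⟩ := exists_param (hA := hA) (A := A)
  have hbij := chartHom_bijective T
  let C : LineImm.Data (maximalIdeal A) b x y :=
    { U := chartOpen T ⟨x, h.mem_left⟩
      V := chartOpen T ⟨y, h.mem_right⟩
      hU := (isAffineOpen_top _).image_of_isOpenImmersion _
      hV := (isAffineOpen_top _).image_of_isOpenImmersion _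
      cover := sup_chartOpen_eq_top T h.span_eq h.mem_left h.mem_right
      u := chartHom T ⟨x, h.mem_left⟩ h.T
      v := chartHom T ⟨y, h.mem_right⟩ h.symm.T
      mul_u := by
        rw [phi_chartOpen, RingHom.comp_apply, RingHom.comp_apply, ← map_mul]
        exact congrArg _ (frac_mul_algebraMap _ _).symm
      mul_v := by
        rw [phi_chartOpen, RingHom.comp_apply, RingHom.comp_apply, ← map_mul]
        exact congrArg _ (frac_mul_algebraMap _ _).symm
      nzdU := by
        rw [phi_chartOpen, RingHom.comp_apply]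
        exact map_mem_nonZeroDivisors_of_flat (RingHom.Flat.of_bijective (hbij _))
          algebraMap_self_mem_nonZeroDivisors
      nzdV := by
        rw [phi_chartOpen, RingHom.comp_apply]
        exact map_mem_nonZeroDivisors_of_flat (RingHom.Flat.of_bijective (hbij _))
          algebraMap_self_mem_nonZeroDivisors
      leV := basicOpen_chartHom_le T ⟨x, h.mem_left⟩ ⟨y, h.mem_right⟩
      leU := basicOpen_chartHom_le T ⟨y, h.mem_right⟩ ⟨x, h.mem_left⟩
      span_eq := h.span_eq
      surjU := fun s => by
        obtain ⟨t, rfl⟩ := (hbij _).2 s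
        obtain ⟨g, rfl⟩ := h.aeval_surjective t
        exact ⟨g, by rw [Polynomial.aeval_def, Polynomial.hom_eval₂, ← phi_chartOpen]⟩
      surjV := fun s => by
        obtain ⟨t, rfl⟩ := (hbij _).2 s
        obtain ⟨g, rfl⟩ := h.symm.aeval_surjective t
        exact ⟨g, by rw [Polynomial.aeval_def, Polynomial.hom_eval₂, ← phi_chartOpen]⟩ }
  let c : maximalIdeal A := ⟨x, h.mem_left⟩
  let e : Chart x ≃+* Γ(X, C.U) := RingEquiv.ofBijective (chartHom T c) (hbij c)
  let π : Γ(X, C.U) →+* Polynomial (ResidueField A) :=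
    h.excEquiv.toRingHom.comp ((Ideal.Quotient.mk _).comp e.symm.toRingHom)
  have hπ : ∀ a, π (phi b C.U a) = Polynomial.C (residue A a) := fun a => by
    have h1 : e.symm (phi b C.U a) = Polynomial.aeval h.T (Polynomial.C a) := by
      apply e.injective
      rw [e.apply_symm_apply, Polynomial.aeval_C]
      exact RingHom.congr_fun (phi_chartOpen T c) a
    show h.excEquiv (Ideal.Quotient.mk _ (e.symm (phi b C.U a))) = _
    rw [h1, h.excEquiv_mk, Polynomial.map_C]
  have hπu : π C.u = Polynomial.X := by
    have h1 : e.symm C.u = Polynomial.aeval h.T (Polynomial.X : Polynomial A) := by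
      apply e.injective
      rw [e.apply_symm_apply, Polynomial.aeval_X]
      rfl
    show h.excEquiv (Ideal.Quotient.mk _ (e.symm C.u)) = _
    rw [h1, h.excEquiv_mk, Polynomial.map_X]
  obtain ⟨ψ, hψ, hψw⟩ := TwoChartUnits.exists_psi C (residue A) π hπ hπu
  refine ⟨x, y, C, ψ, prime_param h, prime_param h.symm, ?_, ?_, hψ, hψw, fun L hL => ?_⟩
  · have := h.isDomain_chart
    exact e.symm.injective.isDomain
  · have : IsDomain A := Groth.Ega4Algebra1.isDomain_of_isRegularLocalRing A
    have hinj : Function.Injective (algebraMap A (Chart x)) := fun p q hpq =>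
      IsLocalization.injective (M := Submonoid.powers x) (Localization.Away x)
        (Submonoid.powers_le.mpr (mem_nonZeroDivisors_of_ne_zero h.ne_zero))
        (congrArg Subtype.val hpq)
    show Function.Injective (phi b (chartOpen T c))
    rw [phi_chartOpen]
    exact (hbij c).1.comp hinj
  · exact ⟨exists_gen T h L hL, exists_gen T h.symm L hL⟩

/-- The Picard group of the blow-up is generated by the exceptional ideal, freely. -/
theorem pic (hb : BlowUp.IsBlowUp b (sheafOf (maximalIdeal A))) (hA : ringKrullDim A = 2)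
    (M : X.Modules) (hM : ClSub.IsInverseOf M (LineImm.excMod (maximalIdeal A) b)) :
    (∀ L : X.Modules, PicF.IsInvertible L → ∃ n : ℕ,
      Nonempty (L ≅ CohB1.tensorPow (LineImm.excMod (maximalIdeal A) b) n) ∨
        Nonempty (L ≅ CohB1.tensorPow M n)) ∧
    ∀ n : ℕ, 1 ≤ n →
      IsEmpty (CohB1.tensorPow (LineImm.excMod (maximalIdeal A) b) n ≅ Coh.structureModule X) := by
  have : IsDomain A := Groth.Ega4Algebra1.isDomain_of_isRegularLocalRing A
  obtain ⟨x, y, C, ψ, hx, hy, hdom, hinj, hψ, hψw, hgen⟩ := exists_full b hb hA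
  let w := TwoChartUnits.w C
  have hun := TwoChartUnits.zpow_ne C (residue A) hψ hψw
  have hresx : residue A x = 0 :=
    (residue_eq_zero_iff x).2 ((SetLike.ext_iff.1 C.span_eq x).2 (Ideal.subset_span (by simp)))
  have hex : ∀ L : X.Modules, PicF.IsInvertible L → ∃ n, Deg w L n := fun L hL => by
    obtain ⟨⟨e, he⟩, f, hf⟩ := hgen L hL
    obtain ⟨g, hg⟩ := (hf.res inf_le_right).exists_unit (he.res (inf_le_left : C.U ⊓ C.V ≤ C.U))
    obtain ⟨ε, n, hn⟩ := TwoChartUnits.exists_unit_eq C (residue A) hψ hψw hx hy hresx hinj g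
    refine ⟨n, phi b C.U (↑ε⁻¹ : A) • e, f, he.smul_unit (ε⁻¹.isUnit.map _), hf, ?_⟩
    rw [res_smul, hg, hn, TwoChartUnits.rU_phi, smul_smul, ← mul_assoc, ← map_mul, Units.inv_mul,
      map_one, one_mul]
  have hexc : Deg w (LineImm.excMod (maximalIdeal A) b) (-1) := by
    have hxI : x ∈ maximalIdeal A := (SetLike.ext_iff.1 C.span_eq x).2 (Ideal.subset_span (by simp))
    have hyI : y ∈ maximalIdeal A := (SetLike.ext_iff.1 C.span_eq y).2 (Ideal.subset_span (by simp))
    obtain ⟨sx, hsx⟩ := LineImm.exists_sect (b := b) hxI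
    obtain ⟨sy, hsy⟩ := LineImm.exists_sect (b := b) hyI
    refine ⟨res _ le_top sx, res _ le_top sy, C.gen hsx, C.symm.gen hsy, ?_⟩
    rw [res_res, res_res]
    refine Groth.OmegaSheaf.idealSect_injective _ _ ?_
    rw [Groth.OmegaSheaf.idealSect_smul, LineImm.idealSect_res_phi hsx, LineImm.idealSect_res_phi hsy,
      zpow_neg_one]
    exact TwoChartUnits.phi_x C
  have hIinv : PicF.IsInvertible (LineImm.excMod (maximalIdeal A) b) :=
    Groth.PicAux.isInvertible_idealMod hb.1
  have hMinv : PicF.IsInvertible M :=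
    Groth.PicAux.isInvertible_of_isInverseOf hIinv (Groth.PicAux.isInverseOf_symm hM)
  obtain ⟨j, hj⟩ := hex M hMinv
  obtain ⟨eM⟩ := hM
  have hj1 : j + (-1) = 0 := ((hj.tensor hexc).of_iso eM).unique hun LineCocycle.deg_structure
  refine ⟨fun L hL => ?_, fun n hn => ⟨fun φ => ?_⟩⟩
  · obtain ⟨k, hk⟩ := hex L hL
    rcases Int.eq_nat_or_neg k with ⟨m, rfl | rfl⟩
    · exact ⟨m, Or.inr (hk.iso C.cover (by simpa [show j = 1 by omega] using hj.pow m))⟩
    · exact ⟨m, Or.inl (hk.iso C.cover (by simpa using hexc.pow m))⟩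
  · have := ((hexc.pow n).of_iso φ).unique hun LineCocycle.deg_structure
    omega

end Groth.ResolveSurf.PointBlowUpPic
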