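import Groth.Agent.ResolveSurf.SpreadTrivial
import Groth.Agent.ResolveSurf.PointBlowUpPic
import Groth.Agent.ResolveSurf.ExcLine
import Groth.Agent.ResolveSurf.ContractionDesc
import Groth.Agent.Variety2.Reg.Ample
import Groth.Agent.EulerDeg.Basic
import Groth.Agent.Curves1.RR.P1Facts

/-!
Invertible modules on a contraction of an exceptional curve.
-/

set_option autoImplicit false
set_option backward.isDefEq.respectTransparency.types false
set_option maxHeartbeats 1000000
universe u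

open CategoryTheory CategoryTheory.Limits AlgebraicGeometry IsLocalRing TopologicalSpace
open Groth.BlowUpBasics Groth.PicAux

namespace Groth.ResolveSurf.ContractionPic

/-- A twist of the projective line is trivial only for twist zero. -/
theorem eq_zero_of_twist_iso {k : Type u} [Field k] {n : ℕ}
    (e : Twist.twistProjSpace 1 k (n : ℤ) ≅ Coh.structureModule (CohB1.ProjSpace 1 k)) : n = 0 := by
  letI : (CohB1.ProjSpace 1 k).Over (Spec (CommRingCat.of k)) := ⟨CohB1.ProjSpace.toSpec 1 k⟩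
  obtain ⟨e0⟩ := Groth.PnCoh.nonempty_twist_zero_iso (CohB1.polyGrading 1 k)
  let e0' : Twist.twistProjSpace 1 k ((0 : ℕ) : ℤ) ≅ Coh.structureModule (CohB1.ProjSpace 1 k) := e0
  have h1 := Groth.EulerDeg.finrank_congr (k := k) (e ≪≫ e0'.symm) 0
  rw [Groth.PnCoh.finrank_h0 k 1 n, Groth.PnCoh.finrank_h0 k 1 0] at h1
  rw [Nat.choose_symm_add.symm] at h1
  simp at h1
  omega

variable {E X X' : Scheme.{u}} (ι : E ⟶ X) [IsClosedImmersion ι] (b : X ⟶ X')

/-- A module with trivial restriction to the curve is trivial over the local scheme at the point. -/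
theorem trivial_local (hE : Models.IsExcCurve ι) {y : X'} {hy : IsClosed ({y} : Set X')}
    (hbl : BlowUp.IsBlowUp b (Scheme.IdealSheafData.vanishingIdeal ⟨{y}, hy⟩))
    [IsRegularLocalRing (X'.presheaf.stalk y)] (hdim : ringKrullDim (X'.presheaf.stalk y) = 2)
    (hrange : ∀ z, b (ι z) = y) (L : X.Modules) (hL : PicF.IsInvertible L)
    (h : Nonempty ((Scheme.Modules.pullback ι).obj L ≅ Coh.structureModule E)) :
    Nonempty ((Scheme.Modules.pullback (pullback.fst b (X'.fromSpecStalk y))).obj L ≅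
      Coh.structureModule (pullback b (X'.fromSpecStalk y))) := by
  obtain ⟨-, k₀, _, e₀, -⟩ := hE
  obtain ⟨_, hnt⟩ := ContractionDesc.exists_ne_genericPoint e₀
  obtain ⟨η, -, hgen, huniq⟩ := PointContraction.exists_generic_fibre hbl inferInstance hdim
  have : Flat (X'.fromSpecStalk y) := PointContraction.flat_fromSpecStalk y
  let R := X'.presheaf.stalk y
  let j := pullback.fst b (X'.fromSpecStalk y)
  let q : pullback b (X'.fromSpecStalk y) ⟶ Spec (CommRingCat.of R) := pullback.snd b (X'.fromSpecStalk y)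
  have hq : BlowUp.IsBlowUp q (sheafOf (maximalIdeal R)) :=
    PointContraction.comap_vanishingIdeal_fromSpecStalk y hy ▸
      isBlowUp_of_isPullback hbl (IsPullback.of_hasPullback b (X'.fromSpecStalk y)).flip
  obtain ⟨T⟩ := nonempty_atlas_of_isBlowUp hq
  obtain ⟨x₁, y₁, hp⟩ := Groth.PointBlowUp.exists_param (hA := hdim) (A := R)
  obtain ⟨C⟩ := LineImm.nonempty_data T hp.span_eq hp.mem_left hp.mem_right
    hp.aeval_surjective hp.symm.aeval_surjective
  obtain ⟨r, hr, hrb, ⟨τ⟩⟩ := LineImm.exists_immersion C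
  obtain ⟨hcart, k, _, e, ⟨ec⟩⟩ := ExcLine.isExcCurve q hdim hq r hrb τ
  rw [Scheme.IdealSheafData.ker_subschemeι] at ec
  let J := (sheafOf (maximalIdeal R)).comap q
  let φ : CohB1.ProjSpace 1 k ⟶ pullback b (X'.fromSpecStalk y) := e.hom ≫ J.subschemeι
  -- the line maps into the curve
  have hfib : ∀ z, ∃ w, ι w = j (φ z) := by
    intro z
    refine PointContraction.range_eq_fibre ι hrange hnt hgen huniq _ ?_
    have hz : φ z ∈ J.support := J.range_subschemeι.le ⟨e.hom z, rfl⟩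
    change φ z ∈ ((sheafOf (maximalIdeal R)).comap q).support at hz
    rw [Scheme.IdealSheafData.support_comap] at hz
    have hm := (mem_support_sheafOf (maximalIdeal R) (q (φ z))).1 hz
    have hqz : q (φ z) = closedPoint R := PrimeSpectrum.ext
      ((maximalIdeal.isMaximal R).eq_of_le (q (φ z)).isPrime.ne_top hm).symm
    rw [← Scheme.Hom.comp_apply j b, pullback.condition, Scheme.Hom.comp_apply]
    exact (congrArg (X'.fromSpecStalk y) hqz).trans Scheme.fromSpecStalk_closedPoint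
  let p := pullback.fst (φ ≫ j) ι
  have : Surjective p := ⟨fun z => by
    obtain ⟨w, hw⟩ := hfib z
    obtain ⟨t, ht, -⟩ := Scheme.Pullback.exists_preimage_pullback (f := φ ≫ j) (g := ι) z w
      ((Scheme.Hom.comp_apply φ j z).trans hw.symm)
    exact ⟨t, ht⟩⟩
  have : IsIso p := isIso_of_isClosedImmersion_of_surjective p
  let g : CohB1.ProjSpace 1 k ⟶ E := inv p ≫ pullback.snd (φ ≫ j) ι
  have hg : g ≫ ι = φ ≫ j := by
    rw [Category.assoc, ← pullback.condition, IsIso.inv_hom_id_assoc]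
  obtain ⟨eg⟩ := pullback_structure_iso g
  let Lz := (Scheme.Modules.pullback j).obj L
  have hLz : PicF.IsInvertible Lz := isInvertible_pullback j hL
  let eL : (Scheme.Modules.pullback φ).obj Lz ≅ Coh.structureModule (CohB1.ProjSpace 1 k) :=
    (Scheme.Modules.pullbackComp φ j).app L ≪≫ (Scheme.Modules.pullbackCongr hg.symm).app L ≪≫
      ((Scheme.Modules.pullbackComp g ι).app L).symm ≪≫ (Scheme.Modules.pullback g).mapIso h.some ≪≫ eg
  -- powers of the exceptional ideal restrict to twists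
  have hpow : ∀ n : ℕ, Nonempty ((Scheme.Modules.pullback φ).obj
      (CohB1.tensorPow (ClSub.idealMod J) n) ≅ Twist.twistProjSpace 1 k (n : ℤ)) := fun n => by
    obtain ⟨e₁⟩ := pullback_tensorPow φ (ClSub.idealMod J) n
    obtain ⟨e₂⟩ : Nonempty (CohB1.tensorPow ((Scheme.Modules.pullback φ).obj (ClSub.idealMod J)) n ≅
        CohB1.tensorPow (Twist.twistProjSpace 1 k 1) n) := nonempty_tensorPow_iso ec n
    obtain ⟨e₃⟩ := Groth.Variety2.Reg.nonempty_tensorPow_tw (n := 1) (k := k) 1 n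
    exact ⟨e₁ ≪≫ e₂ ≪≫ e₃ ≪≫ eqToIso (by rw [one_mul])⟩
  have hIinv : PicF.IsInvertible (ClSub.idealMod J) := isInvertible_idealMod hq.1
  obtain ⟨M, hM, hMI⟩ := exists_isInverseOf hIinv
  obtain ⟨n, hn⟩ := (PointBlowUpPic.pic hq hdim M (isInverseOf_symm hMI)).1 Lz hLz
  obtain ⟨en⟩ := hpow n
  have hn0 : n = 0 := by
    rcases hn with ⟨⟨f⟩⟩ | ⟨⟨f⟩⟩
    · exact eq_zero_of_twist_iso (k := k)
        (en.symm ≪≫ (Scheme.Modules.pullback φ).mapIso f.symm ≪≫ eL)
    · obtain ⟨eM⟩ := isInverseOf_tensorPow hMI n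
      obtain ⟨et⟩ := pullback_tensorMod φ (isInvertible_tensorPow hIinv n) (isInvertible_tensorPow hM n)
      obtain ⟨eo⟩ := pullback_structure_iso φ
      exact eq_zero_of_twist_iso (k := k) ((SecTwist.unitorR _).symm ≪≫
        PicGrp.tensorModIso en.symm (eL.symm ≪≫ (Scheme.Modules.pullback φ).mapIso f) ≪≫
        et.symm ≪≫ (Scheme.Modules.pullback φ).mapIso eM ≪≫ eo)
  subst hn0
  rcases hn with ⟨⟨f⟩⟩ | ⟨⟨f⟩⟩
  · exact ⟨f⟩
  · exact ⟨f⟩

/-- Sections over preimages agree, for opens of all sizes. -/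
theorem bijective_app {b : X ⟶ X'} (hb : Groth.AlgGrp1.PushIso b) (U : X'.Opens) :
    Function.Bijective (b.app U) := by
  choose B hB hzB hBU hiso using fun z : (U : Set X') => hb U z.1 z.2
  have hBb : ∀ z, Function.Bijective (b.app (B z)) := fun z =>
    have := hiso z; ConcreteCategory.bijective_of_isIso (b.app (B z))
  have nat : ∀ {W V : X'.Opens} (h : V ≤ W) (a : Γ(X', W)),
      resX X (b.preimage_mono h) (b.app W a) = b.app V (resX X' h a) := fun h a =>
    (ConcreteCategory.congr_hom (b.naturality (homOfLE h).op) a).symm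
  have hinj : ∀ W : X'.Opens, Function.Injective (b.app W) := fun W a a' h => by
    choose B' hB' hz' hle' hiso' using fun z : (W : Set X') => hb W z.1 z.2
    refine resX_ext B' hle' (fun z hz => Opens.mem_iSup.2 ⟨⟨z, hz⟩, hz' ⟨z, hz⟩⟩) fun z => ?_
    have := hiso' z
    apply (ConcreteCategory.bijective_of_isIso (b.app (B' z))).1
    exact (nat (hle' z) a).symm.trans ((congrArg _ h).trans (nat (hle' z) a'))
  refine ⟨hinj U, fun s => ?_⟩
  choose c hc using fun z => (hBb z).2 (resX X (b.preimage_mono (hBU z)) s)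
  obtain ⟨r, hr, -⟩ := resX_glue B hBU (fun z hz => Opens.mem_iSup.2 ⟨⟨z, hz⟩, hzB ⟨z, hz⟩⟩) c
    fun z z' => by
      apply hinj
      rw [← nat inf_le_left, ← nat inf_le_right, hc, hc, resX_resX, resX_resX]
  refine ⟨r, resX_ext (fun z => b ⁻¹ᵁ B z) (fun z => b.preimage_mono (hBU z))
    (fun x hx => Opens.mem_iSup.2 ⟨⟨b x, hx⟩, hzB ⟨b x, hx⟩⟩) fun z => ?_⟩
  rw [nat (hBU z), hr, hc]

/-- Pullback along a contraction is injective and its image is the modules trivial on the curve. -/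
theorem pic (hE : Models.IsExcCurve ι) (hb : Models.IsContractionOf ι b) :
    (∀ L₁ L₂ : X'.Modules, PicF.IsInvertible L₁ → PicF.IsInvertible L₂ →
      Nonempty ((Scheme.Modules.pullback b).obj L₁ ≅ (Scheme.Modules.pullback b).obj L₂) → Nonempty (L₁ ≅ L₂)) ∧
    ∀ L : X.Modules, PicF.IsInvertible L →
      ((∃ L' : X'.Modules, PicF.IsInvertible L' ∧ Nonempty ((Scheme.Modules.pullback b).obj L' ≅ L)) ↔
        Nonempty ((Scheme.Modules.pullback ι).obj L ≅ Coh.structureModule E)) := by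
  obtain ⟨hN, hp, y, hy, hrange, hreg, hdim, hbl⟩ := hb
  have hEy : ∀ z, b (ι z) = y := fun z => by
    have : (ι ≫ b).base z ∈ ({y} : Set X') := hrange ▸ ⟨z, rfl⟩
    exact this
  have := Groth.Ega4Algebra1.isDomain_of_isRegularLocalRing (X'.presheaf.stalk y)
  have := Groth.Ega4Algebra1.isIntegrallyClosed_of_isRegularLocalRing (X'.presheaf.stalk y)
  have hnf : ¬ IsField (X'.presheaf.stalk y) := fun hf => by
    rw [ringKrullDim_eq_zero_of_isField hf] at hdim
    exact absurd hdim (by decide)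
  have hbij := bijective_app (PointContraction.pushIso hbl hnf)
  refine ⟨fun L₁ L₂ h₁ h₂ ⟨e⟩ => ?_, fun L hL => ⟨?_, fun h => ?_⟩⟩
  · have := isIso_unit_of_invertible b hbij h₁
    have := isIso_unit_of_invertible b hbij h₂
    exact ⟨asIso ((Scheme.Modules.pullbackPushforwardAdjunction b).unit.app L₁) ≪≫
      (Scheme.Modules.pushforward b).mapIso e ≪≫
        (asIso ((Scheme.Modules.pullbackPushforwardAdjunction b).unit.app L₂)).symm⟩
  · rintro ⟨L', hL', ⟨e⟩⟩
    obtain ⟨W, t, -, hyW, ht⟩ := exists_affine_gen_mem hL' y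
    have hg := ht.pull (ι ≫ b)
    have htop : (⊤ : E.Opens) ≤ (ι ≫ b) ⁻¹ᵁ W := fun z _ => by
      show b (ι z) ∈ W
      rw [hEy]
      exact hyW
    obtain ⟨eo⟩ : Nonempty ((Scheme.Modules.pullback (ι ≫ b)).obj L' ≅ Coh.structureModule E) := by
      obtain ⟨ψ, -⟩ := exists_iso_of_gen (U := fun _ : Unit => (⊤ : E.Opens))
        (top_le_iff.1 (le_iSup (fun _ : Unit => (⊤ : E.Opens)) ())) _ (fun _ => hg.res htop)
        _ (fun _ => gen_oneSec ⊤) fun _ _ r hr => by
          have : r = 1 := (hg.res htop).smul_inj (h := inf_le_right) (by rw [one_smul]; exact hr.symm)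
          rw [this, one_smul]
      exact ⟨ψ⟩
    exact ⟨(Scheme.Modules.pullback ι).mapIso e.symm ≪≫ (Scheme.Modules.pullbackComp ι b).app L' ≪≫ eo⟩
  · haveI := hreg
    have hcov : ∀ z : X', ∃ W : X'.Opens, z ∈ W ∧ ∃ e : Γ(L, b ⁻¹ᵁ W), Gen L (b ⁻¹ᵁ W) e := by
      intro z
      by_cases hz : z = y
      · subst hz
        exact SpreadTrivial.exists_gen b z L hL (trivial_local ι b hE hbl hdim hEy L hL h)
      · let U : X'.Opens := ⟨({y} : Set X')ᶜ, hy.isOpen_compl⟩
        have := PointContraction.isIso_restrict hbl (W := U) fun h => h rfl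
        obtain ⟨⟨x, hxU⟩, hx⟩ := (b ∣_ U).homeomorph.surjective ⟨z, hz⟩
        obtain ⟨O, e, -, hxO, he⟩ := exists_affine_gen_mem hL x
        let O' : (b ⁻¹ᵁ U).toScheme.Opens := (b ⁻¹ᵁ U).ι ⁻¹ᵁ O
        let W : X'.Opens := U.ι ''ᵁ ((b ∣_ U) ''ᵁ O')
        have hWO : b ⁻¹ᵁ W ≤ O := by
          intro p hp
          obtain ⟨u, ⟨v, hv, rfl⟩, hu⟩ := hp
          have hpU : p ∈ b ⁻¹ᵁ U := by
            show b p ∈ U
            rw [← hu]
            exact ((b ∣_ U) v).2
          have hvp : v = ⟨p, hpU⟩ := (b ∣_ U).homeomorph.injective <| Subtype.ext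
            (hu.trans (morphismRestrict_base_coe b U ⟨p, hpU⟩).symm)
          rw [hvp] at hv
          exact hv
        refine ⟨W, ⟨⟨z, hz⟩, ⟨⟨x, hxU⟩, hxO, ?_⟩, rfl⟩, res L hWO e, he.res hWO⟩
        exact hx
    choose W hzW e he using hcov
    obtain ⟨hL', hco⟩ := pushforward_invertible_and_counit b hbij W
      (top_le_iff.1 fun z _ => Opens.mem_iSup.2 ⟨z, hzW z⟩) e he
    exact ⟨_, hL', ⟨asIso ((Scheme.Modules.pullbackPushforwardAdjunction b).counit.app L)⟩⟩

end Groth.ResolveSurf.ContractionPic
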