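import Groth.Prelude.Def_ResolveSeq
import Groth.Agent.S2348
import Groth.Agent.S2821
import Groth.Agent.BlowUpBasics.Global
import Groth.Agent.BlowUpBasics.Vanishing
import Groth.Agent.BlowUpBasics.EffCartier
import Groth.Agent.HTopHyper.BlowUpProper
import Groth.Agent.Divisors.EffCartierDim
import Groth.Agent.ResPropLib.FibreBound
import Groth.Agent.ArSurfBasics.PointPrincipalization
import Groth.Agent.DivisorLength.Basic
import Mathlib.AlgebraicGeometry.ZariskisMainTheorem
import Mathlib.Data.DFinsupp.WellFounded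

/-!
# Resolving a curve by blowing up closed points

Point blowing up sequences over an integral Noetherian curve, and the termination of blowing up
singular points below a given finite resolution.
-/

set_option autoImplicit false
set_option backward.isDefEq.respectTransparency.types false
set_option linter.style.haveILetI false

universe u

open CategoryTheory CategoryTheory.Limits AlgebraicGeometry TopologicalSpace

namespace Groth.ResolveSurf.CurveBU

variable {Y : Scheme.{u}}

/-- The reduced ideal of a closed point. -/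
noncomputable abbrev ptIdeal (z : Y) (hz : IsClosed ({z} : Set Y)) : Y.IdealSheafData :=
  Scheme.IdealSheafData.vanishingIdeal ⟨{z}, hz⟩

theorem coheight_le_of_dim (h : topologicalKrullDim Y ≤ 1) (y : Y) : Order.coheight y ≤ 1 := by
  have h' := Order.coheight_le_krullDim ((irreducibleSetEquivPoints (α := Y)).symm y)
  rw [Order.coheight_orderIso] at h'
  exact WithBot.coe_le_coe.1 (h'.trans h)

/-- Codimensions do not grow along a finite morphism. -/
theorem coheight_le_of_isFinite {W : Scheme.{u}} (f : W ⟶ Y) [IsFinite f] (w : W) :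
    Order.coheight w ≤ Order.coheight (f w) := by
  refine Order.coheight_le_coheight_apply_of_strictMono f (fun a b hab => ?_) w
  refine lt_iff_le_not_ge.2 ⟨Scheme.le_iff_specializes.2
    ((Scheme.le_iff_specializes.1 hab.le).map f.continuous), fun hge => hab.not_ge ?_⟩
  have e : f a = f b := ((Scheme.le_iff_specializes.1 hge).antisymm
    ((Scheme.le_iff_specializes.1 hab.le).map f.continuous)).eq
  suffices a = b from this ▸ le_refl a
  haveI : Finite ↥(f.fiber (f a)) :=
    (f.fiberHomeo (f a)).finite_iff.2 (f.finite_preimage_singleton (f a)).to_subtype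
  haveI : JacobsonSpace ↥(f.fiber (f a)) :=
    LocallyOfFiniteType.jacobsonSpace (f.fiberToSpecResidueField (f a))
  have h : (f.fiberHomeo (f a)).symm ⟨b, e.symm⟩ ⤳ (f.fiberHomeo (f a)).symm ⟨a, rfl⟩ :=
    ((subtype_specializes_iff (p := fun x => x ∈ f ⁻¹' {f a}) ⟨b, e.symm⟩ ⟨a, rfl⟩).2
      (Scheme.le_iff_specializes.1 hab.le)).map (f.fiberHomeo (f a)).symm.continuous
  exact (congrArg Subtype.val ((f.fiberHomeo (f a)).symm.injective h.eq)).symm

/-- A scheme proper over a scheme and dominated by a finite one is finite. -/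
theorem isFinite_of_dominated {X W : Scheme.{u}} (g : W ⟶ Y) (h : X ⟶ W) [IsProper g]
    [IsDominant h] [IsFinite (h ≫ g)] : IsFinite g := by
  haveI : UniversallyClosed h := .of_comp_of_isSeparated h g
  have hs : Function.Surjective h := fun w => by
    have h1 := h.denseRange.closure_range
    rw [h.isClosedMap.isClosed_range.closure_eq] at h1
    exact h1.ge (Set.mem_univ w)
  haveI : LocallyQuasiFinite g := .of_finite_preimage_singleton g fun y => by
    refine ((h ≫ g).finite_preimage_singleton y).image h |>.subset fun w hw => ?_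
    obtain ⟨x, rfl⟩ := hs w
    exact ⟨x, hw, rfl⟩
  exact IsFinite.of_isProper_of_locallyQuasiFinite g

theorem comap_ptIdeal_ne_bot [IsIntegral Y] {W : Scheme.{u}} [IsIntegral W] (h : W ⟶ Y)
    (hgen : h (genericPoint W) = genericPoint Y) {z : Y} (hz : IsClosed ({z} : Set Y))
    (hne : genericPoint Y ≠ z) : (ptIdeal z hz).comap h ≠ ⊥ := fun h0 => by
  have h1 := congrArg (fun J : W.IdealSheafData => (J.support : Set W)) h0
  simp only [Scheme.IdealSheafData.support_comap, Scheme.IdealSheafData.support_bot,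
    Closeds.coe_preimage, Scheme.IdealSheafData.coe_support_vanishingIdeal] at h1
  have h2 : genericPoint W ∈ h ⁻¹' ((⟨{z}, hz⟩ : Closeds Y) : Set Y) := by rw [h1]; trivial
  exact hne (hgen ▸ h2)

/-- On an integral regular curve every non-zero ideal is Cartier. -/
theorem isEffCartier_of_ne_bot [IsIntegral Y] [IsLocallyNoetherian Y]
    (hreg : ∀ y : Y, IsRegularLocalRing (Y.presheaf.stalk y))
    (hdim : ∀ y : Y, Order.coheight y ≤ 1) (D : Y.IdealSheafData) (hD : D ≠ ⊥) :
    BlowUp.IsEffCartierIdeal D := by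
  refine Groth.Divisors.isEffCartierIdeal_of_stalk D fun y _ U hy => ?_
  haveI := hreg y
  haveI : IsPrincipalIdealRing (Y.presheaf.stalk y) := by
    refine ((tfae_of_isNoetherianRing_of_isLocalRing_of_isDomain (R := Y.presheaf.stalk y)).out 4 0).1 ?_
    have h1 := (isRegularLocalRing_iff (R := Y.presheaf.stalk y)).1 (hreg y)
    rw [ringKrullDim_stalk_eq_coheight] at h1
    have h2 : (IsLocalRing.maximalIdeal (Y.presheaf.stalk y)).spanFinrank ≤ 1 := by
      have h3 : ((IsLocalRing.maximalIdeal (Y.presheaf.stalk y)).spanFinrank : ℕ∞) = Order.coheight y :=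
        WithBot.coe_inj.1 h1
      exact_mod_cast h3.trans_le (hdim y)
    rcases Nat.le_one_iff_eq_zero_or_eq_one.1 h2 with h3 | h3
    · rw [Submodule.spanFinrank_eq_zero_iff_eq_bot (IsNoetherian.noetherian _)] at h3
      exact ⟨⟨0, h3.trans (Submodule.span_zero_singleton _).symm⟩⟩
    · obtain ⟨g, hg⟩ := ((Submodule.spanFinrank_eq_one_iff _).1 h3).1
      exact ⟨⟨g, hg⟩⟩
  obtain ⟨g, hg⟩ := IsPrincipalIdealRing.principal ((D.ideal U).map (Y.presheaf.germ U.1 y hy).hom)
  refine ⟨g, mem_nonZeroDivisors_of_ne_zero fun h0 => hD ?_, hg⟩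
  rw [h0, Submodule.span_zero_singleton] at hg
  haveI : Nonempty U.1 := ⟨⟨y, hy⟩⟩
  have hU : D.ideal U = ⊥ := eq_bot_iff.2 fun a ha => germ_injective_of_isIntegral Y y hy
    ((Ideal.mem_bot.1 (hg.le (Ideal.mem_map_of_mem _ ha))).trans (map_zero _).symm)
  have hsupp : genericPoint Y ∈ D.support := by
    have hη : genericPoint Y ∈ U.1 := ((genericPoint_spec Y).mem_open_set_iff U.1.2).2 (by simpa using ⟨y, hy⟩)
    rw [Groth.DivisorLength.mem_support_iff_le hη, hU]
    exact bot_le
  have htop : (⊤ : Closeds Y) ≤ D.support := fun w _ =>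
    ((genericPoint_spec Y).specializes (y := w) trivial).mem_closed D.support.isClosed hsupp
  have h1 := Scheme.IdealSheafData.le_support_iff_le_vanishingIdeal.mp htop
  rw [Scheme.IdealSheafData.vanishingIdeal_top] at h1
  exact le_bot_iff.mp (h1.trans (le_of_eq Scheme.nilradical_eq_bot))

/-- Point blow-up sequences of a curve are proper birational. -/
theorem seq_props {W Y : Scheme.{u}} {g : W ⟶ Y} (hg : Resolve.IsPtBlowupSeq g) :
    ∀ [IsIntegral Y] [IsNoetherian Y], ¬ IsClosed ({genericPoint Y} : Set Y) →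
      IsProper g ∧ IsIntegral W ∧ ∃ V : Y.Opens, (V : Set Y).Nonempty ∧ IsIso (g ∣_ V) := by
  induction hg with
  | @iso W Y e =>
    intro _ _ _
    haveI : Nonempty W := ⟨e.inv (genericPoint Y)⟩
    exact ⟨inferInstance, isIntegral_of_isOpenImmersion e.hom, ⊤, ⟨genericPoint Y, trivial⟩, inferInstance⟩
  | @step W Z Y b r z hz hb hr ih =>
    intro _ _ hY
    obtain ⟨hp, hint, V, hVne, hViso⟩ := ih hY
    haveI := hp; haveI := hint; haveI := hViso
    haveI : IsLocallyNoetherian Z := LocallyOfFiniteType.isLocallyNoetherian r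
    haveI : IsProper b := Groth.HTopHyper.isProper_of_isBlowUp hb fun U => by
      haveI := IsLocallyNoetherian.component_noetherian U
      exact IsNoetherian.noetherian _
    obtain ⟨hdom⟩ : Nonempty (r (genericPoint Z) = genericPoint Y) := by
      have hη : genericPoint Y ∈ V := ((genericPoint_spec Y).mem_open_set_iff V.2).2 (by simpa using hVne)
      obtain ⟨q, hq⟩ := (r ∣_ V).homeomorph.surjective ⟨_, hη⟩
      have hq' : r q.1 = genericPoint Y := (morphismRestrict_base_coe r V q).symm.trans (congrArg Subtype.val hq)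
      refine ⟨(Specializes.antisymm ?_ (genericPoint_specializes _)).eq⟩
      exact hq' ▸ (genericPoint_specializes q.1).map r.continuous
    have hrz : IsClosed ({r z} : Set Y) := by
      rw [← Set.image_singleton]
      exact r.isClosedMap _ hz
    have hrne : genericPoint Y ≠ r z := fun e => hY (e ▸ hrz)
    have hne : genericPoint Z ≠ z := fun e => hrne (hdom ▸ congrArg r e)
    have hI : ptIdeal z hz ≠ ⊥ := by
      simpa using comap_ptIdeal_ne_bot (𝟙 Z) rfl hz hne
    obtain ⟨hW, -⟩ := Groth.Agent.S2348.result _ hI b hb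
    let V' : Y.Opens := V ⊓ ⟨({r z} : Set Y)ᶜ, hrz.isOpen_compl⟩
    refine ⟨inferInstance, hW, V', ⟨genericPoint Y,
      ((genericPoint_spec Y).mem_open_set_iff V.2).2 (by simpa using hVne), hrne⟩, ?_⟩
    have hi1 : IsIso (r ∣_ V') := Groth.ArSurfBasics.Principalization.isIso_restrict_mono r (U := V) inf_le_left
    have hi2 : IsIso (b ∣_ (r ⁻¹ᵁ V')) := Groth.BlowUpBasics.isIso_morphismRestrict hb _ (by
      rw [Scheme.IdealSheafData.coe_support_vanishingIdeal]
      exact Set.disjoint_singleton_left.2 fun h => h.2 rfl)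
    rw [morphismRestrict_comp]
    exact IsIso.comp_isIso' hi2 hi1

section Singular

variable [IsIntegral Y] [IsLocallyNoetherian Y]

/-- At a singular point of a curve the blow-up is not an isomorphism. -/
theorem not_isIso_blowUp {z : Y} (hz : IsClosed ({z} : Set Y))
    (hs : ¬ IsRegularLocalRing (Y.presheaf.stalk z)) {W : Scheme.{u}} (b : W ⟶ Y)
    (hb : BlowUp.IsBlowUp b (ptIdeal z hz)) : ¬ IsIso b := fun hi => by
  haveI := hi
  have h := Groth.BlowUpBasics.isEffCartierIdeal_comap_of_flat (inv b) hb.1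
  rw [← Scheme.IdealSheafData.comap_comp, IsIso.inv_hom_id, Scheme.IdealSheafData.comap_id] at h
  obtain ⟨U, hzU, t, -, ht⟩ := h z
  refine hs ?_
  letI := Y.presheaf.algebra_section_stalk ⟨z, hzU⟩
  haveI := U.2.isLocalization_stalk ⟨z, hzU⟩
  have hmax : IsLocalRing.maximalIdeal (Y.presheaf.stalk z) =
      Ideal.span {Y.presheaf.germ U.1 z hzU t} := by
    have hp : (ptIdeal z hz).ideal U = (U.2.primeIdealOf ⟨z, hzU⟩).asIdeal := by
      refine le_antisymm ?_ fun a ha => ?_
      · refine (Groth.DivisorLength.mem_support_iff_le hzU).1 ?_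
        rw [← SetLike.mem_coe, Scheme.IdealSheafData.coe_support_vanishingIdeal]
        rfl
      · rw [Scheme.IdealSheafData.vanishingIdeal_ideal, PrimeSpectrum.mem_vanishingIdeal]
        intro q hq
        have hq' : U.2.fromSpec q = z := hq
        have : U.2.primeIdealOf ⟨z, hzU⟩ = q :=
          U.2.fromSpec.isEmbedding.injective ((U.2.fromSpec_primeIdealOf _).trans hq'.symm)
        exact this ▸ ha
    rw [← IsLocalization.AtPrime.map_eq_maximalIdeal (U.2.primeIdealOf ⟨z, hzU⟩).asIdeal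
      (Y.presheaf.stalk z), ← hp, show (ptIdeal z hz).ideal U = Ideal.span {t} from ht, Ideal.map_span,
      Set.image_singleton]
    rfl
  by_cases h0 : Y.presheaf.germ U.1 z hzU t = 0
  · rw [h0, Ideal.span_singleton_zero] at hmax
    letI := (IsLocalRing.isField_iff_maximalIdeal_eq.2 hmax).toField
    infer_instance
  · haveI : (IsLocalRing.maximalIdeal (Y.presheaf.stalk z)).IsPrincipal := ⟨⟨_, hmax⟩⟩
    haveI : IsPrincipalIdealRing (Y.presheaf.stalk z) :=
      ((tfae_of_isNoetherianRing_of_isLocalRing_of_isDomain (R := Y.presheaf.stalk z)).out 4 0).1 this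
    haveI : IsDiscreteValuationRing (Y.presheaf.stalk z) :=
      { not_a_field' := fun e => h0 (by
          have := hmax.ge (Ideal.mem_span_singleton_self (Y.presheaf.germ U.1 z hzU t))
          rw [e] at this
          exact Ideal.mem_bot.1 this) }
    infer_instance

end Singular

section Terminate

variable {X : Scheme.{u}} [IsIntegral Y] [AlgebraicGeometry.IsNoetherian Y] [IsIntegral X] (π : X ⟶ Y) [IsFinite π]

/-- Sections over `U` of an intermediate scheme, inside those of the resolution. -/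
def imageSub {W : Scheme.{u}} (g : W ⟶ Y) (h : X ⟶ W) (hc : h ≫ g = π) (U : Y.Opens) :
    letI := (π.app U).hom.toAlgebra
    Submodule Γ(Y, U) Γ(X, π ⁻¹ᵁ U) :=
  letI := (π.app U).hom.toAlgebra
  { carrier := Set.range (h.appLE (g ⁻¹ᵁ U) (π ⁻¹ᵁ U) (by subst hc; exact le_rfl))
    add_mem' := by rintro _ _ ⟨a, rfl⟩ ⟨b, rfl⟩; exact ⟨a + b, map_add _ _ _⟩
    zero_mem' := ⟨0, map_zero _⟩
    smul_mem' := by
      subst hc
      rintro a _ ⟨x, rfl⟩
      refine ⟨g.app U a * x, ?_⟩
      rw [map_mul, Algebra.smul_def]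
      congr 1
      change (g.app U ≫ h.appLE _ _ _) a = _
      rw [Scheme.Hom.app_eq_appLE, Scheme.Hom.appLE_comp_appLE, ← Scheme.Hom.app_eq_appLE]
      rfl }

omit [IsIntegral X] in
theorem appLE_injective {W : Scheme.{u}} [IsIntegral W] (h : X ⟶ W) [IsDominant h] [QuasiCompact h]
    (O : W.Opens) (P : X.Opens) (e : P = h ⁻¹ᵁ O) :
    Function.Injective (h.appLE O P e.le) := by
  subst e
  rw [← Scheme.Hom.app_eq_appLE]
  haveI := IsSchemeTheoreticallyDominant.of_isDominant h
  exact h.app_injective O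

/-- Blowing up singular points below a finite resolution terminates. -/
theorem exists_regular (hdim : ∀ y : Y, Order.coheight y ≤ 1)
    (hY : ¬ IsClosed ({genericPoint Y} : Set Y))
    (hreg : ∀ x : X, IsRegularLocalRing (X.presheaf.stalk x)) (hπ : π (genericPoint X) = genericPoint Y) :
    ∃ (W : Scheme.{u}) (g : W ⟶ Y), Resolve.IsPtBlowupSeq g ∧
      ∀ w : W, IsRegularLocalRing (W.presheaf.stalk w) := by
  classical
  haveI : IsLocallyNoetherian X := LocallyOfFiniteType.isLocallyNoetherian π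
  obtain ⟨S, hScov⟩ := CompactSpace.elim_nhds_subcover
    (fun y : Y => ((Groth.Divisors.exists_affine_le y ⊤ trivial).choose.1 : Set Y))
    (fun y => (Groth.Divisors.exists_affine_le y ⊤ trivial).choose.1.2.mem_nhds
      (Groth.Divisors.exists_affine_le y ⊤ trivial).choose_spec.1)
  let U : S → Y.affineOpens := fun y => (Groth.Divisors.exists_affine_le y.1 ⊤ trivial).choose
  have hUcov : ⨆ i, (U i).1 = ⊤ := eq_top_iff.2 fun y _ => by
    obtain ⟨s, hs, hy⟩ := Set.mem_iUnion₂.1 (hScov.ge (Set.mem_univ y))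
    exact Opens.mem_iSup.2 ⟨⟨s, hs⟩, hy⟩
  letI : ∀ i, Algebra Γ(Y, (U i).1) Γ(X, π ⁻¹ᵁ (U i).1) := fun i => (π.app (U i).1).hom.toAlgebra
  haveI : ∀ i, IsNoetherian Γ(Y, (U i).1) Γ(X, π ⁻¹ᵁ (U i).1) := fun i => by
    haveI := IsLocallyNoetherian.component_noetherian (U i)
    haveI : Module.Finite Γ(Y, (U i).1) Γ(X, π ⁻¹ᵁ (U i).1) :=
      RingHom.finite_algebraMap.1 (IsFinite.finite_app (f := π) (U i).1 (U i).2)
    infer_instance
  suffices key : ∀ (M : ∀ i, Submodule Γ(Y, (U i).1) Γ(X, π ⁻¹ᵁ (U i).1)) (W : Scheme.{u}) (g : W ⟶ Y)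
      (h : X ⟶ W) (hc : h ≫ g = π), Resolve.IsPtBlowupSeq g → IsDominant h →
      (∀ i, M i = imageSub π g h hc (U i).1) →
      ∃ (W : Scheme.{u}) (g : W ⟶ Y), Resolve.IsPtBlowupSeq g ∧
        ∀ w : W, IsRegularLocalRing (W.presheaf.stalk w) by
    haveI : IsDominant π := ⟨show ∀ y : Y, y ∈ closure (Set.range π) from fun y =>
      closure_mono (Set.singleton_subset_iff.2 (show genericPoint Y ∈ Set.range π from ⟨_, hπ⟩)) (specializes_iff_mem_closure.1 (genericPoint_specializes y))⟩
    exact key _ Y (𝟙 Y) π (Category.comp_id π) (Resolve.IsPtBlowupSeq.iso (Iso.refl Y)) inferInstance fun i => rfl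
  haveI : WellFoundedGT (∀ i, Submodule Γ(Y, (U i).1) Γ(X, π ⁻¹ᵁ (U i).1)) :=
    ⟨InvImage.wf (fun (M : ∀ i, Submodule Γ(Y, (U i).1) Γ(X, π ⁻¹ᵁ (U i).1)) i => OrderDual.toDual (M i))
      (Pi.wellFoundedLT (α := fun i => (Submodule Γ(Y, (U i).1) Γ(X, π ⁻¹ᵁ (U i).1))ᵒᵈ)).wf⟩
  intro M
  induction M using WellFoundedGT.induction with
  | ind M ih =>
  intro W g h hc hg hh hM
  haveI := hh
  obtain ⟨hgp, hWint, -⟩ := seq_props hg hY
  haveI := hgp; haveI := hWint
  haveI : IsFinite (h ≫ g) := hc.symm ▸ ‹IsFinite π›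
  haveI : IsFinite g := isFinite_of_dominated g h
  haveI : IsLocallyNoetherian W := LocallyOfFiniteType.isLocallyNoetherian g
  by_contra hcon
  obtain ⟨z, hzs⟩ : ∃ z : W, ¬ IsRegularLocalRing (W.presheaf.stalk z) := by
    by_contra! hall
    exact hcon ⟨W, g, hg, hall⟩
  have hzη : genericPoint W ≠ z := fun e => hzs <| by
    subst e
    exact inferInstanceAs (IsRegularLocalRing W.functionField)
  have hz : IsClosed ({z} : Set W) := by
    rw [← closure_subset_iff_isClosed]
    intro w hw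
    by_contra hne
    have hlt : w < z := lt_iff_le_not_ge.2 ⟨Scheme.le_iff_specializes.2 (specializes_iff_mem_closure.2 hw),
      fun h' => hne ((Scheme.le_iff_specializes.1 h').antisymm (specializes_iff_mem_closure.2 hw)).eq⟩
    have hlt' : z < genericPoint W := lt_iff_le_not_ge.2 ⟨Scheme.le_iff_specializes.2 (genericPoint_specializes z),
      fun h' => hzη ((genericPoint_specializes z).antisymm (Scheme.le_iff_specializes.1 h')).eq⟩
    have h1 := (Order.coheight_add_one_le hlt).trans ((coheight_le_of_isFinite g w).trans (hdim _))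
    have h2 := Order.coheight_add_one_le hlt'
    have h3 : (1 : ℕ∞) ≤ Order.coheight z := le_trans le_add_self h2
    have h4 : (1 : ℕ∞) + 1 ≤ 1 := (add_le_add h3 le_rfl).trans h1
    exact absurd h4 (by decide)
  obtain ⟨W', b, hb⟩ := Groth.BlowUpBasics.exists_isBlowUp W (ptIdeal z hz)
  have hgen : h (genericPoint X) = genericPoint W := by
    refine IsGenericPoint.eq ?_ (genericPoint_spec W)
    rw [IsGenericPoint, ← Set.image_singleton, ← closure_image_closure h.continuous,
      genericPoint_spec X, Set.image_univ, h.denseRange.closure_range]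
  obtain ⟨h', hh', -⟩ := hb.2 X h (isEffCartier_of_ne_bot hreg
    (fun x => (coheight_le_of_isFinite π x).trans (hdim _)) _ (comap_ptIdeal_ne_bot h hgen hz hzη))
  have hg' : Resolve.IsPtBlowupSeq (b ≫ g) := Resolve.IsPtBlowupSeq.step b g z hz hb hg
  have hc' : h' ≫ b ≫ g = π := by rw [← Category.assoc, hh', hc]
  obtain ⟨hgp', hW'int, V, hV, hViso⟩ := seq_props hg' hY
  haveI := hgp'; haveI := hW'int; haveI := hViso
  haveI : IsDominant h' := ⟨fun w => by
    have hη : genericPoint W' ∈ Set.range h' := ⟨genericPoint X, by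
      have hV' : genericPoint Y ∈ V := ((genericPoint_spec Y).mem_open_set_iff V.2).2 (by simpa using hV)
      have h1 : (b ≫ g) (h' (genericPoint X)) = genericPoint Y := by
        rw [← Scheme.Hom.comp_apply, hc', hπ]
      obtain ⟨q, hq⟩ := ((b ≫ g) ∣_ V).homeomorph.surjective ⟨_, hV'⟩
      have hq' : (b ≫ g) q.1 = genericPoint Y :=
        (morphismRestrict_base_coe (b ≫ g) V q).symm.trans (congrArg Subtype.val hq)
      have h5 := (genericPoint_specializes q.1).map (b ≫ g).continuous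
      rw [hq'] at h5
      have h2 : (b ≫ g) (genericPoint W') = genericPoint Y :=
        (Specializes.antisymm h5 (genericPoint_specializes _)).eq
      have h3 : h' (genericPoint X) ∈ (b ≫ g) ⁻¹ᵁ V := show (b ≫ g) _ ∈ V from h1.symm ▸ hV'
      have h4 : genericPoint W' ∈ (b ≫ g) ⁻¹ᵁ V := show (b ≫ g) _ ∈ V from h2.symm ▸ hV'
      exact congrArg Subtype.val (((b ≫ g) ∣_ V).homeomorph.injective
        (a₁ := ⟨_, h3⟩) (a₂ := ⟨_, h4⟩) (Subtype.ext (by
          exact (morphismRestrict_base_coe (b ≫ g) V ⟨_, h3⟩).trans (h1.trans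
            (h2.symm.trans (morphismRestrict_base_coe (b ≫ g) V ⟨_, h4⟩).symm)))))⟩
    exact closure_mono (Set.singleton_subset_iff.2 hη)
      (specializes_iff_mem_closure.1 (genericPoint_specializes w))⟩
  haveI : IsFinite (h' ≫ b ≫ g) := hc'.symm ▸ ‹IsFinite π›
  haveI : IsFinite (b ≫ g) := isFinite_of_dominated (b ≫ g) h'
  haveI : IsAffineHom b := IsAffineHom.of_comp b g
  haveI : QuasiCompact (h' ≫ b ≫ g) := inferInstance
  haveI : QuasiCompact h' := QuasiCompact.of_comp h' (b ≫ g)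
  haveI : QuasiCompact h := by
    haveI : QuasiCompact (h ≫ g) := inferInstance
    exact QuasiCompact.of_comp h g
  have hle : ∀ i, imageSub π g h hc (U i).1 ≤ imageSub π (b ≫ g) h' hc' (U i).1 := by
    rintro i _ ⟨x, rfl⟩
    refine ⟨b.app (g ⁻¹ᵁ (U i).1) x, ?_⟩
    subst hh'
    rw [Scheme.Hom.app_eq_appLE]
    exact congr($(Scheme.Hom.appLE_comp_appLE h' b (g ⁻¹ᵁ (U i).1) (b ⁻¹ᵁ (g ⁻¹ᵁ (U i).1))
      (π ⁻¹ᵁ (U i).1) le_rfl (by rw [← hc', Scheme.Hom.comp_preimage]; exact le_rfl)).hom x)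
  refine hcon (ih (fun i => imageSub π (b ≫ g) h' hc' (U i).1) (lt_of_le_of_ne
    (fun i => (hM i).le.trans (hle i)) fun e => not_isIso_blowUp hz hzs b hb ?_) W' (b ≫ g) h' hc' hg'
    inferInstance fun i => rfl)
  refine (IsZariskiLocalAtTarget.iff_of_iSup_eq_top (P := MorphismProperty.isomorphisms Scheme.{u})
    (fun i => g ⁻¹ᵁ (U i).1) (by rw [← Scheme.Hom.preimage_iSup, hUcov, Scheme.Hom.preimage_top])).2
    fun i => ?_
  change IsIso (b ∣_ (g ⁻¹ᵁ (U i).1))
  have hbij : Function.Bijective (b.app (g ⁻¹ᵁ (U i).1)) := by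
    have hπU : π ⁻¹ᵁ (U i).1 = h ⁻¹ᵁ (g ⁻¹ᵁ (U i).1) := by rw [← Scheme.Hom.comp_preimage, hc]
    have hπU' : π ⁻¹ᵁ (U i).1 = h' ⁻¹ᵁ ((b ≫ g) ⁻¹ᵁ (U i).1) := by rw [← Scheme.Hom.comp_preimage, hc']
    have hcomp : ∀ x, h'.appLE ((b ≫ g) ⁻¹ᵁ (U i).1) (π ⁻¹ᵁ (U i).1) hπU'.le (b.app (g ⁻¹ᵁ (U i).1) x) =
        h.appLE (g ⁻¹ᵁ (U i).1) (π ⁻¹ᵁ (U i).1) hπU.le x := fun x => by
      subst hh'
      rw [Scheme.Hom.app_eq_appLE]
      exact congr($(Scheme.Hom.appLE_comp_appLE h' b (g ⁻¹ᵁ (U i).1) (b ⁻¹ᵁ (g ⁻¹ᵁ (U i).1))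
        (π ⁻¹ᵁ (U i).1) le_rfl hπU'.le).hom x)
    refine ⟨fun x y hxy => appLE_injective h _ _ hπU (by rw [← hcomp, ← hcomp, hxy]), fun y => ?_⟩
    have hy : h'.appLE ((b ≫ g) ⁻¹ᵁ (U i).1) (π ⁻¹ᵁ (U i).1) hπU'.le y ∈ imageSub π g h hc (U i).1 := by
      rw [← hM i, e]
      exact ⟨y, rfl⟩
    obtain ⟨x, hx⟩ := hy
    exact ⟨x, appLE_injective h' _ _ hπU' ((hcomp x).trans hx)⟩
  have hA : IsAffineOpen (g ⁻¹ᵁ (U i).1) := (U i).2.preimage g
  haveI : IsAffine (g ⁻¹ᵁ (U i).1 : Scheme.{u}) := hA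
  haveI : IsAffine (b ⁻¹ᵁ (g ⁻¹ᵁ (U i).1) : Scheme.{u}) := hA.preimage b
  haveI : IsIso (b.app (g ⁻¹ᵁ (U i).1)) := (ConcreteCategory.isIso_iff_bijective _).2 hbij
  haveI : IsIso (b.app ((g ⁻¹ᵁ (U i).1).ι ''ᵁ ⊤)) := by
    rw [Scheme.Opens.ι_image_top]
    infer_instance
  haveI : IsIso ((b ∣_ (g ⁻¹ᵁ (U i).1)).appTop) := by
    rw [morphismRestrict_appTop]
    refine IsIso.comp_isIso' ‹_› ?_
    have hmap : ∀ {A B : W'.Opens} (p : A = B), IsIso (W'.presheaf.map (eqToHom p).op) := fun p => by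
      subst p
      rw [eqToHom_refl, op_id, W'.presheaf.map_id]
      exact (Iso.refl _).isIso_hom
    exact hmap _
  exact (HasAffineProperty.iff_of_isAffine (P := MorphismProperty.isomorphisms Scheme.{u})).2
    ⟨inferInstance, inferInstance⟩

end Terminate

end Groth.ResolveSurf.CurveBU
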