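import Groth.Agent.ModelsGraphs.InterPair
import Groth.Agent.EulerDeg.CartierDegree
import Groth.Agent.PicAux.Powers
import Groth.Agent.PicAux.PushPull
import Groth.Agent.EulerDeg.LineBundle

/-!
# Degrees on proper curves lying over the closed point of a local scheme
-/

set_option autoImplicit false
set_option backward.isDefEq.respectTransparency.types false
set_option linter.style.haveILetI false

universe u

open CategoryTheory CategoryTheory.Limits AlgebraicGeometry TopologicalSpace

namespace Groth.ResolveSurf.Over0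

variable {A : Type u} [CommRing A] [IsLocalRing A] {Y : Scheme.{u}}

local notation "κ" => IsLocalRing.ResidueField A

/-- An integral curve over the closed point. -/
structure Curve (π : Y ⟶ Spec (CommRingCat.of A)) where
  E : Scheme.{u}
  ι : E ⟶ Y
  [isClosedImmersion : IsClosedImmersion ι]
  [isIntegral : IsIntegral E]
  s : E ⟶ Spec (CommRingCat.of κ)
  w : ι ≫ π = s ≫ Spec.map (CommRingCat.ofHom (IsLocalRing.residue A))
  dim_eq : topologicalKrullDim E = 1

attribute [instance] Curve.isClosedImmersion Curve.isIntegral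

variable {π : Y ⟶ Spec (CommRingCat.of A)}

/-- The degree over the residue field of the restriction to a curve. -/
noncomputable def δ (C : Curve π) (M : Y.Modules) : ℤ :=
  @Curv2.deg κ _ C.E ⟨C.s⟩ ((Scheme.Modules.pullback C.ι).obj M) 1

/-- The generic point of a curve in the ambient scheme. -/
noncomputable def Curve.η (C : Curve π) : Y := C.ι (genericPoint C.E)

lemma Curve.isGenericPoint_η (C : Curve π) : IsGenericPoint C.η (Set.range C.ι.base) := by
  have h := (genericPoint_spec C.E).image C.ι.continuous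
  rwa [Set.image_univ, C.ι.isClosedEmbedding.isClosed_range.closure_eq] at h

lemma Curve.support_ker (C : Curve π) : (C.ι.ker.support : Set Y) = Set.range C.ι.base := by
  rw [Scheme.Hom.support_ker, C.ι.isClosedEmbedding.isClosed_range.closure_eq]

lemma Curve.mem_support_ker_iff (C : Curve π) (y : Y) : y ∈ C.ι.ker.support ↔ C.η ⤳ y := by
  rw [C.isGenericPoint_η.specializes_iff_mem, ← SetLike.mem_coe, C.support_ker]

instance Curve.isIntegral_subscheme_ker (C : Curve π) : IsIntegral C.ι.ker.subscheme := by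
  haveI : IsIso C.ι.toImage := inferInstance
  haveI : Nonempty C.ι.ker.subscheme := ⟨C.ι.toImage (genericPoint C.E)⟩
  exact isIntegral_of_isOpenImmersion (inv C.ι.toImage)

lemma Curve.eta_ker (C : Curve π) : Groth.DivisorLength.eta C.ι.ker = C.η := by
  refine (Specializes.antisymm ?_ ?_).eq
  · exact (Groth.DivisorLength.mem_support_iff_eta _ _).1
      ((C.mem_support_ker_iff _).2 specializes_rfl)
  · exact (C.mem_support_ker_iff _).1
      ((Groth.DivisorLength.mem_support_iff_eta _ _).2 specializes_rfl)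

lemma Curve.π_apply (C : Curve π) (z : C.E) : π (C.ι z) = IsLocalRing.closedPoint A := by
  rw [← Scheme.Hom.comp_apply, C.w, Scheme.Hom.comp_apply,
    Subsingleton.elim (C.s z) (IsLocalRing.closedPoint κ)]
  exact IsLocalRing.comap_closedPoint (IsLocalRing.residue A)

variable [IsProper π] (C : Curve π)

lemma isProper_s : IsProper C.s := by
  haveI : IsProper (C.s ≫ Spec.map (CommRingCat.ofHom (IsLocalRing.residue A))) := by
    rw [← C.w]
    infer_instance
  haveI : IsSeparated (Spec.map (CommRingCat.ofHom (IsLocalRing.residue A))) := inferInstance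
  exact IsProper.of_comp C.s (Spec.map (CommRingCat.ofHom (IsLocalRing.residue A)))

omit [IsProper π] in
lemma δ_congr {M N : Y.Modules} (e : M ≅ N) : δ C M = δ C N :=
  letI : C.E.Over (Spec (CommRingCat.of κ)) := ⟨C.s⟩
  Groth.EulerDeg.deg_congr κ ((Scheme.Modules.pullback C.ι).mapIso e) 1

omit [IsProper π] in
lemma δ_structure : δ C (Coh.structureModule Y) = 0 :=
  letI : C.E.Over (Spec (CommRingCat.of κ)) := ⟨C.s⟩
  (Groth.EulerDeg.deg_congr κ (Groth.PicAux.pullback_structure_iso C.ι).some 1).trans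
    (Groth.EulerDeg.deg_structure (k := κ) (X := C.E))

lemma δ_tensor {M N : Y.Modules} (hM : PicF.IsInvertible M) (hN : PicF.IsInvertible N) :
    δ C (CohB1.tensorMod M N) = δ C M + δ C N := by
  letI : C.E.Over (Spec (CommRingCat.of κ)) := ⟨C.s⟩
  haveI : IsProper (C.E ↘ Spec (CommRingCat.of κ)) := isProper_s C
  refine (Groth.EulerDeg.deg_congr κ (Groth.PicAux.pullback_tensorMod C.ι hM hN).some 1).trans ?_
  exact Groth.EulerDeg.deg_tensor_invertible κ (le_of_eq C.dim_eq)
    (Groth.PicAux.isInvertible_pullback _ hM) (Groth.PicAux.isInvertible_pullback _ hN)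

lemma δ_inverse {L M : Y.Modules} (h : ClSub.IsInverseOf L M) : δ C L = - δ C M := by
  have hi := Groth.PicAux.isInvertible_left_of_isInverseOf h
  obtain ⟨e⟩ := h
  have h1 := δ_tensor C hi.1 hi.2
  rw [δ_congr C e, δ_structure] at h1
  linarith

lemma δ_idealMod_mul {I J : Y.IdealSheafData} (hI : BlowUp.IsEffCartierIdeal I)
    (hJ : BlowUp.IsEffCartierIdeal J) :
    δ C (ClSub.idealMod (I * J)) = δ C (ClSub.idealMod I) + δ C (ClSub.idealMod J) := by
  rw [← δ_congr C (Groth.PicAux.idealMod_mul hI hJ).some]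
  exact δ_tensor C (Groth.PicAux.isInvertible_idealMod hI) (Groth.PicAux.isInvertible_idealMod hJ)

lemma δ_idealMod_one : δ C (ClSub.idealMod (1 : Y.IdealSheafData)) = 0 := by
  have h1 : BlowUp.IsEffCartierIdeal (1 : Y.IdealSheafData) := Groth.Divisors.isEffCartierIdeal_top
  have h2 := δ_idealMod_mul C h1 h1
  rw [mul_one] at h2
  linarith

lemma δ_idealMod_pow {I : Y.IdealSheafData} (hI : BlowUp.IsEffCartierIdeal I) (n : ℕ) :
    δ C (ClSub.idealMod (I ^ n)) = n * δ C (ClSub.idealMod I) := by
  induction n with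
  | zero => rw [pow_zero, δ_idealMod_one]; simp
  | succ n ih =>
    rw [pow_succ, δ_idealMod_mul C (Groth.Divisors.isEffCartierIdeal_pow hI n) hI, ih]
    push_cast
    ring

lemma δ_idealMod_prod {ι : Type} [DecidableEq ι] (D : ι → Y.IdealSheafData)
    (hD : ∀ i, BlowUp.IsEffCartierIdeal (D i)) (m : ι → ℕ) (S : Finset ι) :
    BlowUp.IsEffCartierIdeal (∏ i ∈ S, D i ^ m i) ∧
      δ C (ClSub.idealMod (∏ i ∈ S, D i ^ m i)) =
        ∑ i ∈ S, (m i : ℤ) * δ C (ClSub.idealMod (D i)) := by
  induction S using Finset.induction_on with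
  | empty =>
    exact ⟨Groth.Divisors.isEffCartierIdeal_top, by
      rw [Finset.prod_empty, Finset.sum_empty, δ_idealMod_one]⟩
  | @insert j T hj ih =>
    rw [Finset.prod_insert hj, Finset.sum_insert hj]
    have hp := Groth.Divisors.isEffCartierIdeal_pow (hD j) (m j)
    refine ⟨Groth.Divisors.isEffCartierIdeal_mul hp ih.1, ?_⟩
    rw [δ_idealMod_mul C hp ih.1, δ_idealMod_pow C (hD j), ih.2]

omit [IsProper π] in
lemma isEffCartier_comap {I : Y.IdealSheafData} (hI : BlowUp.IsEffCartierIdeal I)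
    (h : C.η ∉ I.support) : BlowUp.IsEffCartierIdeal (I.comap C.ι) := by
  refine Groth.Divisors.isEffCartierIdeal_comap_reduced C.ι hI fun ξ hξ => ?_
  rw [← hξ _ (genericPoint_specializes ξ)]
  exact h

/-- The degree of an effective Cartier divisor not containing the curve. -/
theorem δ_idealMod_eq {I : Y.IdealSheafData} (hI : BlowUp.IsEffCartierIdeal I)
    (h : C.η ∉ I.support) :
    δ C (ClSub.idealMod I) =
      -((letI : C.E.Over (Spec (CommRingCat.of κ)) := ⟨C.s⟩;
        Module.finrank κ (Coh.HH C.E (ClSub.quotMod (I.comap C.ι)) 0)) : ℤ) := by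
  letI : C.E.Over (Spec (CommRingCat.of κ)) := ⟨C.s⟩
  haveI : IsProper (C.E ↘ Spec (CommRingCat.of κ)) := isProper_s C
  have hD := isEffCartier_comap C hI h
  obtain ⟨L, hL, hinv⟩ := Groth.PicAux.exists_isInverseOf (Groth.PicAux.isInvertible_idealMod hI)
  have hinv' := Groth.PicAux.isInverseOf_symm hinv
  obtain ⟨e⟩ := Groth.PicAux.isInverseOf_pullback C.ι hinv'
  obtain ⟨p⟩ := Groth.PicAux.pullback_idealMod C.ι hI hD
  have h2 : ClSub.IsInverseOf ((Scheme.Modules.pullback C.ι).obj L) (ClSub.idealMod (I.comap C.ι)) :=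
    ⟨PicGrp.tensorModIso (Iso.refl _) p.symm ≪≫ e⟩
  have h3 := Groth.EulerDeg.deg_inverse_idealMod κ (le_of_eq C.dim_eq) hD
    (Groth.PicAux.isInvertible_pullback C.ι hL) h2
  have h4 := δ_inverse C hinv'
  have h5 : δ C L = (Module.finrank κ (Coh.HH C.E (ClSub.quotMod (I.comap C.ι)) 0) : ℤ) := h3
  omega

/-- An effective Cartier divisor not containing the curve has nonpositive ideal degree, negative
as soon as it meets the curve. -/
theorem δ_idealMod_nonpos {I : Y.IdealSheafData} (hI : BlowUp.IsEffCartierIdeal I)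
    (h : C.η ∉ I.support) :
    δ C (ClSub.idealMod I) ≤ 0 ∧
      ∀ z : C.E, C.ι z ∈ I.support → δ C (ClSub.idealMod I) < 0 := by
  letI : C.E.Over (Spec (CommRingCat.of κ)) := ⟨C.s⟩
  haveI : IsProper (C.E ↘ Spec (CommRingCat.of κ)) := isProper_s C
  haveI := Groth.EulerDeg.isNoetherian_of_proper κ C.E
  have hfin := Groth.EulerDeg.finite_HH κ C.E (Groth.EulerDeg.isCoh_quotMod (I.comap C.ι)) 0
  rw [δ_idealMod_eq C hI h]
  refine ⟨by simp, fun z hz => neg_lt_zero.2 ?_⟩
  have hzD : z ∈ (I.comap C.ι).support := by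
    rw [Scheme.IdealSheafData.support_comap]
    exact hz
  obtain ⟨w, -⟩ : z ∈ Set.range (I.comap C.ι).subschemeι := by
    rw [Scheme.IdealSheafData.range_subschemeι]
    exact hzD
  rw [Nat.cast_pos, Module.finrank_pos_iff]
  let pY := C.E ↘ Spec (CommRingCat.of κ)
  let eS := Groth.CohFin.equivSections pY (ClSub.quotMod (I.comap C.ι))
  have hne : Nontrivial Γ((I.comap C.ι).subscheme, ⊤) := by
    refine ⟨1, 0, fun h0 => ?_⟩
    have h1 := congrArg ((I.comap C.ι).subscheme.presheaf.germ ⊤ w trivial) h0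
    rw [map_one, map_zero] at h1
    exact one_ne_zero h1
  obtain ⟨a, b, hab⟩ := hne
  exact ⟨eS.symm (a : Γ(ClSub.quotMod (I.comap C.ι), ⊤)),
    eS.symm (b : Γ(ClSub.quotMod (I.comap C.ι), ⊤)), fun hh => hab (eS.symm.injective hh)⟩

omit [IsProper π] in
/-- The scheme-theoretic intersection of two curves has symmetric length. -/
theorem finrank_inter_comm (C' : Curve π) :
    (letI : C.E.Over (Spec (CommRingCat.of κ)) := ⟨C.s⟩;
      Module.finrank κ (Coh.HH C.E (ClSub.quotMod (C'.ι.ker.comap C.ι)) 0)) =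
      (letI : C'.E.Over (Spec (CommRingCat.of κ)) := ⟨C'.s⟩;
        Module.finrank κ (Coh.HH C'.E (ClSub.quotMod (C.ι.ker.comap C'.ι)) 0)) := by
  have key : ∀ P Q : Curve π,
      (letI : P.E.Over (Spec (CommRingCat.of κ)) := ⟨P.s⟩;
      Module.finrank κ (Coh.HH P.E (ClSub.quotMod (Q.ι.ker.comap P.ι)) 0)) =
        Groth.ModelsGraphs.InterPair.dimGl (pullback.fst P.ι Q.ι ≫ P.s) := by
    intro P Q
    letI : P.E.Over (Spec (CommRingCat.of κ)) := ⟨P.s⟩
    rw [Groth.ModelsGraphs.InterPair.finrank_quotMod]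
    refine Groth.ModelsGraphs.InterPair.dimGl_congr
      ((Q.ι.ker.comapIso P.ι) ≪≫ asIso (pullback.map P.ι Q.ι.ker.subschemeι P.ι Q.ι (𝟙 _)
        (inv Q.ι.toImage) (𝟙 _) (by simp)
        (by rw [Category.comp_id, IsIso.eq_inv_comp]; exact Q.ι.toImage_imageι))) _ _ ?_
    rw [Iso.trans_hom, asIso_hom, ← Category.assoc, Category.assoc (Q.ι.ker.comapIso P.ι).hom,
      pullback.lift_fst, Category.comp_id]
    exact congrArg (· ≫ P.s) (Scheme.IdealSheafData.comapIso_hom_fst _ _)
  rw [key C C', key C' C]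
  refine Groth.ModelsGraphs.InterPair.dimGl_congr (pullbackSymmetry C.ι C'.ι) _ _ ?_
  rw [← Category.assoc, pullbackSymmetry_hom_comp_fst]
  haveI : Mono (Spec.map (CommRingCat.ofHom (IsLocalRing.residue A))) := by
    haveI : IsClosedImmersion (Spec.map (CommRingCat.ofHom (IsLocalRing.residue A))) :=
      IsClosedImmersion.spec_of_surjective _ IsLocalRing.residue_surjective
    infer_instance
  rw [← cancel_mono (Spec.map (CommRingCat.ofHom (IsLocalRing.residue A))), Category.assoc,
    Category.assoc, ← C.w, ← C'.w, pullback.condition_assoc]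

end Groth.ResolveSurf.Over0
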