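import Groth.Agent.ResolveSurf.CurveBlowUp
import Groth.Agent.BlowUpBasics.StrictTransform
import Groth.Agent.BlowUpBasics.CartierDiv
import Groth.Agent.AlgSp3.RedInduced
import Groth.Agent.Divisors.IdealComap

/-!
# Strict transforms of curves under point blow-ups

Blowing up closed points until finitely many embedded curves are regular, then until they are
pairwise disjoint.
-/

set_option autoImplicit false
set_option backward.isDefEq.respectTransparency.types false
set_option linter.style.haveILetI false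

universe u

open CategoryTheory CategoryTheory.Limits AlgebraicGeometry TopologicalSpace

namespace Groth.ResolveSurf.CurvesTransform

open Groth.ResolveSurf.CurveBU

theorem fg_ideal {W : Scheme.{u}} [IsLocallyNoetherian W] (I : W.IdealSheafData) (U : W.affineOpens) :
    (I.ideal U).FG := by
  haveI := IsLocallyNoetherian.component_noetherian U
  exact IsNoetherian.noetherian _

theorem mul_le_mul_right' {W : Scheme.{u}} {I J : W.IdealSheafData} (h : I ≤ J) (K : W.IdealSheafData) :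
    I * K ≤ J * K := fun U => by
  simp only [Scheme.IdealSheafData.ideal_mul, Pi.mul_apply]
  exact Ideal.mul_mono_left (h U)

/-- Point blow-up sequences over a locally Noetherian scheme are proper. -/
theorem seq_isProper {W X : Scheme.{u}} {g : W ⟶ X} (hg : Resolve.IsPtBlowupSeq g) :
    ∀ [IsLocallyNoetherian X], IsProper g := by
  induction hg with
  | @iso W X e => intro _; infer_instance
  | @step W Z X b r z hz hb hr ih =>
    intro _
    haveI : IsProper r := ih
    haveI : IsLocallyNoetherian Z := LocallyOfFiniteType.isLocallyNoetherian r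
    haveI : IsProper b := Groth.HTopHyper.isProper_of_isBlowUp hb (fg_ideal _)
    infer_instance

/-- Blowing up a Cartier divisor does nothing. -/
theorem isIso_of_isEffCartier {X X' : Scheme.{u}} {b : X' ⟶ X} {I : X.IdealSheafData}
    (hb : BlowUp.IsBlowUp b I) (hI : BlowUp.IsEffCartierIdeal I) : IsIso b := by
  obtain ⟨h, hh, -⟩ := hb.2 X (𝟙 X) (by rwa [Scheme.IdealSheafData.comap_id])
  exact ⟨h, Groth.BlowUpBasics.hom_ext_isBlowUp hb (by simp [hh])
    (by simpa [hh] using hb.1), hh⟩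

theorem comap_ptIdeal_of_notMem {C W : Scheme.{u}} (i : C ⟶ W) {p : W} (hp : IsClosed ({p} : Set W))
    (h : p ∉ Set.range i) : (ptIdeal p hp).comap i = ⊤ :=
  Groth.BlowUpBasics.comap_eq_top_of_range_subset _ _ (by
    rintro _ ⟨c, rfl⟩ hc
    rw [SetLike.mem_coe, ← SetLike.mem_coe, Scheme.IdealSheafData.coe_support_vanishingIdeal] at hc
    exact h ⟨c, hc⟩)

/-- The reduced point pulls back to the reduced point along a closed immersion through it. -/
theorem comap_ptIdeal {C W : Scheme.{u}} (i : C ⟶ W) [IsClosedImmersion i] {z : C}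
    (hz : IsClosed ({z} : Set C)) (hp : IsClosed ({i z} : Set W)) :
    (ptIdeal (i z) hp).comap i = ptIdeal z hz := by
  haveI := Groth.PropsBasic2.isReduced_vanishingIdeal_subscheme (⟨{i z}, hp⟩ : Closeds W)
  haveI : Surjective (pullback.snd i (ptIdeal (i z) hp).subschemeι) := ⟨fun w => by
    have h : w ∈ Set.range (pullback.snd i (ptIdeal (i z) hp).subschemeι) := by
      rw [Scheme.Pullback.range_snd]
      have hw : (ptIdeal (i z) hp).subschemeι w ∈ (({i z} : Set W)) := by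
        have := Set.mem_range_self (f := (ptIdeal (i z) hp).subschemeι) w
        rwa [Groth.PropsBasic2.range_vanishingIdeal_subschemeι] at this
      exact ⟨z, hw.symm⟩
    exact h⟩
  haveI : IsIso (pullback.snd i (ptIdeal (i z) hp).subschemeι) :=
    isIso_of_isClosedImmersion_of_surjective _
  haveI : IsReduced (pullback i (ptIdeal (i z) hp).subschemeι) :=
    isReduced_of_isOpenImmersion (pullback.snd i (ptIdeal (i z) hp).subschemeι)
  refine (Groth.AlgSp3.ker_eq_vanishingIdeal_of_isReduced _).trans (congrArg _ (Closeds.ext ?_))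
  show closure _ = ({z} : Set C)
  rw [Scheme.Pullback.range_fst, Groth.PropsBasic2.range_vanishingIdeal_subschemeι]
  have h : i ⁻¹' ({i z} : Set W) = {z} := by
    ext w
    exact ⟨fun h => i.isClosedEmbedding.injective h, fun h => congrArg i h⟩
  rw [show (i ⁻¹' ((⟨{i z}, hp⟩ : Closeds W) : Set W)) = {z} from h, hz.closure_eq]

/-- The transform of a curve under the blow-up of a point. -/
theorem exists_transform {W W' : Scheme.{u}} [IsLocallyNoetherian W] {p : W} {hp : IsClosed ({p} : Set W)}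
    {b : W' ⟶ W} (hb : BlowUp.IsBlowUp b (ptIdeal p hp)) {C : Scheme.{u}} [IsIntegral C]
    (i : C ⟶ W) [IsClosedImmersion i] (hη : i (genericPoint C) ≠ p) :
    ∃ (C' : Scheme.{u}) (i' : C' ⟶ W') (β : C' ⟶ C) (_ : IsIntegral C'), IsClosedImmersion i' ∧
      IsProper β ∧ β ≫ i = i' ≫ b ∧ BlowUp.IsBlowUp β ((ptIdeal p hp).comap i) ∧
      β (genericPoint C') = genericPoint C := by
  obtain ⟨C', i', β, hi', hcomm, hβ⟩ := Groth.BlowUpBasics.exists_strictTransform hb i
  haveI : IsLocallyNoetherian C := LocallyOfFiniteType.isLocallyNoetherian i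
  have hI : (ptIdeal p hp).comap i ≠ ⊥ := fun h0 => by
    have h1 := congrArg (fun J : C.IdealSheafData => (J.support : Set C)) h0
    simp only [Scheme.IdealSheafData.support_comap, Scheme.IdealSheafData.support_bot,
      Closeds.coe_preimage, Scheme.IdealSheafData.coe_support_vanishingIdeal] at h1
    have h2 : genericPoint C ∈ i ⁻¹' ((⟨{p}, hp⟩ : Closeds W) : Set W) := by rw [h1]; trivial
    exact hη h2
  obtain ⟨hC', hgen, -⟩ := Groth.Agent.S2348.result _ hI β hβ
  exact ⟨C', i', β, hC', hi', Groth.HTopHyper.isProper_of_isBlowUp hβ (fg_ideal _), hcomm, hβ, hgen⟩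

/-- A lift to a blow-up of a dominant morphism is dominant. -/
theorem isDominant_lift {C C' R : Scheme.{u}} [IsIntegral C] [IsIntegral C'] [IrreducibleSpace R]
    {β : C' ⟶ C} {J : C.IdealSheafData} (hβ : BlowUp.IsBlowUp β J) (hJ : genericPoint C ∉ J.support)
    (hgen : β (genericPoint C') = genericPoint C) (h' : R ⟶ C')
    (hh : β (h' (genericPoint R)) = genericPoint C) : IsDominant h' := by
  haveI := Groth.BlowUpBasics.isIso_morphismRestrict hβ J.support.compl disjoint_compl_right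
  have h1 : h' (genericPoint R) ∈ β ⁻¹ᵁ J.support.compl := show β _ ∉ J.support from hh.symm ▸ hJ
  have h2 : genericPoint C' ∈ β ⁻¹ᵁ J.support.compl := show β _ ∉ J.support from hgen.symm ▸ hJ
  have h3 : h' (genericPoint R) = genericPoint C' :=
    congrArg Subtype.val ((β ∣_ J.support.compl).homeomorph.injective (a₁ := ⟨_, h1⟩) (a₂ := ⟨_, h2⟩)
      (Subtype.ext ((morphismRestrict_base_coe β _ ⟨_, h1⟩).trans (hh.trans
        (hgen.symm.trans (morphismRestrict_base_coe β _ ⟨_, h2⟩).symm)))))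
  exact ⟨show ∀ w : C', w ∈ closure (Set.range h') from fun w =>
    closure_mono (Set.singleton_subset_iff.2 (show genericPoint C' ∈ Set.range h' from ⟨_, h3⟩))
      (specializes_iff_mem_closure.1 (genericPoint_specializes w))⟩

/-- A dominant morphism of integral schemes preserves generic points. -/
theorem apply_genericPoint {R C : Scheme.{u}} [IsIntegral C] [IrreducibleSpace R] (h : R ⟶ C)
    [IsDominant h] : h (genericPoint R) = genericPoint C := by
  refine IsGenericPoint.eq ?_ (genericPoint_spec C)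
  rw [IsGenericPoint, ← Set.image_singleton, ← closure_image_closure h.continuous,
    genericPoint_spec R, Set.image_univ, h.denseRange.closure_range]

/-- An affine morphism bijective on sections over an affine open is an isomorphism over it. -/
theorem isIso_restrict_of_bijective {C C' : Scheme.{u}} (β : C' ⟶ C) [IsAffineHom β] {A : C.Opens}
    (hA : IsAffineOpen A) (hbij : Function.Bijective (β.app A)) : IsIso (β ∣_ A) := by
  haveI : IsAffine (A : Scheme.{u}) := hA
  haveI : IsAffine (β ⁻¹ᵁ A : Scheme.{u}) := hA.preimage β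
  haveI : IsIso (β.app A) := (ConcreteCategory.isIso_iff_bijective _).2 hbij
  haveI : IsIso (β.app (A.ι ''ᵁ ⊤)) := by
    rw [Scheme.Opens.ι_image_top]
    infer_instance
  haveI : IsIso ((β ∣_ A).appTop) := by
    rw [morphismRestrict_appTop]
    refine IsIso.comp_isIso' ‹_› ?_
    have hmap : ∀ {P Q : C'.Opens} (p : P = Q), IsIso (C'.presheaf.map (eqToHom p).op) := fun p => by
      subst p
      rw [eqToHom_refl, op_id, C'.presheaf.map_id]
      exact (Iso.refl _).isIso_hom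
    exact hmap _
  exact (HasAffineProperty.iff_of_isAffine (P := MorphismProperty.isomorphisms Scheme.{u})).2
    ⟨inferInstance, inferInstance⟩

section Subalgebras

variable {Y R : Scheme.{u}} [IsIntegral Y] [IsIntegral R] (π : R ⟶ Y) [IsFinite π]

theorem imageSub_mono {C C' : Scheme.{u}} (φ : C ⟶ Y) (h : R ⟶ C) (hc : h ≫ φ = π) (β : C' ⟶ C)
    (h' : R ⟶ C') (hh' : h' ≫ β = h) (hc' : h' ≫ β ≫ φ = π) (U : Y.Opens) :
    imageSub π φ h hc U ≤ imageSub π (β ≫ φ) h' hc' U := by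
  rintro _ ⟨x, rfl⟩
  refine ⟨β.app (φ ⁻¹ᵁ U) x, ?_⟩
  subst hh'
  rw [Scheme.Hom.app_eq_appLE]
  exact congr($(Scheme.Hom.appLE_comp_appLE h' β (φ ⁻¹ᵁ U) (β ⁻¹ᵁ (φ ⁻¹ᵁ U))
    (π ⁻¹ᵁ U) le_rfl (by rw [← hc', Scheme.Hom.comp_preimage]; exact le_rfl)).hom x)

omit [IsIntegral Y] in
theorem isIso_of_imageSub_eq {C C' : Scheme.{u}} [IsIntegral C] [IsIntegral C'] (φ : C ⟶ Y) [IsFinite φ]
    (h : R ⟶ C) [IsDominant h] (hc : h ≫ φ = π) (β : C' ⟶ C) [IsFinite (β ≫ φ)]
    (h' : R ⟶ C') [IsDominant h'] (hh' : h' ≫ β = h) (hc' : h' ≫ β ≫ φ = π) {ι : Type*}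
    (U : ι → Y.affineOpens) (hU : ⨆ i, (U i).1 = ⊤)
    (heq : ∀ i, imageSub π (β ≫ φ) h' hc' (U i).1 ≤ imageSub π φ h hc (U i).1) : IsIso β := by
  haveI : IsAffineHom β := IsAffineHom.of_comp β φ
  haveI : IsFinite (h' ≫ β ≫ φ) := hc'.symm ▸ ‹IsFinite π›
  haveI : IsFinite (h ≫ φ) := hc.symm ▸ ‹IsFinite π›
  haveI : QuasiCompact h' := by
    haveI : QuasiCompact (h' ≫ β ≫ φ) := inferInstance
    exact QuasiCompact.of_comp h' (β ≫ φ)
  haveI : QuasiCompact h := by
    haveI : QuasiCompact (h ≫ φ) := inferInstance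
    exact QuasiCompact.of_comp h φ
  refine (IsZariskiLocalAtTarget.iff_of_iSup_eq_top (P := MorphismProperty.isomorphisms Scheme.{u})
    (fun i => φ ⁻¹ᵁ (U i).1) (by rw [← Scheme.Hom.preimage_iSup, hU, Scheme.Hom.preimage_top])).2
    fun i => ?_
  change IsIso (β ∣_ (φ ⁻¹ᵁ (U i).1))
  have hbij : Function.Bijective (β.app (φ ⁻¹ᵁ (U i).1)) := by
    have hπU : π ⁻¹ᵁ (U i).1 = h ⁻¹ᵁ (φ ⁻¹ᵁ (U i).1) := by rw [← Scheme.Hom.comp_preimage, hc]
    have hπU' : π ⁻¹ᵁ (U i).1 = h' ⁻¹ᵁ ((β ≫ φ) ⁻¹ᵁ (U i).1) := by rw [← Scheme.Hom.comp_preimage, hc']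
    have hcomp : ∀ x, h'.appLE ((β ≫ φ) ⁻¹ᵁ (U i).1) (π ⁻¹ᵁ (U i).1) hπU'.le (β.app (φ ⁻¹ᵁ (U i).1) x) =
        h.appLE (φ ⁻¹ᵁ (U i).1) (π ⁻¹ᵁ (U i).1) hπU.le x := fun x => by
      subst hh'
      rw [Scheme.Hom.app_eq_appLE]
      exact congr($(Scheme.Hom.appLE_comp_appLE h' β (φ ⁻¹ᵁ (U i).1) (β ⁻¹ᵁ (φ ⁻¹ᵁ (U i).1))
        (π ⁻¹ᵁ (U i).1) le_rfl hπU'.le).hom x)
    refine ⟨fun x y hxy => appLE_injective h _ _ hπU (by rw [← hcomp, ← hcomp, hxy]), fun y => ?_⟩
    obtain ⟨x, hx⟩ := heq i ⟨y, rfl⟩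
    exact ⟨x, appLE_injective h' _ _ hπU' ((hcomp x).trans hx)⟩
  exact isIso_restrict_of_bijective β ((U i).2.preimage φ) hbij

omit [IsIntegral Y] in
/-- Below a birational finite morphism everything is birational. -/
theorem exists_isIso_restrict {C : Scheme.{u}} [IsIntegral C] (φ : C ⟶ Y) [IsFinite φ] (h : R ⟶ C)
    [IsDominant h] (hc : h ≫ φ = π) (hY : ∃ V : Y.Opens, (V : Set Y).Nonempty ∧ IsIso (π ∣_ V)) :
    ∃ V : Y.Opens, (V : Set Y).Nonempty ∧ IsIso (φ ∣_ V) := by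
  obtain ⟨V, ⟨v, hv⟩, hVi⟩ := hY
  haveI := hVi
  obtain ⟨_, ⟨A, hA, rfl⟩, hvA, hAV⟩ := Y.isBasis_affineOpens.exists_subset_of_mem_open hv V.2
  haveI : IsIso (π ∣_ A) := Groth.ArSurfBasics.Principalization.isIso_restrict_mono π hAV
  subst hc
  haveI : UniversallyClosed h := .of_comp_of_isSeparated h φ
  refine ⟨A, ⟨v, hvA⟩, isIso_restrict_of_bijective φ hA ?_⟩
  have hiso := PointContraction.isIso_app_of_isIso_restrict (h ≫ φ) A
  rw [Scheme.Hom.comp_app] at hiso
  have hb := (ConcreteCategory.isIso_iff_bijective _).1 hiso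
  have hinj : Function.Injective (h.app (φ ⁻¹ᵁ A)) := by
    haveI := IsSchemeTheoreticallyDominant.of_isDominant h
    exact h.app_injective _
  refine ⟨fun x y hxy => hb.1 (congrArg (h.app (φ ⁻¹ᵁ A)) hxy), fun y => ?_⟩
  obtain ⟨x, hx⟩ := hb.2 (h.app (φ ⁻¹ᵁ A) y)
  exact ⟨x, hinj hx⟩

end Subalgebras

section Regular

/-- Simultaneous resolution of embedded curves. -/
theorem exists_all_regular {X : Scheme.{u}} [IsLocallyNoetherian X] {n : ℕ} (Y R : Fin n → Scheme.{u})
    [∀ k, IsIntegral (Y k)] [∀ k, AlgebraicGeometry.IsNoetherian (Y k)] [∀ k, IsIntegral (R k)]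
    (ι : ∀ k, Y k ⟶ X) [∀ k, IsClosedImmersion (ι k)] (π : ∀ k, R k ⟶ Y k) [∀ k, IsFinite (π k)]
    (hdim : ∀ k (y : Y k), Order.coheight y ≤ 1) (hY : ∀ k, ¬ IsClosed ({genericPoint (Y k)} : Set (Y k)))
    (hreg : ∀ k (x : R k), IsRegularLocalRing ((R k).presheaf.stalk x))
    (hπ : ∀ k, π k (genericPoint (R k)) = genericPoint (Y k))
    (hbir : ∀ k, ∃ V : (Y k).Opens, (V : Set (Y k)).Nonempty ∧ IsIso (π k ∣_ V)) :
    ∃ (W : Scheme.{u}) (g : W ⟶ X), Resolve.IsPtBlowupSeq g ∧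
      ∃ (C : Fin n → Scheme.{u}) (i : ∀ k, C k ⟶ W) (φ : ∀ k, C k ⟶ Y k) (_ : ∀ k, IsIntegral (C k)),
        ∀ k, IsClosedImmersion (i k) ∧ IsFinite (φ k) ∧ φ k ≫ ι k = i k ≫ g ∧
          φ k (genericPoint (C k)) = genericPoint (Y k) ∧
          (∀ c : C k, IsRegularLocalRing ((C k).presheaf.stalk c)) ∧
          ∃ V : (Y k).Opens, (V : Set (Y k)).Nonempty ∧ IsIso (φ k ∣_ V) := by
  classical
  haveI : ∀ k, IsLocallyNoetherian (R k) := fun k => LocallyOfFiniteType.isLocallyNoetherian (π k)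
  choose S hScov using fun k => CompactSpace.elim_nhds_subcover
    (fun y : Y k => ((Groth.Divisors.exists_affine_le y ⊤ trivial).choose.1 : Set (Y k)))
    (fun y => (Groth.Divisors.exists_affine_le y ⊤ trivial).choose.1.2.mem_nhds
      (Groth.Divisors.exists_affine_le y ⊤ trivial).choose_spec.1)
  let U : ∀ k, S k → (Y k).affineOpens := fun k y =>
    (Groth.Divisors.exists_affine_le y.1 ⊤ trivial).choose
  have hUcov : ∀ k, ⨆ j, (U k j).1 = ⊤ := fun k => eq_top_iff.2 fun y _ => by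
    obtain ⟨s, hs, hy⟩ := Set.mem_iUnion₂.1 ((hScov k).ge (Set.mem_univ y))
    exact Opens.mem_iSup.2 ⟨⟨s, hs⟩, hy⟩
  let T := Σ k, S k
  letI : ∀ t : T, Algebra Γ(Y t.1, (U t.1 t.2).1) Γ(R t.1, π t.1 ⁻¹ᵁ (U t.1 t.2).1) :=
    fun t => ((π t.1).app (U t.1 t.2).1).hom.toAlgebra
  haveI : ∀ t : T, IsNoetherian Γ(Y t.1, (U t.1 t.2).1) Γ(R t.1, π t.1 ⁻¹ᵁ (U t.1 t.2).1) := fun t => by
    haveI := IsLocallyNoetherian.component_noetherian (U t.1 t.2)
    haveI : Module.Finite Γ(Y t.1, (U t.1 t.2).1) Γ(R t.1, π t.1 ⁻¹ᵁ (U t.1 t.2).1) :=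
      RingHom.finite_algebraMap.1 (IsFinite.finite_app (f := π t.1) (U t.1 t.2).1 (U t.1 t.2).2)
    infer_instance
  suffices key : ∀ (M : ∀ t : T, Submodule Γ(Y t.1, (U t.1 t.2).1) Γ(R t.1, π t.1 ⁻¹ᵁ (U t.1 t.2).1))
      (W : Scheme.{u}) (g : W ⟶ X) (C : Fin n → Scheme.{u}) (_ : ∀ k, IsIntegral (C k))
      (i : ∀ k, C k ⟶ W) (φ : ∀ k, C k ⟶ Y k) (h : ∀ k, R k ⟶ C k) (hc : ∀ k, h k ≫ φ k = π k),
      Resolve.IsPtBlowupSeq g → (∀ k, IsClosedImmersion (i k)) → (∀ k, IsFinite (φ k)) →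
      (∀ k, φ k ≫ ι k = i k ≫ g) → (∀ k, IsDominant (h k)) →
      (∀ t, M t = imageSub (π t.1) (φ t.1) (h t.1) (hc t.1) (U t.1 t.2).1) →
      ∃ (W : Scheme.{u}) (g : W ⟶ X), Resolve.IsPtBlowupSeq g ∧
      ∃ (C : Fin n → Scheme.{u}) (i : ∀ k, C k ⟶ W) (φ : ∀ k, C k ⟶ Y k) (_ : ∀ k, IsIntegral (C k)),
        ∀ k, IsClosedImmersion (i k) ∧ IsFinite (φ k) ∧ φ k ≫ ι k = i k ≫ g ∧
          φ k (genericPoint (C k)) = genericPoint (Y k) ∧
          (∀ c : C k, IsRegularLocalRing ((C k).presheaf.stalk c)) ∧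
          ∃ V : (Y k).Opens, (V : Set (Y k)).Nonempty ∧ IsIso (φ k ∣_ V) by
    refine key _ X (𝟙 X) Y inferInstance ι (fun k => 𝟙 (Y k)) π (fun k => Category.comp_id _)
      (Resolve.IsPtBlowupSeq.iso (Iso.refl X)) inferInstance inferInstance (fun k => by simp)
      (fun k => ⟨show ∀ y : Y k, y ∈ closure (Set.range (π k)) from fun y =>
        closure_mono (Set.singleton_subset_iff.2 (show genericPoint (Y k) ∈ Set.range (π k) from ⟨_, hπ k⟩))
          (specializes_iff_mem_closure.1 (genericPoint_specializes y))⟩) fun t => rfl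
  haveI : WellFoundedGT (∀ t : T, Submodule Γ(Y t.1, (U t.1 t.2).1) Γ(R t.1, π t.1 ⁻¹ᵁ (U t.1 t.2).1)) :=
    ⟨InvImage.wf (fun (M : ∀ t : T, Submodule Γ(Y t.1, (U t.1 t.2).1) Γ(R t.1, π t.1 ⁻¹ᵁ (U t.1 t.2).1)) t =>
      OrderDual.toDual (M t)) (Pi.wellFoundedLT
        (α := fun t : T => (Submodule Γ(Y t.1, (U t.1 t.2).1) Γ(R t.1, π t.1 ⁻¹ᵁ (U t.1 t.2).1))ᵒᵈ)).wf⟩
  intro M
  induction M using WellFoundedGT.induction with
  | ind M ih =>
  intro W g C hC i φ h hc hg hi hφ hcomm hh hM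
  haveI := hC; haveI := hi; haveI := hφ; haveI := hh
  haveI : IsProper g := seq_isProper hg
  haveI : IsLocallyNoetherian W := LocallyOfFiniteType.isLocallyNoetherian g
  haveI : ∀ k, IsLocallyNoetherian (C k) := fun k => LocallyOfFiniteType.isLocallyNoetherian (i k)
  have hgenφ : ∀ k, φ k (genericPoint (C k)) = genericPoint (Y k) := fun k => by
    rw [← apply_genericPoint (h k), ← Scheme.Hom.comp_apply, hc k, hπ k]
  by_cases hall : ∀ k (c : C k), IsRegularLocalRing ((C k).presheaf.stalk c)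
  · exact ⟨W, g, hg, C, i, φ, hC, fun k => ⟨hi k, hφ k, hcomm k, hgenφ k, hall k,
      exists_isIso_restrict (π k) (φ k) (h k) (hc k) (hbir k)⟩⟩
  obtain ⟨k₀, hk₀⟩ := not_forall.1 hall
  obtain ⟨z, hzs⟩ := not_forall.1 hk₀
  have hnc : ∀ k, ¬ IsClosed ({genericPoint (C k)} : Set (C k)) := fun k hcl => hY k (by
    have := (φ k).isClosedMap _ hcl
    rwa [Set.image_singleton, hgenφ k] at this)
  have hco : ∀ k (c : C k), Order.coheight c ≤ 1 := fun k c =>
    (coheight_le_of_isFinite (φ k) c).trans (hdim k _)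
  have hzη : genericPoint (C k₀) ≠ z := fun e => hzs <| by
    subst e
    exact inferInstanceAs (IsRegularLocalRing (C k₀).functionField)
  have hz : IsClosed ({z} : Set (C k₀)) := isClosed_of_ne_generic (hco k₀) hzη
  let p := i k₀ z
  have hp : IsClosed ({p} : Set W) := by
    rw [← Set.image_singleton]
    exact (i k₀).isClosedMap _ hz
  have hηp : ∀ k, i k (genericPoint (C k)) ≠ p := fun k e => hnc k (by
    have : ({genericPoint (C k)} : Set (C k)) = i k ⁻¹' {p} := by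
      ext w
      exact ⟨fun hw => (congrArg (i k) hw).trans e, fun hw => (i k).isClosedEmbedding.injective (hw.trans e.symm)⟩
    rw [this]
    exact hp.preimage (i k).continuous)
  obtain ⟨W', b, hb⟩ := Groth.BlowUpBasics.exists_isBlowUp W (ptIdeal p hp)
  choose C' i' β hC' hi' hβp hβc hβ hβgen using fun k => exists_transform hb (i k) (hηp k)
  haveI := hC'; haveI := hi'; haveI := hβp
  have hJ : ∀ k, genericPoint (C k) ∉ ((ptIdeal p hp).comap (i k)).support := fun k => by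
    rw [← SetLike.mem_coe, Scheme.IdealSheafData.support_comap, Closeds.coe_preimage,
      Scheme.IdealSheafData.coe_support_vanishingIdeal]
    exact hηp k
  have hlift : ∀ k, ∃ h' : R k ⟶ C' k, h' ≫ β k = h k := fun k => by
    obtain ⟨h', hh', -⟩ := (hβ k).2 (R k) (h k) (isEffCartier_of_ne_bot (hreg k)
      (fun x => (coheight_le_of_isFinite (π k) x).trans (hdim k _)) _ fun h0 => by
        have h1 : genericPoint (R k) ∈ (((ptIdeal p hp).comap (i k)).comap (h k)).support := by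
          rw [h0, Scheme.IdealSheafData.support_bot]; trivial
        rw [← SetLike.mem_coe, Scheme.IdealSheafData.support_comap, Closeds.coe_preimage, Set.mem_preimage,
          apply_genericPoint (h k)] at h1
        exact hJ k h1)
    exact ⟨h', hh'⟩
  choose h' hh' using hlift
  have hc' : ∀ k, h' k ≫ β k ≫ φ k = π k := fun k => by rw [← Category.assoc, hh', hc]
  have hh'd : ∀ k, IsDominant (h' k) := fun k => isDominant_lift (hβ k) (hJ k) (hβgen k) (h' k)
    (by rw [← Scheme.Hom.comp_apply, hh', apply_genericPoint (h k)])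
  haveI := hh'd
  have hφ' : ∀ k, IsFinite (β k ≫ φ k) := fun k => by
    haveI : IsFinite (h' k ≫ β k ≫ φ k) := (hc' k).symm ▸ inferInstanceAs (IsFinite (π k))
    exact isFinite_of_dominated (β k ≫ φ k) (h' k)
  haveI := hφ'
  refine ih (fun t => imageSub (π t.1) (β t.1 ≫ φ t.1) (h' t.1) (hc' t.1) (U t.1 t.2).1)
    (lt_of_le_of_ne (fun t => (hM t).le.trans
      (imageSub_mono (π t.1) (φ t.1) (h t.1) (hc t.1) (β t.1) (h' t.1) (hh' t.1) (hc' t.1) _)) fun e => ?_)
    W' (b ≫ g) C' hC' i' (fun k => β k ≫ φ k) h' hc' (Resolve.IsPtBlowupSeq.step b g p hp hb hg) hi' hφ'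
    (fun k => by rw [Category.assoc, hcomm k, ← Category.assoc, hβc k, Category.assoc]) hh'd fun t => rfl
  refine not_isIso_blowUp hz hzs (β k₀) (comap_ptIdeal (i k₀) hz hp ▸ hβ k₀)
    (isIso_of_imageSub_eq (π k₀) (φ k₀) (h k₀) (hc k₀) (β k₀) (h' k₀) (hh' k₀) (hc' k₀) (U k₀)
      (hUcov k₀) fun j => ?_)
  exact ((congrFun e ⟨k₀, j⟩).symm.trans (hM ⟨k₀, j⟩)).le
where
  isClosed_of_ne_generic {C : Scheme.{u}} [IsIntegral C] (hco : ∀ c : C, Order.coheight c ≤ 1) {z : C}
      (hzη : genericPoint C ≠ z) : IsClosed ({z} : Set C) := by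
    rw [← closure_subset_iff_isClosed]
    intro w hw
    by_contra hne
    have hlt : w < z := lt_iff_le_not_ge.2 ⟨Scheme.le_iff_specializes.2 (specializes_iff_mem_closure.2 hw),
      fun h' => hne ((Scheme.le_iff_specializes.1 h').antisymm (specializes_iff_mem_closure.2 hw)).eq⟩
    have hlt' : z < genericPoint C := lt_iff_le_not_ge.2
      ⟨Scheme.le_iff_specializes.2 (genericPoint_specializes z),
        fun h' => hzη ((genericPoint_specializes z).antisymm (Scheme.le_iff_specializes.1 h')).eq⟩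
    have h1 := (Order.coheight_add_one_le hlt).trans (hco w)
    have h3 : (1 : ℕ∞) ≤ Order.coheight z := le_trans le_add_self (Order.coheight_add_one_le hlt')
    have h4 : (1 : ℕ∞) + 1 ≤ 1 := (add_le_add h3 le_rfl).trans h1
    exact absurd h4 (by decide)

end Regular

section Disjoint

variable {W W' : Scheme.{u}}

theorem ker_comap_le {C : Scheme.{u}} {i : C ⟶ W} {i' : C ⟶ W'} {b : W' ⟶ W} (h : i' ≫ b = i)
    [IsClosedImmersion i'] : i.ker.comap b ≤ i'.ker := by
  refine Scheme.IdealSheafData.le_map_iff_comap_le.1 ?_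
  subst h
  rw [Scheme.IdealSheafData.map]
  conv_lhs => rw [← i'.toImage_imageι, Category.assoc, Scheme.Hom.ker_comp_of_isIso]

/-- The total transform of a curve through the point contains strict transform and exceptional
divisor. -/
theorem ker_comap_le_mul {C : Scheme.{u}} [IsIntegral C] {i : C ⟶ W} [IsClosedImmersion i] {i' : C ⟶ W'}
    [IsClosedImmersion i'] {b : W' ⟶ W} (h : i' ≫ b = i) {p : W} (hp : IsClosed ({p} : Set W))
    (hb : BlowUp.IsEffCartierIdeal ((ptIdeal p hp).comap b)) (hη : i (genericPoint C) ≠ p)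
    (hpC : p ∈ Set.range i) : i.ker.comap b ≤ i'.ker * (ptIdeal p hp).comap b := by
  have hsub : i.ker ≤ ptIdeal p hp := by
    refine Scheme.IdealSheafData.le_support_iff_le_vanishingIdeal.1 ?_
    intro x hx
    rw [show x = p from hx, ← SetLike.mem_coe, Scheme.Hom.support_ker, i.isClosedEmbedding.isClosed_range.closure_eq]
    exact hpC
  choose V hV t ht using fun x : W' => Groth.Divisors.exists_generator hb x ⊤ trivial
  refine Scheme.IdealSheafData.le_of_iSup_eq_top V (eq_top_iff.2 fun x _ => Opens.mem_iSup.2 ⟨x, hV x⟩)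
    fun x a ha => ?_
  have haE : a ∈ ((ptIdeal p hp).comap b).ideal (V x) := Scheme.IdealSheafData.comap_mono b hsub (V x) ha
  have hk : i'.app (V x).1 a = 0 := by
    have h1 := ker_comap_le h (V x) ha
    rwa [Scheme.Hom.ker_apply, RingHom.mem_ker] at h1
  obtain ⟨t₀, htn, htI⟩ := ht x
  rw [htI] at haE
  obtain ⟨c, rfl⟩ := Ideal.mem_span_singleton'.1 haE
  rw [Scheme.IdealSheafData.ideal_mul, Pi.mul_apply, htI]
  refine Ideal.mul_mem_mul ?_ (Ideal.mem_span_singleton_self _)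
  rw [Scheme.Hom.ker_apply, RingHom.mem_ker]
  rw [map_mul] at hk
  by_cases hne : Nonempty ↥(i' ⁻¹ᵁ (V x).1)
  swap
  · haveI : Subsingleton Γ(C, i' ⁻¹ᵁ (V x).1) := by
      have : i' ⁻¹ᵁ (V x).1 = ⊥ := Opens.ext (Set.eq_empty_iff_forall_notMem.2 fun w hw => hne ⟨⟨w, hw⟩⟩)
      rw [this]; infer_instance
    exact Subsingleton.elim _ _
  haveI : Nonempty ((i' ⁻¹ᵁ (V x).1 : C.Opens) : Scheme.{u}) := hne
  haveI : IsDomain Γ(C, i' ⁻¹ᵁ (V x).1) := inferInstance
  refine (mul_eq_zero.1 hk).resolve_right fun ht0 => ?_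
  have hηV : genericPoint C ∈ i' ⁻¹ᵁ (V x).1 :=
    ((genericPoint_spec C).mem_open_set_iff (i' ⁻¹ᵁ (V x).1).2).2 (by
      obtain ⟨⟨w, hw⟩⟩ := hne
      exact ⟨w, trivial, hw⟩)
  have hbη : b (i' (genericPoint C)) ≠ p := by rw [← Scheme.Hom.comp_apply, h]; exact hη
  have hnot : i' (genericPoint C) ∉ ((ptIdeal p hp).comap b).support := by
    rw [← SetLike.mem_coe, Scheme.IdealSheafData.support_comap, Closeds.coe_preimage,
      Scheme.IdealSheafData.coe_support_vanishingIdeal]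
    exact hbη
  have hu := (Groth.Divisors.not_mem_support_iff htI hηV).1 hnot
  have hu' := hu.map (i'.stalkMap (genericPoint C)).hom
  rw [Scheme.Hom.germ_stalkMap_apply, ht0, map_zero] at hu'
  exact not_isUnit_zero hu'

/-- An ideal sheaf on a curve contained in its product with a point ideal vanishes. -/
theorem eq_bot_of_le_mul {C : Scheme.{u}} [IsIntegral C] [IsLocallyNoetherian C] {z : C}
    (hz : IsClosed ({z} : Set C)) (J : C.IdealSheafData) (hJ : J ≤ J * ptIdeal z hz) :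
    genericPoint C ∈ J.support := by
  obtain ⟨U, hzU, -⟩ := Groth.Divisors.exists_affine_le z ⊤ trivial
  haveI : Nonempty U.1 := ⟨⟨z, hzU⟩⟩
  let γ := (C.presheaf.germ U.1 z hzU).hom
  haveI : IsNoetherianRing Γ(C, U.1) := IsLocallyNoetherian.component_noetherian U
  have hP : (ptIdeal z hz).ideal U ≤ (U.2.primeIdealOf ⟨z, hzU⟩).asIdeal := by
    refine (Groth.DivisorLength.mem_support_iff_le hzU).1 ?_
    rw [← SetLike.mem_coe, Scheme.IdealSheafData.coe_support_vanishingIdeal]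
    rfl
  have hle : (J.ideal U).map γ ≤ IsLocalRing.maximalIdeal (C.presheaf.stalk z) • (J.ideal U).map γ := by
    rw [smul_eq_mul, mul_comm]
    have h1 : J.ideal U ≤ J.ideal U * (ptIdeal z hz).ideal U := by
      simpa only [Scheme.IdealSheafData.ideal_mul, Pi.mul_apply] using hJ U
    refine (Ideal.map_mono h1).trans ?_
    rw [Ideal.map_mul]
    refine Ideal.mul_mono_right ((Ideal.map_mono hP).trans ?_)
    letI := C.presheaf.algebra_section_stalk ⟨z, hzU⟩
    haveI := U.2.isLocalization_stalk ⟨z, hzU⟩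
    exact (IsLocalization.AtPrime.map_eq_maximalIdeal (U.2.primeIdealOf ⟨z, hzU⟩).asIdeal
      (C.presheaf.stalk z)).le
  have h0 := Submodule.eq_bot_of_le_smul_of_le_jacobson_bot _ _
    (Ideal.FG.map (IsNoetherian.noetherian _) γ) hle (IsLocalRing.maximalIdeal_le_jacobson ⊥)
  have hU : J.ideal U = ⊥ := eq_bot_iff.2 fun a ha => germ_injective_of_isIntegral C z hzU
    ((Ideal.mem_bot.1 (h0.le (Ideal.mem_map_of_mem _ ha))).trans (map_zero _).symm)
  have hη : genericPoint C ∈ U.1 :=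
    ((genericPoint_spec C).mem_open_set_iff U.1.2).2 (by simpa using ⟨z, hzU⟩)
  rw [Groth.DivisorLength.mem_support_iff_le hη, hU]
  exact bot_le

/-- Separating regular curves by blowing up their common points, keeping an invariant. -/
theorem exists_disjoint_inv {X : Scheme.{u}} [IsLocallyNoetherian X] {n : ℕ} (C : Fin n → Scheme.{u})
    [∀ k, IsIntegral (C k)] [∀ k, AlgebraicGeometry.IsNoetherian (C k)]
    (hreg : ∀ k (c : C k), IsRegularLocalRing ((C k).presheaf.stalk c))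
    (hco : ∀ k (c : C k), Order.coheight c ≤ 1) (hnc : ∀ k, ¬ IsClosed ({genericPoint (C k)} : Set (C k)))
    (ψ : ∀ k, C k ⟶ X) (hψ : ∀ j k, j ≠ k → ¬ ψ j (genericPoint (C j)) ⤳ ψ k (genericPoint (C k)))
    (W : Scheme.{u}) (g : W ⟶ X) (hg : Resolve.IsPtBlowupSeq g) (i : ∀ k, C k ⟶ W)
    [∀ k, IsClosedImmersion (i k)] (hig : ∀ k, i k ≫ g = ψ k)
    (P : ∀ (W : Scheme.{u}), (W ⟶ X) → (∀ k, C k ⟶ W) → Prop) (hP0 : P W g i)
    (hstep : ∀ (W : Scheme.{u}) (g : W ⟶ X) (i : ∀ k, C k ⟶ W) [IsLocallyNoetherian W]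
      [∀ k, IsClosedImmersion (i k)], P W g i → ∀ (k₀ : Fin n) (z : C k₀) (hp : IsClosed ({i k₀ z} : Set W)),
      z ≠ genericPoint (C k₀) → (∀ k, i k (genericPoint (C k)) ≠ i k₀ z) →
      ∀ (W' : Scheme.{u}) (b : W' ⟶ W), BlowUp.IsBlowUp b (ptIdeal (i k₀ z) hp) →
      ∀ (i' : ∀ k, C k ⟶ W'), (∀ k, IsClosedImmersion (i' k)) → (∀ k, i' k ≫ b = i k) → P W' (b ≫ g) i') :
    ∃ (W : Scheme.{u}) (g : W ⟶ X), Resolve.IsPtBlowupSeq g ∧
      ∃ (i : ∀ k, C k ⟶ W), P W g i ∧ ∀ k, IsClosedImmersion (i k) ∧ i k ≫ g = ψ k ∧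
        ∀ j, j ≠ k → Disjoint (Set.range (i j)) (Set.range (i k)) := by
  classical
  choose S hScov using fun k => CompactSpace.elim_nhds_subcover
    (fun y : C k => ((Groth.Divisors.exists_affine_le y ⊤ trivial).choose.1 : Set (C k)))
    (fun y => (Groth.Divisors.exists_affine_le y ⊤ trivial).choose.1.2.mem_nhds
      (Groth.Divisors.exists_affine_le y ⊤ trivial).choose_spec.1)
  let U : ∀ k, S k → (C k).affineOpens := fun k y =>
    (Groth.Divisors.exists_affine_le y.1 ⊤ trivial).choose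
  have hUcov : ∀ k, ⨆ j, (U k j).1 = ⊤ := fun k => eq_top_iff.2 fun y _ => by
    obtain ⟨s, hs, hy⟩ := Set.mem_iUnion₂.1 ((hScov k).ge (Set.mem_univ y))
    exact Opens.mem_iSup.2 ⟨⟨s, hs⟩, hy⟩
  let T := Σ k, Fin n × S k
  haveI : ∀ t : T, IsNoetherianRing Γ(C t.1, (U t.1 t.2.2).1) := fun t =>
    IsLocallyNoetherian.component_noetherian (U t.1 t.2.2)
  suffices key : ∀ (M : ∀ t : T, Ideal Γ(C t.1, (U t.1 t.2.2).1)) (W : Scheme.{u}) (g : W ⟶ X)
      (i : ∀ k, C k ⟶ W), Resolve.IsPtBlowupSeq g → (∀ k, IsClosedImmersion (i k)) →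
      (∀ k, i k ≫ g = ψ k) → P W g i → (∀ t, M t = ((i t.2.1).ker.comap (i t.1)).ideal (U t.1 t.2.2)) →
      ∃ (W : Scheme.{u}) (g : W ⟶ X), Resolve.IsPtBlowupSeq g ∧
        ∃ (i : ∀ k, C k ⟶ W), P W g i ∧ ∀ k, IsClosedImmersion (i k) ∧ i k ≫ g = ψ k ∧
          ∀ j, j ≠ k → Disjoint (Set.range (i j)) (Set.range (i k)) from
    key _ W g i hg inferInstance hig hP0 fun t => rfl
  haveI : WellFoundedGT (∀ t : T, Ideal Γ(C t.1, (U t.1 t.2.2).1)) :=
    ⟨InvImage.wf (fun (M : ∀ t : T, Ideal Γ(C t.1, (U t.1 t.2.2).1)) t => OrderDual.toDual (M t))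
      (Pi.wellFoundedLT (α := fun t : T => (Ideal Γ(C t.1, (U t.1 t.2.2).1))ᵒᵈ)).wf⟩
  clear hig hg hP0
  intro M
  induction M using WellFoundedGT.induction with
  | ind M ih =>
  intro W g i hg hi hig hP hM
  haveI := hi
  haveI : IsProper g := seq_isProper hg
  haveI : IsLocallyNoetherian W := LocallyOfFiniteType.isLocallyNoetherian g
  have hout : ∀ j k, j ≠ k → i k (genericPoint (C k)) ∉ Set.range (i j) := by
    rintro j k hjk ⟨w, hw⟩
    refine hψ j k hjk ?_
    have h1 := ((genericPoint_specializes w).map (i j).continuous).map g.continuous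
    rw [hw, ← Scheme.Hom.comp_apply, ← Scheme.Hom.comp_apply, hig, hig] at h1
    exact h1
  by_cases hall : ∀ j k, j ≠ k → Disjoint (Set.range (i j)) (Set.range (i k))
  · exact ⟨W, g, hg, i, hP, fun k => ⟨hi k, hig k, fun j hj => hall j k hj⟩⟩
  push Not at hall
  obtain ⟨j₀, k₀, hjk, hnd⟩ := hall
  obtain ⟨p, hpj, ⟨z, hzp⟩⟩ := Set.not_disjoint_iff.1 hnd
  subst hzp
  have hzη : genericPoint (C k₀) ≠ z := fun e => hout j₀ k₀ hjk (e ▸ hpj)
  have hz : IsClosed ({z} : Set (C k₀)) := exists_all_regular.isClosed_of_ne_generic (hco k₀) hzη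
  have hp : IsClosed ({i k₀ z} : Set W) := by
    rw [← Set.image_singleton]
    exact (i k₀).isClosedMap _ hz
  have hηp : ∀ k, i k (genericPoint (C k)) ≠ i k₀ z := fun k e => hnc k (by
    have : ({genericPoint (C k)} : Set (C k)) = i k ⁻¹' {i k₀ z} := by
      ext w
      exact ⟨fun hw => (congrArg (i k) hw).trans e, fun hw => (i k).isClosedEmbedding.injective (hw.trans e.symm)⟩
    rw [this]
    exact hp.preimage (i k).continuous)
  obtain ⟨W', b, hb⟩ := Groth.BlowUpBasics.exists_isBlowUp W (ptIdeal (i k₀ z) hp)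
  have hlift : ∀ k, ∃ i' : C k ⟶ W', IsClosedImmersion i' ∧ i' ≫ b = i k := fun k => by
    obtain ⟨C', i', β, hC', hi', -, hcomm, hβ, -⟩ := exists_transform hb (i k) (hηp k)
    haveI := hi'
    haveI := isIso_of_isEffCartier hβ (isEffCartier_of_ne_bot (hreg k) (hco k) _ fun h0 => by
      have h1 : genericPoint (C k) ∈ ((ptIdeal (i k₀ z) hp).comap (i k)).support := by
        rw [h0, Scheme.IdealSheafData.support_bot]; trivial
      rw [← SetLike.mem_coe, Scheme.IdealSheafData.support_comap, Closeds.coe_preimage,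
        Scheme.IdealSheafData.coe_support_vanishingIdeal] at h1
      exact hηp k h1)
    exact ⟨inv β ≫ i', inferInstance, by rw [Category.assoc, ← hcomm, IsIso.inv_hom_id_assoc]⟩
  choose i' hi' hi'b using hlift
  haveI := hi'
  have hmono : ∀ j k, (i j).ker.comap (i k) ≤ (i' j).ker.comap (i' k) := fun j k => by
    rw [← hi'b k, Scheme.IdealSheafData.comap_comp]
    exact Scheme.IdealSheafData.comap_mono (i' k) (ker_comap_le (hi'b j))
  refine ih (fun t => ((i' t.2.1).ker.comap (i' t.1)).ideal (U t.1 t.2.2))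
    (lt_of_le_of_ne (fun t => (hM t).le.trans (hmono _ _ _)) fun e => ?_)
    W' (b ≫ g) i' (Resolve.IsPtBlowupSeq.step b g _ hp hb hg) hi'
    (fun k => by rw [← Category.assoc, hi'b, hig])
    (hstep W g i hP k₀ z hp (Ne.symm hzη) hηp W' b hb i' hi' hi'b) fun t => rfl
  let J := (i j₀).ker.comap (i k₀)
  have hle : J ≤ (i' j₀).ker.comap (i' k₀) * ptIdeal z hz := by
    have h2 : (ptIdeal (i k₀ z) hp).comap (i' k₀ ≫ b) = ptIdeal z hz := by
      rw [hi'b]; exact comap_ptIdeal (i k₀) hz hp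
    rw [← h2, Scheme.IdealSheafData.comap_comp, ← Groth.Divisors.comap_mul]
    refine le_of_eq_of_le ?_ (Scheme.IdealSheafData.comap_mono (i' k₀)
      (ker_comap_le_mul (hi'b j₀) hp hb.1 (hηp j₀) hpj))
    show (i j₀).ker.comap (i k₀) = ((i j₀).ker.comap b).comap (i' k₀)
    rw [← Scheme.IdealSheafData.comap_comp, hi'b]
  have heq : (i' j₀).ker.comap (i' k₀) ≤ J :=
    Scheme.IdealSheafData.le_of_iSup_eq_top (U k₀) (hUcov k₀) fun s =>
      ((congrFun e ⟨k₀, (j₀, s)⟩).symm.trans (hM ⟨k₀, (j₀, s)⟩)).le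
  have hJη := eq_bot_of_le_mul hz J (hle.trans (Groth.ResolveSurf.CurvesTransform.mul_le_mul_right' heq _))
  rw [← SetLike.mem_coe, Scheme.IdealSheafData.support_comap, Closeds.coe_preimage, Scheme.Hom.support_ker,
    Set.mem_preimage] at hJη
  refine hout j₀ k₀ hjk ?_
  have : i k₀ (genericPoint (C k₀)) ∈ closure (Set.range (i j₀)) := hJη
  rwa [(i j₀).isClosedEmbedding.isClosed_range.closure_eq] at this

/-- Separating regular curves by blowing up their common points. -/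
theorem exists_disjoint {X : Scheme.{u}} [IsLocallyNoetherian X] {n : ℕ} (C : Fin n → Scheme.{u})
    [∀ k, IsIntegral (C k)] [∀ k, AlgebraicGeometry.IsNoetherian (C k)]
    (hreg : ∀ k (c : C k), IsRegularLocalRing ((C k).presheaf.stalk c))
    (hco : ∀ k (c : C k), Order.coheight c ≤ 1) (hnc : ∀ k, ¬ IsClosed ({genericPoint (C k)} : Set (C k)))
    (ψ : ∀ k, C k ⟶ X) (hψ : ∀ j k, j ≠ k → ¬ ψ j (genericPoint (C j)) ⤳ ψ k (genericPoint (C k)))
    (W : Scheme.{u}) (g : W ⟶ X) (hg : Resolve.IsPtBlowupSeq g) (i : ∀ k, C k ⟶ W)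
    [∀ k, IsClosedImmersion (i k)] (hig : ∀ k, i k ≫ g = ψ k) :
    ∃ (W : Scheme.{u}) (g : W ⟶ X), Resolve.IsPtBlowupSeq g ∧
      ∃ (i : ∀ k, C k ⟶ W), ∀ k, IsClosedImmersion (i k) ∧ i k ≫ g = ψ k ∧
        ∀ j, j ≠ k → Disjoint (Set.range (i j)) (Set.range (i k)) := by
  obtain ⟨W, g, hg, i, -, h⟩ := exists_disjoint_inv C hreg hco hnc ψ hψ W g hg i hig (fun _ _ _ => True)
    trivial (fun _ _ _ _ _ _ _ _ _ _ _ _ _ _ _ _ _ => trivial)
  exact ⟨W, g, hg, i, h⟩

end Disjoint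

end Groth.ResolveSurf.CurvesTransform
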