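import Groth.Agent.ResolveSurf.CurvesOverPoint
import Groth.Agent.ArSurfBasics.Chains
import Groth.Agent.FibreDim.DimFormulaCor
import Groth.Agent.ResPropLib.FibreBound
import Groth.Agent.RefRank.EffCartierLocal
import Groth.Agent.DivisorLength.Main
import Groth.Agent.BlowUpBasics.AffineBase
import Groth.Agent.BlowUpBasics.CartierDiv
import Groth.Agent.S7336
import Groth.Agent.S2821

/-!
# Exceptional curves of a resolution of a normal surface singularity

The curves over the closed point are effective Cartier divisors and carry a positive cycle of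
negative degree on each of them.
-/

set_option autoImplicit false
set_option backward.isDefEq.respectTransparency.types false
set_option linter.style.haveILetI false

universe u

open CategoryTheory CategoryTheory.Limits AlgebraicGeometry TopologicalSpace
open Groth.DivisorLength (eta)
open Groth.BlowUpBasics (sheafOf phi)

namespace Groth.ResolveSurf.ExcCurves

open Groth.ResolveSurf.Over0

variable {A : Type u} [CommRing A] [IsLocalRing A] {Y : Scheme.{u}}
  {π : Y ⟶ Spec (CommRingCat.of A)}

theorem eta_notMem_of_ne {r : ℕ} {C : Fin r → Curve π}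
    (hsp : ∀ i j, (C i).η ⤳ (C j).η → i = j) {i j : Fin r} (h : i ≠ j) :
    (C i).η ∉ (C j).ι.ker.support := fun hm =>
  h (hsp j i (((C j).mem_support_ker_iff _).1 hm)).symm

/-- Each curve has a point different from its generic point. -/
theorem exists_ne_eta (C : Curve π) : ∃ x : C.E, C.ι x ≠ C.η := by
  obtain ⟨x, -, hx⟩ := Groth.ArSurfBasics.exists_ne_of_dim_one (D := (Set.univ : Set C.E))
    ((IsHomeomorph.topologicalKrullDim_eq _ (Homeomorph.Set.univ C.E).isHomeomorph).trans C.dim_eq)
    (genericPoint C.E)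
  exact ⟨x, fun h => hx (C.ι.isClosedEmbedding.injective h)⟩

/-- Curves with distinct images have generic points incomparable for specialization. -/
theorem eq_of_eta_specializes {r : ℕ} (C : Fin r → Curve π)
    (hdist : ∀ i j, i ≠ j → Set.range (C i).ι.base ≠ Set.range (C j).ι.base)
    (i j : Fin r) (h : (C i).η ⤳ (C j).η) : i = j := by
  by_contra hij
  have hne : (C i).η ≠ (C j).η := fun e => hdist i j hij (by
    rw [← (C i).isGenericPoint_η.def, ← (C j).isGenericPoint_η.def, e])
  obtain ⟨x, hx⟩ := exists_ne_eta (C j)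
  have hjx : (C j).η ⤳ (C j).ι x := (genericPoint_specializes x).map (C j).ι.continuous
  obtain ⟨b, hb⟩ : (C j).η ∈ Set.range (C i).ι.base := (C i).isGenericPoint_η.specializes_iff_mem.1 h
  obtain ⟨c, hc⟩ : (C j).ι x ∈ Set.range (C i).ι.base :=
    (C i).isGenericPoint_η.specializes_iff_mem.1 (h.trans hjx)
  have hemb := (C i).ι.isClosedEmbedding
  have h2 := Groth.ArSurfBasics.two_le_topologicalKrullDim (genericPoint_specializes b)
    (fun e => hne ((congrArg (C i).ι e).trans hb))
    (hemb.isInducing.specializes_iff.1 (by rw [hb, hc]; exact hjx))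
    (fun e => hx (hc.symm.trans ((congrArg (C i).ι e).symm.trans hb)))
  rw [(C i).dim_eq] at h2
  exact absurd h2 (by decide)

/-- The image of a point read on an affine chart. -/
theorem asIdeal_apply (W : Y.affineOpens) {z : Y} (hz : z ∈ W.1) :
    (π z).asIdeal = (W.2.primeIdealOf ⟨z, hz⟩).asIdeal.comap (phi π W.1) := by
  have h : (W.2.fromSpec ≫ π) (W.2.primeIdealOf ⟨z, hz⟩) = π z := by
    rw [Scheme.Hom.comp_apply, W.2.fromSpec_primeIdealOf]
  rw [Groth.BlowUpBasics.fromSpec_comp] at h
  rw [← h]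
  rfl

/-- An ideal sheaf is trivial on affines avoiding its support. -/
theorem ideal_eq_top (J : Y.IdealSheafData) (W : Y.affineOpens)
    (h : ∀ y ∈ W.1, y ∉ J.support) : J.ideal W = ⊤ := by
  by_contra hne
  obtain ⟨m, hm, hle⟩ := Ideal.exists_le_maximal _ hne
  let y := W.2.fromSpec ⟨m, hm.isPrime⟩
  have hy : y ∈ W.1 := by
    rw [← SetLike.mem_coe, ← W.2.range_fromSpec]; exact Set.mem_range_self _
  have hpy : W.2.primeIdealOf ⟨y, hy⟩ = ⟨m, hm.isPrime⟩ :=
    W.2.fromSpec.isOpenEmbedding.injective (W.2.fromSpec_primeIdealOf ⟨y, hy⟩)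
  refine h y hy ?_
  rw [Groth.DivisorLength.mem_support_iff_le hy, hpy]
  exact hle

/-- A divisor of a prime power prime to it is a unit. -/
theorem isUnit_of_dvd_pow {M : Type u} [CommMonoidWithZero M] [IsCancelMulZero M] {t g : M}
    (ht : Prime t) (hg : ¬ t ∣ g) : ∀ n : ℕ, g ∣ t ^ n → IsUnit g
  | 0, h => isUnit_of_dvd_one (by simpa using h)
  | n + 1, ⟨q, hq⟩ => by
    obtain ⟨q', rfl⟩ := (ht.dvd_or_dvd (⟨t ^ n, by rw [← hq, pow_succ']⟩ : t ∣ g * q)).resolve_left hg
    refine isUnit_of_dvd_pow ht hg n ⟨q', mul_left_cancel₀ ht.ne_zero ?_⟩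
    rw [← pow_succ', hq, mul_left_comm]

omit [IsLocalRing A] in
theorem isNzdSec_inv [IsDomain A] {a : A} (ha : a ≠ 0) :
    Groth.Divisors.IsNzdSec (U := (⊤ : (Spec (CommRingCat.of A)).Opens))
      ((Scheme.ΓSpecIso (CommRingCat.of A)).inv a) := fun x hx =>
  mem_nonZeroDivisors_of_ne_zero fun h => ha <| by
    have h1 := germ_injective_of_isIntegral (Spec (CommRingCat.of A)) x hx (h.trans (map_zero _).symm)
    simpa using congrArg (Scheme.ΓSpecIso (CommRingCat.of A)).hom h1

omit [IsLocalRing A] in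
theorem sheafOf_span_top (a : A) :
    (sheafOf (Ideal.span {a})).ideal ⟨⊤, isAffineOpen_top _⟩ =
      Ideal.span {(Scheme.ΓSpecIso (CommRingCat.of A)).inv a} := by
  rw [Groth.BlowUpBasics.sheafOf_ideal_top, Ideal.map_span, Set.image_singleton]

omit [IsLocalRing A] in
theorem isEffCartier_span [IsDomain A] {a : A} (ha : a ≠ 0) :
    BlowUp.IsEffCartierIdeal (sheafOf (Ideal.span {a})) := fun x =>
  ⟨⟨⊤, isAffineOpen_top _⟩, trivial, (Scheme.ΓSpecIso (CommRingCat.of A)).inv a,
    (isNzdSec_inv ha).mem_nonZeroDivisors, sheafOf_span_top a⟩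

omit [IsLocalRing A] in
/-- The ideal of a principal divisor is trivial. -/
theorem nonempty_idealMod_span [IsDomain A] {a : A} (ha : a ≠ 0) :
    Nonempty (ClSub.idealMod (sheafOf (Ideal.span {a})) ≅
      Coh.structureModule (Spec (CommRingCat.of A))) := by
  obtain ⟨k, hk⟩ := Groth.OmegaSheaf.exists_idealSect (sheafOf (Ideal.span {a}))
    ⟨⊤, isAffineOpen_top _⟩ ((sheafOf_span_top a).ge (Ideal.mem_span_singleton_self _))
  have hgen := Groth.PicAux.gen_idealMod (I := sheafOf (Ideal.span {a})) ⟨⊤, isAffineOpen_top _⟩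
    (k := k) (by rw [hk]; exact isNzdSec_inv ha) (by rw [hk]; exact sheafOf_span_top a)
  exact (Groth.PicAux.nonempty_iso_structure_iff).2 ⟨k, hgen⟩

variable [IsDomain A] [IsNoetherianRing A] [IsProper π] [IsIntegral Y]

include π in
omit [IsIntegral Y] [IsDomain A] in
theorem isLocallyNoetherian : IsLocallyNoetherian Y :=
  LocallyOfFiniteType.isLocallyNoetherian π

omit [IsNoetherianRing A] [IsProper π] [IsLocalRing A] in
/-- A modification sends the generic point to the generic point. -/
theorem apply_genericPoint {U : (Spec (CommRingCat.of A)).Opens}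
    (hU : (U : Set (Spec (CommRingCat.of A))).Nonempty) [IsIso (π ∣_ U)] :
    (π (genericPoint Y)).asIdeal = ⊥ := by
  obtain ⟨w, hw⟩ := hU
  let η₀ : Spec (CommRingCat.of A) := (⟨⊥, Ideal.isPrime_bot⟩ : PrimeSpectrum A)
  have hη : η₀ ∈ U := ((PrimeSpectrum.le_iff_specializes _ _).1 bot_le : η₀ ⤳ w).mem_open U.2 hw
  obtain ⟨⟨q, hq⟩, hq'⟩ := (π ∣_ U).homeomorph.surjective ⟨η₀, hη⟩
  have h1 : π q = η₀ := (morphismRestrict_base_coe π U ⟨q, hq⟩).symm.trans (congrArg Subtype.val hq')
  have h2 := (genericPoint_specializes q).map π.continuous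
  rw [h1] at h2
  exact le_bot_iff.1 ((PrimeSpectrum.le_iff_specializes _ _).2 h2)

/-- A curve over the closed point of a surface singularity has codimension at most one. -/
theorem dim_stalk_eta_le (hdim : ringKrullDim A = 2) {U : (Spec (CommRingCat.of A)).Opens}
    (hU : (U : Set (Spec (CommRingCat.of A))).Nonempty) [IsIso (π ∣_ U)] (C : Curve π) :
    ringKrullDim (Y.presheaf.stalk C.η) ≤ 1 := by
  have hgen := apply_genericPoint (π := π) hU
  have hηA : π (genericPoint Y) = genericPoint (Spec (CommRingCat.of A)) := by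
    refine (Specializes.antisymm ?_ (genericPoint_specializes _)).eq
    refine (PrimeSpectrum.le_iff_specializes _ _).1 ?_
    show (π (genericPoint Y)).asIdeal ≤ _
    rw [hgen]
    exact bot_le
  haveI : IsDominant π := ⟨by
    rw [DenseRange, dense_iff_closure_eq, Set.eq_univ_iff_forall]
    intro w
    have hm : genericPoint (Spec (CommRingCat.of A)) ∈ Set.range π.base := ⟨_, hηA⟩
    exact closure_mono (Set.singleton_subset_iff.2 hm)
      (specializes_iff_mem_closure.1 (genericPoint_specializes w))⟩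
  obtain ⟨t, t₀, -, ht, -, ht₀, hle, -⟩ := Groth.FibreDim.exists_dim_formula π C.η
  have h1 : t₀ = 0 := by
    have hgU : genericPoint (Spec (CommRingCat.of A)) ∈ U :=
      ((genericPoint_spec _).mem_open_set_iff U.2).2 (by simpa using hU)
    haveI := Groth.ResPropLib.finite_fiber_of_isIso π U inferInstance _ hgU
    have h := Groth.ResPropLib.dim_fiber_nonpos π (genericPoint (Spec (CommRingCat.of A)))
    rw [ht₀] at h
    exact Nat.le_zero.1 (by exact_mod_cast h)
  have h2 : 1 ≤ t := by
    have : (1 : ℕ∞) ≤ Order.height (π.asFiber C.η) := by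
      obtain ⟨x, hx⟩ := exists_ne_eta C
      obtain ⟨z, hz⟩ : C.ι x ∈ Set.range (π.fiberι (π C.η)) := by
        rw [Scheme.Hom.range_fiberι]
        exact (C.π_apply x).trans (C.π_apply _).symm
      rw [ENat.one_le_iff_ne_zero, Ne, Order.height_eq_zero]
      refine fun hmin => hx ?_
      have hsp : π.asFiber C.η ⤳ z := (π.fiberι _).isEmbedding.toIsInducing.specializes_iff.1 (by
        rw [π.fiberι_asFiber, hz]
        exact (genericPoint_specializes x).map C.ι.continuous)
      have : π.asFiber C.η ≤ z := hmin (Scheme.le_iff_specializes.2 hsp)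
      have he : z = π.asFiber C.η :=
        ((Scheme.le_iff_specializes.1 this).antisymm hsp).eq
      rw [← hz, he, π.fiberι_asFiber]
    rw [ht] at this
    exact_mod_cast this
  have h3 : ringKrullDim ((Spec (CommRingCat.of A)).presheaf.stalk (π C.η)) = 2 := by
    rw [show π C.η = IsLocalRing.closedPoint A from C.π_apply _]
    haveI : IsLocalization.AtPrime ((Spec.structureSheaf A).presheaf.stalk (IsLocalRing.closedPoint A))
        (IsLocalRing.closedPoint A).asIdeal := inferInstance
    exact ((IsLocalization.AtPrime.ringKrullDim_eq_height (IsLocalRing.closedPoint A).asIdeal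
      ((Spec.structureSheaf A).presheaf.stalk (IsLocalRing.closedPoint A))).trans
        IsLocalRing.maximalIdeal_height_eq_ringKrullDim).trans hdim
  haveI := isLocallyNoetherian (π := π)
  obtain ⟨d, hd⟩ := Groth.FibreDim.exists_ringKrullDim_eq_natCast (Y.presheaf.stalk C.η)
  rw [hd, h3, h1, show (2 : WithBot ℕ∞) = ((2 : ℕ) : WithBot ℕ∞) from rfl] at hle
  have h4 : d + t ≤ 2 := by exact_mod_cast hle
  rw [hd]
  exact_mod_cast (by omega : d ≤ 1)

variable (hreg : ∀ y : Y, IsRegularLocalRing (Y.presheaf.stalk y))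

include hreg in
/-- The curves over the closed point are effective Cartier divisors. -/
theorem isEffCartier (hdim : ringKrullDim A = 2) {U : (Spec (CommRingCat.of A)).Opens}
    (hU : (U : Set (Spec (CommRingCat.of A))).Nonempty) [IsIso (π ∣_ U)] (C : Curve π) :
    BlowUp.IsEffCartierIdeal C.ι.ker := by
  haveI := isLocallyNoetherian (π := π)
  refine Groth.RefRank.EffCartierLocal.isEffCartierIdeal_of_isIntegral _ ?_ fun x _ => ?_
  · change ringKrullDim (Y.presheaf.stalk (eta C.ι.ker)) = 1
    rw [C.eta_ker]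
    refine le_antisymm (dim_stalk_eta_le hdim hU C) (?_)
    have hlt : (0 : WithBot ℕ∞) < ringKrullDim (Y.presheaf.stalk C.η) := ?_
    · obtain ⟨d, hd⟩ := Groth.FibreDim.exists_ringKrullDim_eq_natCast (Y.presheaf.stalk C.η)
      rw [hd] at hlt ⊢
      have : 0 < d := by exact_mod_cast hlt
      exact_mod_cast (by omega : 1 ≤ d)
    refine lt_of_le_of_ne ringKrullDim_nonneg_of_nontrivial fun h0 => ?_
    have hgen := apply_genericPoint (π := π) hU
    have hne : C.η ≠ genericPoint Y := fun e => by
      have h : π C.η = IsLocalRing.closedPoint A := C.π_apply _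
      rw [e] at h
      rw [h] at hgen
      have : IsField A := IsLocalRing.isField_iff_maximalIdeal_eq.2 hgen
      rw [ringKrullDim_eq_zero_of_isField this] at hdim
      exact absurd hdim (by decide)
    refine hne ?_
    haveI : Ring.KrullDimLE 0 (Y.presheaf.stalk C.η) := Ring.krullDimLE_iff.2 h0.symm.le
    haveI := (haveI := hreg C.η; Groth.Agent.S2821.result (Y.presheaf.stalk C.η)).1
    obtain ⟨w, hw⟩ : genericPoint Y ∈ Set.range (Y.fromSpecStalk C.η) := by
      rw [Scheme.range_fromSpecStalk]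
      exact genericPoint_specializes _
    have hwc : w = IsLocalRing.closedPoint (Y.presheaf.stalk C.η) :=
      PrimeSpectrum.ext (IsLocalRing.eq_maximalIdeal (Ideal.IsPrime.isMaximal' (I := w.asIdeal) w.2))
    rw [← hw, hwc, Scheme.fromSpecStalk_closedPoint]
  · haveI := hreg x
    exact Groth.Agent.S2821.result _

include hreg in
/-- A positive cycle on the curves over the closed point whose ideal has positive degree on each of
them. -/
theorem exists_cycle [IsIntegrallyClosed A] (hdim : ringKrullDim A = 2)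
    {U : (Spec (CommRingCat.of A)).Opens} (hU : (U : Set (Spec (CommRingCat.of A))).Nonempty)
    [IsIso (π ∣_ U)] {r : ℕ} (C : Fin r → Curve π)
    (hdist : ∀ i j, i ≠ j → Set.range (C i).ι.base ≠ Set.range (C j).ι.base)
    (hcov : ∀ y : Y, π y = IsLocalRing.closedPoint A → ∃ i, y ∈ Set.range (C i).ι.base) :
    ∃ n : Fin r → ℕ, (∀ i, 0 < n i) ∧
      ∀ j, 0 < ∑ i, (n i : ℤ) * δ (C j) (ClSub.idealMod (C i).ι.ker) := by
  classical
  haveI := isLocallyNoetherian (π := π)
  rcases isEmpty_or_nonempty (Fin r) with hr | ⟨⟨i₀⟩⟩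
  · exact ⟨fun _ => 1, fun i => hr.elim i, fun j => hr.elim j⟩
  have hsp := eq_of_eta_specializes C hdist
  have hgen := apply_genericPoint (π := π) hU
  have hni : ¬ IsIso π := fun hiso => by
    obtain ⟨x, hx⟩ := exists_ne_eta (C i₀)
    exact hx (π.homeomorph.injective (((C i₀).π_apply x).trans ((C i₀).π_apply _).symm))
  obtain ⟨a, ha0, ham, hC⟩ := Groth.Agent.S7336.result A hdim Y π ⟨U, hU, inferInstance⟩ hni
  let Z : Y.IdealSheafData := (sheafOf (Ideal.span {a})).comap π
  have hZid : ∀ W : Y.affineOpens, Z.ideal W = Ideal.span {phi π W.1 a} := fun W => by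
    rw [Groth.BlowUpBasics.ideal_comap_sheafOf, Ideal.map_span, Set.image_singleton]
  have hnot : ∀ (W : Y.affineOpens) (hW : genericPoint Y ∈ W.1),
      phi π W.1 a ∉ (W.2.primeIdealOf ⟨_, hW⟩).asIdeal := fun W hW h => by
    have h1 : a ∈ (W.2.primeIdealOf ⟨_, hW⟩).asIdeal.comap (phi π W.1) := h
    rw [← asIdeal_apply, hgen] at h1
    exact ha0 (Ideal.mem_bot.1 h1)
  have hZeff : BlowUp.IsEffCartierIdeal Z := fun y => by
    obtain ⟨W, hyW, -⟩ := Groth.Divisors.exists_affine_le y ⊤ trivial
    haveI : Nonempty W.1 := ⟨⟨y, hyW⟩⟩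
    refine ⟨W, hyW, phi π W.1 a, mem_nonZeroDivisors_of_ne_zero fun h0 => ?_, hZid W⟩
    exact hnot W ((genericPoint_specializes y).mem_open W.1.2 hyW) (h0 ▸ Ideal.zero_mem _)
  have hZmax : ∀ ζ : Y, (∀ y : Y, y ⤳ ζ → y = ζ) → ζ ∉ Z.support := by
    intro ζ hζ
    rw [← hζ _ (genericPoint_specializes ζ)]
    obtain ⟨W, hyW, -⟩ := Groth.Divisors.exists_affine_le (genericPoint Y) ⊤ trivial
    rw [Groth.DivisorLength.mem_support_iff_le hyW, hZid, Ideal.span_singleton_le_iff_mem]
    exact hnot W hyW
  have hZfib : ∀ y : Y, π y = IsLocalRing.closedPoint A → y ∈ Z.support := by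
    intro y hy
    obtain ⟨W, hyW, -⟩ := Groth.Divisors.exists_affine_le y ⊤ trivial
    rw [Groth.DivisorLength.mem_support_iff_le hyW, hZid, Ideal.span_singleton_le_iff_mem]
    show a ∈ (W.2.primeIdealOf ⟨y, hyW⟩).asIdeal.comap (phi π W.1)
    rw [← asIdeal_apply, hy]
    exact ham
  let D : Fin r → Y.IdealSheafData := fun i => (C i).ι.ker
  have hD : ∀ i, BlowUp.IsEffCartierIdeal (D i) := fun i => isEffCartier hreg hdim hU (C i)
  have hη : ∀ i, eta (D i) = (C i).η := fun i => (C i).eta_ker
  choose Wi hWi ti ni htI hdivi hmemi using fun i =>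
    Groth.DivisorLength.exists_order Z (D i) (hD i) hZmax
  have hpos : ∀ i, 0 < ni i := fun i => by
    refine Nat.pos_of_ne_zero fun h0 => ?_
    obtain ⟨s, hs, hsZ⟩ := hmemi i
    rw [h0, pow_zero, mul_one] at hsZ
    have h1 := (Groth.DivisorLength.mem_support_iff_le (hWi i)).1
      (hZfib _ (by rw [hη]; exact (C i).π_apply _)) hsZ
    rw [Groth.DivisorLength.primeIdealOf_eta (D i) (hWi i), htI i] at h1
    exact hs h1
  have hinj : ∀ i ∈ (Finset.univ : Finset (Fin r)), ∀ j ∈ (Finset.univ : Finset (Fin r)),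
      eta (D i) = eta (D j) → i = j := fun i _ j _ h =>
    hsp i j (specializes_of_eq (by rwa [hη, hη] at h))
  let P : Y.IdealSheafData := ∏ i, D i ^ ni i
  have hle : Z ≤ P := Groth.DivisorLength.le_prod Z D hD ni Finset.univ hinj
    fun i _ => ⟨Wi i, hWi i, ti i, htI i, hdivi i⟩
  have hP : BlowUp.IsEffCartierIdeal P := (δ_idealMod_prod (C i₀) D hD ni Finset.univ).1
  obtain ⟨L, hL⟩ := Groth.BlowUpBasics.exists_eq_mul_of_le hP hle
  have hLeff : BlowUp.IsEffCartierIdeal L :=
    Groth.Divisors.isEffCartierIdeal_left_of_mul (J := P) (hL ▸ hZeff)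
  have hoff : ∀ j, ∀ k ∈ (Finset.univ : Finset (Fin r)), k ≠ j → eta (D j) ∉ (D k).support :=
    fun j k _ hkj => by rw [hη]; exact eta_notMem_of_ne hsp (Ne.symm hkj)
  have hηL : ∀ j, (C j).η ∉ L.support := by
    intro j hm
    obtain ⟨V, hηV, hV⟩ := Groth.DivisorLength.exists_eq_near Z D hD ni Finset.univ hle
      (Finset.mem_univ j) (hoff j) (Wi j) (hWi j) (ti j) (htI j) (hmemi j)
    rw [hη] at hηV
    obtain ⟨W, hηW, hWV, p, hp, hPW⟩ := Groth.Divisors.exists_generator hP (C j).η V.1 hηV
    have hW : P.ideal W = Z.ideal W := by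
      rw [← P.map_ideal (U := W) (V := V) hWV, ← Z.map_ideal (U := W) (V := V) hWV]
      exact congrArg (Ideal.map _) hV
    rw [hL, Scheme.IdealSheafData.ideal_mul, Pi.mul_apply, hPW] at hW
    obtain ⟨l, hl, hlp⟩ := Ideal.mem_mul_span_singleton.1
      (hW ▸ Ideal.mem_span_singleton_self p)
    have h1 : l = 1 := (mul_cancel_right_mem_nonZeroDivisors hp.mem_nonZeroDivisors).1
      (hlp.trans (one_mul p).symm)
    have h2 := (Groth.DivisorLength.mem_support_iff_le hηW).1 hm (h1 ▸ hl)
    exact (W.2.primeIdealOf ⟨_, hηW⟩).2.ne_top ((Ideal.eq_top_iff_one _).2 h2)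
  refine ⟨ni, hpos, fun j => ?_⟩
  -- a point of the curve on the other part of the divisor
  obtain ⟨z, hzL⟩ : ∃ z : (C j).E, (C j).ι z ∈ L.support := by
    let S : Set Y := π.base ⁻¹' {IsLocalRing.closedPoint A}
    let ζ : Fin r → S := fun i => ⟨(C i).η, (C i).π_apply _⟩
    haveI : QuasiSober S :=
      ((IsLocalRing.isClosed_singleton_closedPoint A).preimage
        π.continuous).isClosedEmbedding_subtypeVal.quasiSober
    have hcomp : ∀ i, closure {ζ i} ∈ irreducibleComponents S := by
      intro i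
      refine ⟨isIrreducible_singleton.closure, fun T hT hTle => ?_⟩
      obtain ⟨w, hw⟩ := QuasiSober.sober hT.closure isClosed_closure
      have h1 : w ⤳ ζ i := hw.specializes (subset_closure (hTle (subset_closure rfl)))
      obtain ⟨k, hk⟩ := hcov w.1 w.2
      have h2 : (C k).η ⤳ w.1 := (C k).isGenericPoint_η.specializes_iff_mem.2 hk
      obtain rfl := hsp k i (h2.trans ((subtype_specializes_iff _ _).1 h1))
      have h3 : w = ζ k := Subtype.ext (((subtype_specializes_iff _ _).1 h1).antisymm h2).eq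
      rw [← h3, hw.def]
      exact subset_closure
    obtain ⟨x, ξ, hξx, hxC, hξC, -, hxo, g, q, hgm, hgq, hgu⟩ := hC _ (hcomp j)
    have hξ : (ξ : Y) = (C j).η := congrArg Subtype.val (hξC.eq isGenericPoint_closure)
    have hjx : (C j).η ⤳ x.1 := hξ ▸ hξx
    obtain ⟨z, hz⟩ := (C j).isGenericPoint_η.specializes_iff_mem.1 hjx
    refine ⟨z, by_contra fun hzL => ?_⟩
    rw [hz] at hzL
    have hO : ∀ k, k ≠ j → (x : Y) ∉ (D k).support := fun k hk h => by
      refine hxo _ (hcomp k) (fun he => hk (hsp k j (specializes_of_eq ?_))) ?_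
      · have := (isGenericPoint_closure (x := ζ k)).eq
          (show IsGenericPoint (ζ j) (closure {ζ k}) by rw [he]; exact isGenericPoint_closure)
        exact congrArg Subtype.val this
      · exact specializes_iff_mem_closure.1
          ((subtype_specializes_iff _ _).2 (((C k).mem_support_ker_iff _).1 h))
    let O : Y.Opens := ⟨(L.support : Set Y)ᶜ ∩ (⋃ k ∈ (Finset.univ.erase j), ((D k).support : Set Y))ᶜ,
      L.support.isClosed.isOpen_compl.inter (Set.Finite.isClosed_biUnion
        (Finset.univ.erase j).finite_toSet fun k _ => (D k).support.isClosed).isOpen_compl⟩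
    have hxO : x.1 ∈ O := ⟨hzL, fun h => by
      obtain ⟨k, hk, hk'⟩ := Set.mem_iUnion₂.1 h
      exact hO k (Finset.mem_erase.1 hk).1 hk'⟩
    obtain ⟨W, hxW, hWO, t, htn, ht⟩ := Groth.Divisors.exists_generator (hD j) x.1 O hxO
    have hηW : (C j).η ∈ W.1 := hjx.mem_open W.1.2 hxW
    have hηW' : eta (D j) ∈ W.1 := by rw [hη]; exact hηW
    have hZW : Ideal.span {phi π W.1 a} = Ideal.span {t ^ ni j} := by
      rw [← hZid, hL, Scheme.IdealSheafData.ideal_mul, Pi.mul_apply,
        ideal_eq_top L W (fun y hy => (hWO hy).1), Ideal.top_mul,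
        Groth.DivisorLength.ideal_prod, Finset.prod_eq_single_of_mem j (Finset.mem_univ j),
        show (D j).ideal W = Ideal.span {t} from ht, Ideal.span_singleton_pow]
      intro k _ hkj
      rw [ideal_eq_top (D k) W (fun y hy hyk => (hWO hy).2 (Set.mem_iUnion₂.2
        ⟨k, Finset.mem_erase.2 ⟨hkj, Finset.mem_univ k⟩, hyk⟩)), ← Ideal.one_eq_top, one_pow]
    let γ := Y.presheaf.germ W.1 x.1 hxW
    haveI : IsDomain (Y.presheaf.stalk x.1) :=
      (haveI := hreg x.1; Groth.Agent.S2821.result (Y.presheaf.stalk x.1)).1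
    have hdvd : g ∣ γ t ^ ni j := by
      have h1 := congrArg (Ideal.map γ.hom) hZW
      rw [Ideal.map_span, Ideal.map_span, Set.image_singleton, Set.image_singleton,
        Ideal.span_singleton_eq_span_singleton] at h1
      have h2 : γ (phi π W.1 a) = Y.presheaf.germ ⊤ x.1 trivial (Coh.toGlobal π a) :=
        TopCat.Presheaf.germ_res_apply Y.presheaf (homOfLE (le_top : W.1 ≤ ⊤)) x.1 hxW _
      have h3 : g ∣ γ (phi π W.1 a) := ⟨q, h2.trans hgq⟩
      have h4 := h3.trans h1.dvd
      rwa [show γ.hom (t ^ ni j) = γ t ^ ni j from map_pow γ.hom t _] at h4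
    have hηt : ¬ IsUnit (Y.presheaf.germ W.1 (C j).η hηW t) := by
      rw [Groth.DivisorLength.isUnit_germ_iff hηW, not_not]
      have h := Groth.DivisorLength.primeIdealOf_eta (D j) hηW'
      simp only [hη] at h
      rw [h, show (D j).ideal W = Ideal.span {t} from ht]
      exact Ideal.mem_span_singleton_self t
    have hnd : ¬ γ t ∣ g := by
      intro hd
      have hd' := map_dvd (Y.presheaf.stalkSpecializes hξx).hom hd
      rw [show (Y.presheaf.stalkSpecializes hξx).hom (γ t) =
          Y.presheaf.germ W.1 ξ.1 (hξx.mem_open W.1.2 hxW) t from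
        TopCat.Presheaf.germ_stalkSpecializes_apply _ hxW hξx t] at hd'
      have hu := isUnit_of_dvd_unit hd' hgu
      clear hgu hd'
      revert hu
      generalize hξx.mem_open W.1.2 hxW = hm
      revert hm
      rw [hξ]
      exact fun hm => hηt
    have hprime : Prime (γ t) := by
      letI := Y.presheaf.algebra_section_stalk ⟨x.1, hxW⟩
      haveI := W.2.isLocalization_stalk ⟨x.1, hxW⟩
      have hxD : x.1 ∈ (D j).support := ((C j).mem_support_ker_iff _).2 hjx
      have hpr : (Ideal.span {t}).IsPrime := by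
        rw [← show (D j).ideal W = Ideal.span {t} from ht]
        exact Groth.DivisorLength.isPrime_ideal (D j) hηW'
      have hdisj : Disjoint ((W.2.primeIdealOf ⟨x.1, hxW⟩).asIdeal.primeCompl : Set Γ(Y, W.1))
          (Ideal.span {t} : Set Γ(Y, W.1)) := by
        rw [Set.disjoint_left]
        intro b hb hbt
        exact hb ((Groth.DivisorLength.mem_support_iff_le hxW).1 hxD
          ((show (D j).ideal W = Ideal.span {t} from ht) ▸ hbt))
      have h := IsLocalization.isPrime_of_isPrime_disjoint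
        (W.2.primeIdealOf ⟨x.1, hxW⟩).asIdeal.primeCompl (Y.presheaf.stalk x.1) _ hpr hdisj
      rw [Ideal.map_span, Set.image_singleton] at h
      exact (Ideal.span_singleton_prime (nonZeroDivisors.ne_zero (htn x.1 hxW))).1 h
    exact hgm (isUnit_of_dvd_pow hprime hnd (ni j) hdvd)
  have h := (δ_idealMod_nonpos (C j) hLeff (hηL j)).2 z hzL
  have hZ0 : δ (C j) (ClSub.idealMod Z) = 0 := by
    obtain ⟨e⟩ := nonempty_idealMod_span (A := A) ha0
    obtain ⟨p⟩ := Groth.PicAux.pullback_idealMod π (isEffCartier_span (A := A) ha0) hZeff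
    exact (δ_congr (C j) (p.symm ≪≫ (Scheme.Modules.pullback π).mapIso e ≪≫
      (Groth.PicAux.pullback_structure_iso π).some)).trans (δ_structure (C j))
  rw [hL, δ_idealMod_mul (C j) hLeff hP, (δ_idealMod_prod (C j) D hD ni Finset.univ).2] at hZ0
  linarith

end Groth.ResolveSurf.ExcCurves
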