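import Groth.Agent.CohC3.FormalFunctions
import Groth.Agent.CohC3.ProperHelpers
import Groth.Agent.CohC3.Smul
import Groth.Agent.ModelsGraphs.GenusFormula
import Groth.Agent.Limits.FibreVanishingGeneral
import Groth.Agent.PicAux.EffCartierLine
import Groth.Agent.OmegaSheaf.IdealMod
import Groth.Agent.CohBase.AffinePush
import Groth.Agent.Divisors.IdealComap
import Groth.Agent.RefRank.EffCartierLocal
import Groth.Agent.ArSurfBasics.Chains
import Groth.Agent.ArSurfBasics.PointPrincipalization
import Groth.Agent.S2821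

/-!
# Exceptional divisors as test schemes for the first cohomology of a modification

`H¹(O)` maps onto `H¹` of closed subschemes, and vanishing on sufficiently thick exceptional
divisors forces the formal completion of `H¹(O)` to vanish.
-/

set_option autoImplicit false
set_option backward.isDefEq.respectTransparency.types false
set_option linter.style.haveILetI false

universe u

open CategoryTheory CategoryTheory.Limits AlgebraicGeometry TopologicalSpace

namespace Groth.ResolveSurf.ExcTest

section Push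

variable {W Y : Scheme.{u}} (i : W ⟶ Y) [IsClosedImmersion i]

/-- `H¹` of a closed subscheme, on the ambient scheme. -/
theorem subsingleton_iff_quotMod (n : ℕ) :
    Subsingleton (Coh.HH Y (ClSub.quotMod i.ker) n) ↔
      Subsingleton (Coh.HH W (Coh.structureModule W) n) := by
  obtain ⟨e⟩ := Groth.ModelsGraphs.GenusFormula.nonempty_quotMod_ker i
  haveI : (Coh.structureModule W).IsQuasicoherent := Groth.QCohMod.isQCoh_unit W
  obtain ⟨a⟩ := Groth.CohBase.nonempty_equiv_H_push i (Coh.structureModule W) n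
  let g := ((Sheaf.cohomologyFunctor (Opens.grothendieckTopology Y) n).mapIso
    ((SheafOfModules.toSheaf Y.ringCatSheaf).mapIso e)).addCommGroupIsoToAddEquiv
  exact (g.trans a).toEquiv.subsingleton_congr

end Push

section Base

variable {B : Type u} [CommRing B] {U : Scheme.{u}} [U.Over (Spec (CommRingCat.of B))]
  [IsProper (U ↘ Spec (CommRingCat.of B))]

/-- `H¹(O)` maps onto `H¹` of a closed subscheme when the fibres are at most one-dimensional. -/
theorem subsingleton_quotMod
    (hd : ∀ P, topologicalKrullDim ↥((U ↘ Spec (CommRingCat.of B)).fiber P) ≤ ((1 : ℕ) : WithBot ℕ∞))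
    (h1 : Subsingleton (Coh.HH U (Coh.structureModule U) 1)) (J : U.IdealSheafData) :
    Subsingleton (Coh.HH U (ClSub.quotMod J) 1) := by
  haveI : (Coh.structureModule J.subscheme).IsQuasicoherent := Groth.QCohMod.isQCoh_unit _
  haveI : (ClSub.idealMod J).IsQuasicoherent := inferInstance
  haveI h2 : Subsingleton (Coh.HH U (ClSub.idealMod J) 2) :=
    Groth.Limits.FibreVanishing.subsingleton_HH_of_dim_fiber_le (A := B) 1 hd _ 2 one_lt_two
  refine subsingleton_of_forall_eq 0 fun x => ?_
  obtain ⟨y, hy⟩ := Groth.CohC3.exists_of_hdelta_eq_zero (A := B)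
    (Groth.PicAux.shortExact_idealMod J) x (@Subsingleton.elim _ h2 _ _)
  rw [← hy, @Subsingleton.elim _ h1 y 0, map_zero]

/-- The quotient by `p^m` factors through a subscheme inside `p^m O`. -/
theorem hmap_modPowπ_eq_zero (𝔭 : Ideal B) (m : ℕ) (J : U.IdealSheafData)
    (hJ : ∀ V : U.affineOpens, J.ideal V ≤ (𝔭 ^ m).map (Groth.CohC3.baseApp (A := B) U V.1))
    (h1 : Subsingleton (Coh.HH U (ClSub.quotMod J) 1)) (x : Coh.HH U (Coh.structureModule U) 1) :
    Groth.CohC3.hmap B (Formal.modPowπ 𝔭 m (Coh.structureModule U)) 1 x = 0 := by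
  have hS := Groth.PicAux.shortExact_idealMod J
  set π := Formal.modPowπ 𝔭 m (Coh.structureModule U)
  have hker : ClSub.idealModι J ≫ π = 0 := by
    refine Groth.CohC3.hom_eq_zero_of_cover _ fun z => ?_
    obtain ⟨V, hV, hz⟩ := Groth.QCohMod.exists_affine_mem z
    refine ⟨V, hV, hz, fun k => ?_⟩
    have hk : OmegaSh.idealSect J V k ∈ J.ideal ⟨V, hV⟩ := Groth.OmegaSheaf.idealSect_mem J ⟨V, hV⟩ k
    have key : ∀ r ∈ (𝔭 ^ m).map (Groth.CohC3.baseApp (A := B) U V),
        π.app V (show Γ(Coh.structureModule U, V) from r) = 0 := by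
      intro r hr
      induction hr using Submodule.span_induction with
      | mem r hr =>
        obtain ⟨a, ha, rfl⟩ := hr
        have h0 : Formal.smulMod B (Coh.structureModule U) a ≫ π = 0 :=
          (Groth.CohC3.mem_annHom _ a).1 ((Groth.CohC3.isQuot_modPowπ 𝔭 m _).le_ann ha)
        have h1 := congr(($h0).app V (Groth.PicAux.oneSec U V))
        rw [← Groth.CohC3.app_comp_apply, Groth.CohC3.smulMod_app] at h1
        refine Eq.trans ?_ h1
        congr 1
        exact (Groth.PicAux.eq_toFun_smul_oneSec _)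
      | zero => exact map_zero _
      | add r s _ _ hr hs => exact (map_add _ _ _).trans (by rw [hr, hs, add_zero])
      | smul c r _ hr =>
        refine (Scheme.Modules.Hom.app_smul π c (show Γ(Coh.structureModule U, V) from r)).trans ?_
        rw [hr, smul_zero]
    exact key _ (hJ ⟨V, hV⟩ hk)
  haveI := hS.epi_g
  rw [← hS.exact.g_desc π hker, ← Groth.CohC3.hmap_comp,
    @Subsingleton.elim _ h1 (Groth.CohC3.hmap B _ 1 x) 0, map_zero]

/-- Formal functions: vanishing on thick subschemes kills `H¹(O)` near `p`. -/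
theorem exists_smul_eq_zero [IsNoetherianRing B] (𝔭 : Ideal B) [𝔭.IsPrime]
    (h : ∀ m : ℕ, ∃ J : U.IdealSheafData,
      (∀ V : U.affineOpens, J.ideal V ≤ (𝔭 ^ m).map (Groth.CohC3.baseApp (A := B) U V.1)) ∧
        Subsingleton (Coh.HH U (ClSub.quotMod J) 1)) :
    ∃ s : B, s ∉ 𝔭 ∧ ∀ x : Coh.HH U (Coh.structureModule U) 1, s • x = 0 := by
  haveI : IsLocallyNoetherian U := LocallyOfFiniteType.isLocallyNoetherian (U ↘ Spec (CommRingCat.of B))
  haveI : CompactSpace U := QuasiCompact.compactSpace_of_compactSpace (U ↘ Spec (CommRingCat.of B))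
  haveI : IsNoetherian U := {}
  have hO : Coh.IsCoh (Coh.structureModule U) :=
    Groth.EulerDeg.isCoh_of_isInvertible (Groth.EulerDeg.isInvertible_structureModule U)
  have hfin : ∀ p, Module.Finite B (Coh.HH U (Coh.structureModule U) p) := fun p =>
    Groth.CohC3.finite_HH_of_proper B U hO p
  obtain ⟨m, -, hker⟩ := (Groth.CohC3.proBij 𝔭 hO hfin 1).ker 1
  have hle : (⊤ : Submodule B (Coh.HH U (Coh.structureModule U) 1)) ≤ 𝔭 • ⊤ := fun x _ => by
    obtain ⟨J, hJ, hJ1⟩ := h m
    simpa using hker x (hmap_modPowπ_eq_zero 𝔭 m J hJ hJ1 x)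
  haveI := hfin 1
  obtain ⟨r, hr, hr0⟩ := Submodule.exists_sub_one_mem_and_smul_eq_zero_of_fg_of_le_smul 𝔭 ⊤
    Module.Finite.fg_top hle
  refine ⟨r, fun hrp => ‹𝔭.IsPrime›.ne_top ((Ideal.eq_top_iff_one _).2 ?_), fun x => hr0 x trivial⟩
  simpa using sub_mem hrp hr

end Base

section Divisor

variable {Y : Scheme.{u}}

/-- A point with a proper specialization on an integral surface has codimension at most one. -/
theorem dim_stalk_le_one (hdim : topologicalKrullDim Y ≤ 2) {ξ z : Y} (h : ξ ⤳ z) (hne : ξ ≠ z) :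
    ringKrullDim (Y.presheaf.stalk ξ) ≤ 1 := by
  rw [ringKrullDim_stalk_eq_coheight]
  by_contra hlt
  have h2 : (1 : ℕ∞) < Order.coheight ξ := by
    rcases lt_or_ge (1 : ℕ∞) (Order.coheight ξ) with h' | h'
    · exact h'
    · exact absurd (WithBot.coe_le_coe.2 h') hlt
  obtain ⟨s, hs, hlen⟩ := Order.exists_series_of_le_coheight ξ (n := 2) (Order.add_one_le_of_lt h2)
  have h01 : s ⟨0, by omega⟩ < s ⟨1, by omega⟩ := s.strictMono (by simp [Fin.lt_def])
  have h12 : s ⟨1, by omega⟩ < s ⟨2, by omega⟩ := s.strictMono (by simp [Fin.lt_def])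
  have e0 : s ⟨0, by omega⟩ = ξ := hs
  rw [e0] at h01
  have := Groth.ArSurfBasics.three_le_topologicalKrullDim
    (Scheme.le_iff_specializes.1 h12.le) h12.ne' (Scheme.le_iff_specializes.1 h01.le) h01.ne' h hne
  exact absurd (this.trans hdim) (by decide)

/-- Some power of a product of the components lies in a given ideal with the same support. -/
theorem exists_pow_le [IsLocallyNoetherian Y] [CompactSpace Y] (I K : Y.IdealSheafData)
    (h : (K.support : Set Y) ⊆ I.support) : ∃ N : ℕ, I ^ N ≤ K := by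
  have hIK : I ≤ K.radical := by
    rw [← Scheme.IdealSheafData.vanishingIdeal_support,
      ← Scheme.IdealSheafData.le_support_iff_le_vanishingIdeal]
    exact h
  obtain ⟨S, hS⟩ := CompactSpace.elim_nhds_subcover
    (fun y : Y => ((Groth.Divisors.exists_affine_le y ⊤ trivial).choose.1 : Set Y))
    (fun y => (Groth.Divisors.exists_affine_le y ⊤ trivial).choose.1.2.mem_nhds
      (Groth.Divisors.exists_affine_le y ⊤ trivial).choose_spec.1)
  let W : Y → Y.affineOpens := fun y => (Groth.Divisors.exists_affine_le y ⊤ trivial).choose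
  have hN : ∀ y, ∃ N, (I.ideal (W y)) ^ N ≤ K.ideal (W y) := fun y => by
    haveI := IsLocallyNoetherian.component_noetherian (W y)
    exact Ideal.exists_pow_le_of_le_radical_of_fg (hIK (W y)) (IsNoetherian.noetherian _)
  choose N hN using hN
  refine ⟨S.sup N, Scheme.IdealSheafData.le_of_iSup_eq_top (fun y : S => W y) ?_ fun y => ?_⟩
  · refine eq_top_iff.2 fun z _ => ?_
    obtain ⟨y, hy, hz⟩ := Set.mem_iUnion₂.1 (hS.ge (Set.mem_univ z))
    exact Opens.mem_iSup.2 ⟨⟨y, hy⟩, hz⟩
  · rw [Scheme.IdealSheafData.ideal_pow, Pi.pow_apply]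
    exact (Ideal.pow_le_pow_right (Finset.le_sup y.2)).trans (hN y)

/-- An effective Cartier divisor with a given closed support of pure codimension one. -/
theorem exists_divisor [IsLocallyNoetherian Y] [CompactSpace Y]
    (hreg : ∀ y : Y, IsRegularLocalRing (Y.presheaf.stalk y)) (F : Set Y) (hF : IsClosed F)
    (h1 : ∀ ξ ∈ F, (∀ z ∈ F, z ⤳ ξ → z = ξ) → ringKrullDim (Y.presheaf.stalk ξ) = 1) :
    ∃ I : Y.IdealSheafData, BlowUp.IsEffCartierIdeal I ∧ (I.support : Set Y) = F := by
  classical
  haveI : IsNoetherian Y := {}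
  obtain ⟨T, hTf, hTc, hTi, hFT⟩ := NoetherianSpace.exists_finite_set_isClosed_irreducible hF
  have hgen : ∀ t ∈ T, ∃ ξ, IsGenericPoint ξ t := fun t ht => QuasiSober.sober (hTi t ht) (hTc t ht)
  choose ξ hξ using hgen
  let M : Finset (Set Y) := hTf.toFinset.filter fun t => ∀ t' ∈ T, t ⊆ t' → t' ⊆ t
  have hmem : ∀ z ∈ F, ∃ t ∈ M, z ∈ t := by
    intro z hz
    rw [hFT] at hz
    obtain ⟨t, ht, hzt⟩ := hz
    obtain ⟨t', htt', ht'm⟩ := hTf.toFinset.exists_le_maximal (hTf.mem_toFinset.2 ht)
    refine ⟨t', Finset.mem_filter.2 ⟨ht'm.1, fun t'' h'' hle => ?_⟩, htt' hzt⟩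
    exact ht'm.2 (hTf.mem_toFinset.2 h'') hle
  have hsub : ∀ t ∈ T, t ⊆ F := fun t ht => hFT ▸ Set.subset_sUnion_of_mem ht
  have hcar : ∀ t ∈ M, ∃ I : Y.IdealSheafData, BlowUp.IsEffCartierIdeal I ∧ (I.support : Set Y) = t := by
    intro t ht
    obtain ⟨htT', hmax⟩ := Finset.mem_filter.1 ht
    have htT := hTf.mem_toFinset.1 htT'
    let C : Closeds Y := ⟨t, hTc t htT⟩
    let I := Scheme.IdealSheafData.vanishingIdeal C
    haveI : IsReduced I.subscheme := Groth.PropsBasic2.isReduced_vanishingIdeal_subscheme _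
    have hr : Set.range I.subschemeι = t := Groth.PropsBasic2.range_vanishingIdeal_subschemeι _
    haveI : IrreducibleSpace I.subscheme := by
      obtain ⟨w, hw⟩ : ξ t htT ∈ Set.range I.subschemeι := hr.symm ▸ (hξ t htT).mem
      rw [irreducibleSpace_def]
      show IsIrreducible (Set.univ : Set I.subscheme)
      rw [← (Set.eq_univ_of_forall fun v => ?_ : closure {w} = Set.univ)]
      · exact isIrreducible_singleton.closure
      · rw [← specializes_iff_mem_closure, ← I.subschemeι.isClosedEmbedding.isInducing.specializes_iff, hw]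
        exact (hξ t htT).specializes (hr ▸ ⟨v, rfl⟩)
    haveI : IsIntegral I.subscheme := isIntegral_of_irreducibleSpace_of_isReduced _
    refine ⟨I, Groth.RefRank.EffCartierLocal.isEffCartierIdeal_of_isIntegral I ?_ fun x _ => ?_, ?_⟩
    · have hη : I.subschemeι (genericPoint I.subscheme) = ξ t htT := by
        have h := (genericPoint_spec I.subscheme).image I.subschemeι.continuous
        rw [Set.image_univ, hr, (hTc t htT).closure_eq] at h
        exact h.eq (hξ t htT)
      rw [hη]
      refine h1 _ (hsub t htT (hξ t htT).mem) fun z hz hzξ => ?_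
      obtain ⟨t', ht', hzt'⟩ := hmem z hz
      have ht'T := hTf.mem_toFinset.1 (Finset.mem_filter.1 ht').1
      have hle : t ⊆ t' := by
        rw [← (hξ t htT).def]
        exact closure_minimal (Set.singleton_subset_iff.2 (hzξ.mem_closed (hTc t' ht'T) hzt')) (hTc t' ht'T)
      exact (hzξ.antisymm ((hξ t htT).specializes (hmax t' ht'T hle hzt'))).eq
    · haveI := hreg x
      exact Groth.Agent.S2821.result _
    · rw [← Scheme.IdealSheafData.range_subschemeι, hr]
  choose! D hD hDs using hcar
  refine ⟨∏ t ∈ M, D t, ?_, ?_⟩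
  · have : ∀ M' ⊆ M, BlowUp.IsEffCartierIdeal (∏ t ∈ M', D t) := by
      intro M'
      induction M' using Finset.induction_on with
      | empty => exact fun _ => Groth.Divisors.isEffCartierIdeal_top
      | insert a s ha ih =>
        intro hs
        rw [Finset.prod_insert ha]
        exact Groth.Divisors.isEffCartierIdeal_mul (hD a (hs (Finset.mem_insert_self a s)))
          (ih fun x hx => hs (Finset.mem_insert_of_mem hx))
    exact this M subset_rfl
  · have : ∀ M' ⊆ M, ((∏ t ∈ M', D t).support : Set Y) = ⋃ t ∈ M', t := by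
      intro M'
      induction M' using Finset.induction_on with
      | empty => intro _; simp
      | insert a s ha ih =>
        intro hs
        rw [Finset.prod_insert ha, Scheme.IdealSheafData.support_mul, Finset.set_biUnion_insert,
          Closeds.coe_sup, hDs a (hs (Finset.mem_insert_self a s)), ih fun x hx => hs (Finset.mem_insert_of_mem hx)]
    rw [this M subset_rfl]
    refine Set.Subset.antisymm (Set.iUnion₂_subset fun t ht =>
      hsub t (hTf.mem_toFinset.1 (Finset.mem_filter.1 ht).1)) fun z hz => ?_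
    obtain ⟨t, ht, hzt⟩ := hmem z hz
    exact Set.mem_iUnion₂.2 ⟨t, ht, hzt⟩

end Divisor

end Groth.ResolveSurf.ExcTest
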