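import Groth.Agent.ResolveSurf.PunctualModification
import Groth.Agent.ResolveSurf.ModificationVanish

/-!
# Lifting a modification along a finite extension of normal domains
-/

set_option autoImplicit false
set_option backward.isDefEq.respectTransparency.types false
set_option linter.style.haveILetI false

universe u

open CategoryTheory Limits AlgebraicGeometry TopologicalSpace Opposite

namespace Groth.ResolveSurf.FiniteExtensionLift

open Groth.BlowUpBasics

/-- The spectrum of an integrally closed domain is normal. -/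
theorem isNormal_spec (B : Type u) [CommRing B] [IsDomain B] [IsIntegrallyClosed B] :
    Pi1.IsNormalScheme (Spec (CommRingCat.of B)) := fun z => by
  letI : Algebra B ((Spec (CommRingCat.of B)).presheaf.stalk z) := StructureSheaf.stalkAlgebra B z
  haveI : IsLocalization.AtPrime ((Spec (CommRingCat.of B)).presheaf.stalk z) z.asIdeal :=
    StructureSheaf.IsLocalization.to_stalk B z
  exact ⟨inferInstance, isIntegrallyClosed_of_isLocalization _ z.asIdeal.primeCompl
    z.asIdeal.primeCompl_le_nonZeroDivisors⟩

variable {A B : Type u} [CommRing A] [CommRing B] [IsDomain A] [IsDomain B] [IsNoetherianRing B]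
  [IsIntegrallyClosed B] [Algebra A B] [Module.Finite A B]

omit [IsNoetherianRing B] in
/-- A modification of `A` lifts to a normal modification of a finite normal extension, finite over it. -/
theorem exists_lift (hinj : Function.Injective (algebraMap A B)) (hN : CAlg.IsNagata B)
    {Y : Scheme.{u}} (f : Y ⟶ Spec (CommRingCat.of A)) [IsProper f] [IsIntegral Y]
    (U : (Spec (CommRingCat.of A)).Opens) (hU : (U : Set (Spec (CommRingCat.of A))).Nonempty) [IsIso (f ∣_ U)] :
    ∃ (Y' : Scheme.{u}) (π : Y' ⟶ Y) (ρ : Y' ⟶ Spec (CommRingCat.of B)) (_ : IsIntegral Y'),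
      IsFinite π ∧ Surjective π ∧ IsProper ρ ∧ Pi1.IsNormalScheme Y' ∧
      π ≫ f = ρ ≫ Spec.map (CommRingCat.ofHom (algebraMap A B)) ∧
      ∃ V : (Spec (CommRingCat.of B)).Opens, (V : Set (Spec (CommRingCat.of B))).Nonempty ∧ IsIso (ρ ∣_ V) := by
  let s : Spec (CommRingCat.of B) ⟶ Spec (CommRingCat.of A) := Spec.map (CommRingCat.ofHom (algebraMap A B))
  haveI : IsFinite s := (IsFinite.SpecMap_iff _).2 ((RingHom.finite_algebraMap (A := A) (B := B)).2 inferInstance)
  let P : Scheme.{u} := pullback f s
  let fst : P ⟶ Y := pullback.fst f s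
  let q : P ⟶ Spec (CommRingCat.of B) := pullback.snd f s
  haveI : IsFinite fst := MorphismProperty.pullback_fst _ _ ‹IsFinite s›
  haveI : IsProper q := MorphismProperty.pullback_snd _ _ ‹IsProper f›
  let V : (Spec (CommRingCat.of B)).Opens := s ⁻¹ᵁ U
  have hsη : s (genericPoint (Spec (CommRingCat.of B))) = genericPoint (Spec (CommRingCat.of A)) := by
    rw [genericPoint_eq_bot_of_affine, genericPoint_eq_bot_of_affine]
    refine PrimeSpectrum.ext ?_
    change (⊥ : Ideal B).comap (algebraMap A B) = ⊥
    exact (RingHom.injective_iff_ker_eq_bot _).1 hinj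
  have hηU : genericPoint (Spec (CommRingCat.of A)) ∈ U :=
    ((genericPoint_spec (Spec (CommRingCat.of A))).mem_open_set_iff U.2).2 (by simpa using hU)
  have hηV : genericPoint (Spec (CommRingCat.of B)) ∈ V := show s _ ∈ U from hsη ▸ hηU
  haveI : IsIso (q ∣_ V) := RationalDescend.isIso_restrict_of_isPullback (IsPullback.of_hasPullback f s) U
  obtain ⟨⟨c, hcV⟩, hc⟩ := (q ∣_ V).surjective ⟨_, hηV⟩
  have hqc : q c = genericPoint (Spec (CommRingCat.of B)) := by
    have := congrArg Subtype.val hc
    rwa [morphismRestrict_base_coe] at this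
  have hqst : IsIso (q.stalkMap c) :=
    ((MorphismProperty.isomorphisms CommRingCat).arrow_mk_iso_iff (morphismRestrictStalkMap q V ⟨c, hcV⟩)).1
      (inferInstanceAs (IsIso ((q ∣_ V).stalkMap ⟨c, hcV⟩)))
  haveI : CompactSpace P := QuasiCompact.compactSpace_of_compactSpace q
  haveI : P.IsSeparated := ⟨by rw [← terminal.comp_from q]; infer_instance⟩
  obtain ⟨Y', i, hY', hi, hY'n, hic, hsurj⟩ := Groth.ResolveSurf.Normalization.exists_normalization_point
    (Groth.ResolveSurf.Normalization.isNagata_of_locallyOfFiniteType q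
      (Groth.ResolveSurf.Normalization.isNagata_spec hN)) c
  let π := i ≫ fst
  let ρ := i ≫ q
  have hgen : ρ (genericPoint Y') = genericPoint (Spec (CommRingCat.of B)) := by
    rw [Scheme.Hom.comp_apply, hic, hqc]
  have hbir : IsIso (ρ.stalkMap (genericPoint Y')) := by
    rw [Scheme.Hom.stalkMap_comp]
    have hb' : IsIso (q.stalkMap (i (genericPoint Y'))) := by rw [hic]; exact hqst
    have hi' : IsIso (i.stalkMap (genericPoint Y')) := by
      refine (ConcreteCategory.isIso_iff_bijective _).2 ⟨?_, hsurj⟩
      have hfield : IsField (P.presheaf.stalk (i (genericPoint Y'))) := by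
        rw [hic]
        refine MulEquiv.isField ?_ (asIso (q.stalkMap c)).commRingCatIsoToRingEquiv.toMulEquiv.symm
        rw [hqc]
        exact Field.toIsField (Spec (CommRingCat.of B)).functionField
      letI := hfield.toField
      exact (i.stalkMap (genericPoint Y')).hom.injective
    exact @IsIso.comp_isIso _ _ _ _ _ _ _ hb' hi'
  have hπgen : π (genericPoint Y') = genericPoint Y := by
    have h1 : f (fst c) = genericPoint (Spec (CommRingCat.of A)) := by
      rw [← Scheme.Hom.comp_apply, pullback.condition, Scheme.Hom.comp_apply, hqc, hsη]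
    obtain ⟨hfgen, -⟩ := RationalDescend.birational f U hU
    rw [Scheme.Hom.comp_apply, hic]
    exact congrArg Subtype.val ((f ∣_ U).isEmbedding.injective
      (a₁ := ⟨fst c, show f _ ∈ U from h1 ▸ hηU⟩) (a₂ := ⟨genericPoint Y, show f _ ∈ U from hfgen ▸ hηU⟩)
      (Subtype.ext (by rw [morphismRestrict_base_coe, morphismRestrict_base_coe]; exact h1.trans hfgen.symm)))
  have hπsurj : Surjective π := ⟨fun y => by
    have hcl := π.isClosedMap.isClosed_range
    exact (genericPoint_specializes y).mem_closed hcl ⟨_, hπgen⟩⟩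
  refine ⟨Y', π, ρ, hY', inferInstance, hπsurj, inferInstance, hY'n,
    by simp only [π, ρ, Category.assoc]; exact congrArg (i ≫ ·) pullback.condition, V, ⟨_, hηV⟩, ?_⟩
  haveI : IsAffineHom (ρ ∣_ V) := by
    rw [morphismRestrict_comp]
    have h1 : IsFinite (i ∣_ (q ⁻¹ᵁ V)) := IsZariskiLocalAtTarget.restrict hi _
    exact MorphismProperty.comp_mem @IsAffineHom _ _ h1.toIsAffineHom (inferInstance : IsAffineHom (q ∣_ V))
  exact PunctualModification.isIso_restrict_of_affine ρ (fun x => (isNormal_spec B x).2) hgen hbir V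

end Groth.ResolveSurf.FiniteExtensionLift
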