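import Groth.Agent.ResolveSurf.FiniteExtensionLift
import Groth.Agent.Curves1.Trace.Basic

/-!
# The degree of a finite extension kills `H¹(O)` of modifications, when upstairs is rational
-/

set_option autoImplicit false
set_option backward.isDefEq.respectTransparency.types false
set_option linter.style.haveILetI false

universe u

open CategoryTheory Limits AlgebraicGeometry TopologicalSpace Opposite

namespace Groth.ResolveSurf.FiniteExtensionTrace

/-- `IsRationalSing` is invariant under isomorphisms. -/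
theorem isRationalSing_of_ringEquiv {R S : Type u} [CommRing R] [CommRing S] (e : R ≃+* S)
    (h : Curv2.IsRationalSing R) : Curv2.IsRationalSing S := by
  intro X f hf hX hXn ⟨U, hU, hiso⟩
  let g : Spec (CommRingCat.of S) ⟶ Spec (CommRingCat.of R) := Spec.map e.toCommRingCatIso.hom
  haveI : IsIso g := inferInstanceAs (IsIso (Spec.map e.toCommRingCatIso.hom))
  refine h X (f ≫ g) inferInstance hX hXn ⟨(inv g) ⁻¹ᵁ U, ?_, ?_⟩
  · obtain ⟨z, hz⟩ := hU
    exact ⟨g z, show (inv g) (g z) ∈ U by
      rw [← Scheme.Hom.comp_apply, IsIso.hom_inv_id]; exact hz⟩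
  · have hpre : g ⁻¹ᵁ ((inv g) ⁻¹ᵁ U) = U := by
      rw [← Scheme.Hom.comp_preimage, IsIso.hom_inv_id]; rfl
    rw [morphismRestrict_comp]
    have h1 : IsIso (f ∣_ g ⁻¹ᵁ ((inv g) ⁻¹ᵁ U)) := by rw [hpre]; exact hiso
    exact @IsIso.comp_isIso _ _ _ _ _ _ _ h1 inferInstance

/-- Normal local rings of dimension at most one are rational singularities. -/
theorem isRationalSing_of_dim_le_one (R : Type u) [CommRing R] [IsNoetherianRing R] (hdim : ringKrullDim R ≤ 1) :
    Curv2.IsRationalSing R := by
  intro X f hf hX hXn ⟨U, hU, hiso⟩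
  letI : X.Over (Spec (CommRingCat.of R)) := ⟨f⟩
  haveI : IsProper (X ↘ Spec (CommRingCat.of R)) := hf
  refine Groth.Limits.FibreVanishing.subsingleton_HH_of_dim_fiber_le (A := R) 0 (fun P => ?_) _ 1 zero_lt_one
  refine Groth.ResPropLib.fiber_dim_le f U ((f ⁻¹ᵁ U).2.dense (ModVanish.preimage_nonempty f hU hiso))
    (fun y hy => Groth.ResPropLib.finite_fiber_of_isIso f U hiso y hy) P 0 ?_
  have h := idealHeight_eq_coheight (CommRingCat.of R) P
  have h1 : ((P.asIdeal.height : ℕ∞) : WithBot ℕ∞) ≤ 1 :=
    (Ideal.height_le_ringKrullDim_of_ne_top P.isPrime.ne_top).trans hdim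
  rw [h] at h1
  exact (WithBot.coe_le_coe.1 h1).trans (by simp)

/-- The map from the ring to the function field. -/
noncomputable def toFF {A : Type u} [CommRing A] {Y : Scheme.{u}} [IsIntegral Y]
    (f : Y ⟶ Spec (CommRingCat.of A)) : A →+* Y.functionField :=
  (Y.presheaf.germ ⊤ (genericPoint Y) (Set.mem_univ _)).hom.comp (Coh.toGlobal f)

/-- The function field of a modification is the fraction field. -/
theorem isFractionRing_toFF {A : Type u} [CommRing A] [IsDomain A] {Y : Scheme.{u}} [IsIntegral Y]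
    (f : Y ⟶ Spec (CommRingCat.of A)) (U : (Spec (CommRingCat.of A)).Opens)
    (hU : (U : Set (Spec (CommRingCat.of A))).Nonempty) [IsIso (f ∣_ U)] :
    letI := (toFF f).toAlgebra
    IsFractionRing A Y.functionField := by
  obtain ⟨hgen, hbir⟩ := RationalDescend.birational f U hU
  set z : Spec (CommRingCat.of A) := f (genericPoint Y) with hz
  letI : Algebra A ((Spec (CommRingCat.of A)).presheaf.stalk z) := StructureSheaf.stalkAlgebra A z
  haveI : IsLocalization.AtPrime ((Spec (CommRingCat.of A)).presheaf.stalk z) z.asIdeal :=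
    StructureSheaf.IsLocalization.to_stalk A z
  have hz0 : z.asIdeal.primeCompl = nonZeroDivisors A := by
    have h1 : z.asIdeal = ⊥ := by rw [hgen, genericPoint_eq_bot_of_affine]; rfl
    ext a
    rw [mem_nonZeroDivisors_iff_ne_zero, Ideal.mem_primeCompl_iff, h1, Ideal.mem_bot]
  haveI : IsFractionRing A ((Spec (CommRingCat.of A)).presheaf.stalk z) :=
    (IsLocalization.isLocalization_iff_of_ringEquiv (M := nonZeroDivisors A) (S := (Spec (CommRingCat.of A)).presheaf.stalk z)
      (RingEquiv.refl _)).2 (hz0 ▸ ‹IsLocalization.AtPrime _ z.asIdeal›)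
  let e : (Spec (CommRingCat.of A)).presheaf.stalk z ≃+* Y.functionField :=
    (@asIso _ _ _ _ (f.stalkMap (genericPoint Y)) hbir).commRingCatIsoToRingEquiv
  have he : toFF f = e.toRingHom.comp (algebraMap A ((Spec (CommRingCat.of A)).presheaf.stalk z)) := by
    ext a
    change Y.presheaf.germ ⊤ _ _ (f.appTop ((Scheme.ΓSpecIso (CommRingCat.of A)).inv a)) =
      f.stalkMap (genericPoint Y) (algebraMap A _ a)
    rw [show algebraMap A ((Spec (CommRingCat.of A)).presheaf.stalk z) a =
      (Spec (CommRingCat.of A)).presheaf.germ ⊤ z (Set.mem_univ _) ((Scheme.ΓSpecIso (CommRingCat.of A)).inv a) from rfl]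
    exact (Scheme.Hom.germ_stalkMap_apply f ⊤ (genericPoint Y) (Set.mem_univ _) _).symm
  letI := (toFF f).toAlgebra
  let e' : (Spec (CommRingCat.of A)).presheaf.stalk z ≃ₐ[A] Y.functionField :=
    AlgEquiv.ofRingEquiv (f := e) fun a => (congrArg (fun φ : A →+* Y.functionField => φ a) he).symm
  exact IsLocalization.isLocalization_of_algEquiv (nonZeroDivisors A) e'

variable {A B : Type u} [CommRing A] [CommRing B] [IsDomain A] [IsDomain B] [IsIntegrallyClosed B]
  [IsNoetherianRing A] [IsNoetherianRing B] [Algebra A B] [Module.Finite A B]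

omit [IsNoetherianRing A] in
/-- The degree annihilates `H¹(O)` of a normal modification when all local rings upstairs are
rational singularities. -/
theorem natCast_smul_eq_zero (hinj : Function.Injective (algebraMap A B)) (hN : CAlg.IsNagata B)
    (K L : Type u) [Field K] [Field L] [Algebra A K] [IsFractionRing A K] [Algebra B L] [IsFractionRing B L]
    [Algebra K L] [Algebra A L] [IsScalarTower A K L] [IsScalarTower A B L]
    (hB : ∀ (n : Ideal B) [n.IsMaximal], Curv2.IsRationalSing (Localization.AtPrime n))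
    {Y : Scheme.{u}} [Y.Over (Spec (CommRingCat.of A))] [IsProper (Y ↘ Spec (CommRingCat.of A))] [IsIntegral Y]
    (hYn : Pi1.IsNormalScheme Y)
    (hbir : ∃ U : (Spec (CommRingCat.of A)).Opens, (U : Set (Spec (CommRingCat.of A))).Nonempty ∧
      IsIso ((Y ↘ Spec (CommRingCat.of A)) ∣_ U))
    (x : Coh.HH Y (Coh.structureModule Y) 1) : ((Module.finrank K L : ℕ) : A) • x = 0 := by
  obtain ⟨U, hU, hUi⟩ := hbir
  obtain ⟨Y', π, ρ, hY', hπ, hπs, hρ, hY'n, hsq, V, hV, hVi⟩ :=
    FiniteExtensionLift.exists_lift hinj hN (Y ↘ Spec (CommRingCat.of A)) U hU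
  -- `H¹(Y', O) = 0`
  have hrat : ∀ z : Spec (CommRingCat.of B), IsClosed ({z} : Set (Spec (CommRingCat.of B))) →
      Curv2.IsRationalSing ((Spec (CommRingCat.of B)).presheaf.stalk z) := fun z hz => by
    letI : Algebra B ((Spec (CommRingCat.of B)).presheaf.stalk z) := StructureSheaf.stalkAlgebra B z
    haveI : IsLocalization.AtPrime ((Spec (CommRingCat.of B)).presheaf.stalk z) z.asIdeal :=
      StructureSheaf.IsLocalization.to_stalk B z
    haveI : z.asIdeal.IsMaximal := (PrimeSpectrum.isClosed_singleton_iff_isMaximal z).1 hz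
    exact isRationalSing_of_ringEquiv (IsLocalization.algEquiv z.asIdeal.primeCompl
      (Localization.AtPrime z.asIdeal) _).toRingEquiv (hB z.asIdeal)
  have hH1 : Subsingleton (Coh.HH Y' (Coh.structureModule Y') 1) := by
    obtain ⟨hgen, hbir'⟩ := RationalDescend.birational ρ V hV
    haveI := Groth.ModelsGraphs.RatSingPush.isIso_unitToPush ρ
      (fun z => (FiniteExtensionLift.isNormal_spec B z).2) hgen hbir'
    exact RegularRational.subsingleton_H1_top ρ
      (Groth.ModelsGraphs.RatSingPush.isZero_RpushAb_one ρ hY'n V hV hrat)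
      (RegularRational.subsingleton_H1_of_isAffine _)
  -- the trace
  letI : Y'.Over (Spec (CommRingCat.of A)) := ⟨π ≫ (Y ↘ Spec (CommRingCat.of A))⟩
  haveI : CompactSpace Y := QuasiCompact.compactSpace_of_compactSpace (Y ↘ Spec (CommRingCat.of A))
  haveI : Y.IsSeparated := ⟨by rw [← terminal.comp_from (Y ↘ Spec (CommRingCat.of A))]; infer_instance⟩
  obtain ⟨e⟩ := Groth.Limits.FibreVanishing.exists_pushEquiv A π rfl (Coh.structureModule Y') 1
  have hpush : Subsingleton (Coh.HH Y ((Scheme.Modules.pushforward π).obj (Coh.structureModule Y')) 1) :=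
    @Equiv.subsingleton _ _ e.toEquiv hH1
  let τ := Groth.Curves1.TraceMap.trace π hYn
  have hdeg : Groth.RefRank.ffDeg π = Module.finrank K L := by
    letI := (toFF (Y ↘ Spec (CommRingCat.of A))).toAlgebra
    letI := (toFF ρ).toAlgebra
    haveI := isFractionRing_toFF (Y ↘ Spec (CommRingCat.of A)) U hU
    haveI := isFractionRing_toFF ρ V hV
    letI := (Groth.RefRank.ffMap π).hom.toAlgebra
    let i : K ≃+* Y.functionField := (IsFractionRing.algEquivOfAlgEquiv (AlgEquiv.refl : A ≃ₐ[A] A)).toRingEquiv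
    let j : L ≃+* Y'.functionField := (IsFractionRing.algEquivOfAlgEquiv (AlgEquiv.refl : B ≃ₐ[B] B)).toRingEquiv
    refine (Algebra.finrank_eq_of_equiv_equiv i j ?_).symm
    refine IsLocalization.ringHom_ext (nonZeroDivisors A) (RingHom.ext fun a => ?_)
    simp only [RingHom.coe_comp, Function.comp_apply, ← IsScalarTower.algebraMap_apply A K L]
    rw [IsScalarTower.algebraMap_apply A B L,
      show (i.toRingHom : K →+* Y.functionField) (algebraMap A K a) = toFF (Y ↘ Spec (CommRingCat.of A)) a from
        (IsFractionRing.algEquivOfAlgEquiv (AlgEquiv.refl : A ≃ₐ[A] A)).commutes a,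
      show (j.toRingHom : L →+* Y'.functionField) (algebraMap B L (algebraMap A B a)) = toFF ρ (algebraMap A B a) from
        (IsFractionRing.algEquivOfAlgEquiv (AlgEquiv.refl : B ≃ₐ[B] B)).commutes _]
    change Groth.RefRank.ffMap π (toFF (Y ↘ Spec (CommRingCat.of A)) a) = toFF ρ (algebraMap A B a)
    haveI : Nonempty (⊤ : Y.Opens) := ⟨⟨genericPoint Y, trivial⟩⟩
    refine (Groth.RefRank.ffMap_germ π ⊤ _).trans ?_
    change Y'.presheaf.germ ⊤ _ _ _ = Y'.presheaf.germ ⊤ _ _ _
    congr 1
    change ((π ≫ (Y ↘ Spec (CommRingCat.of A))).appTop) ((Scheme.ΓSpecIso (CommRingCat.of A)).inv a) =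
      ρ.appTop ((Scheme.ΓSpecIso (CommRingCat.of B)).inv (algebraMap A B a))
    rw [hsq, Scheme.Hom.comp_appTop, CommRingCat.comp_apply]
    exact congrArg _ (congr($(Scheme.ΓSpecIso_inv_naturality (CommRingCat.ofHom (algebraMap A B))) a)).symm
  have hcomp : ∀ (W : Y.Opens) (r : Γ(Y, W)),
      Groth.Curves1.TraceMap.trFun π hYn W (π.app W r) = (Module.finrank K L : Γ(Y, W)) * r := by
    intro W r
    refine (Groth.Curves1.TraceMap.eq_trFun π hYn fun hW => ?_).symm
    haveI := Groth.RefRank.nonempty_preimage π W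
    rw [map_mul, map_natCast, ← hdeg, ← Groth.RefRank.ffMap_germ π W r]
    letI := (Groth.RefRank.ffMap π).hom.toAlgebra
    change _ = Algebra.trace _ _ (algebraMap Y.functionField Y'.functionField (Y.germToFunctionField W r))
    rw [Algebra.trace_algebraMap, nsmul_eq_mul]
    rfl
  have hab : Groth.EulerDeg.abMap (ClSub.unitToPush π ≫ τ) =
      Coh.smulAb (Coh.structureModule Y) (Coh.toGlobal (Y ↘ Spec (CommRingCat.of A)) (Module.finrank K L : A)) := by
    ext W r
    change Groth.Curves1.TraceMap.trFun π hYn W.unop (π.app W.unop r) =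
      (show Γ(Y, W.unop) from Coh.resTop Y W (Coh.toGlobal (Y ↘ Spec (CommRingCat.of A)) (Module.finrank K L : A))) *
        (show Γ(Y, W.unop) from r)
    rw [map_natCast, map_natCast]
    exact hcomp W.unop r
  have h : Groth.EulerDeg.hMap A (ClSub.unitToPush π ≫ τ) 1 x = ((Module.finrank K L : ℕ) : A) • x := by
    rw [Groth.EulerDeg.hMap_apply, hab, Groth.EulerDeg.smul_def]
  rw [← h, Groth.EulerDeg.hMap_comp, LinearMap.comp_apply,
    @Subsingleton.elim _ hpush (Groth.EulerDeg.hMap A (ClSub.unitToPush π) 1 x) 0, map_zero]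

/-- Rationality at the maximal ideals of height two gives it at all maximal ideals. -/
theorem isRationalSing_atPrime {B : Type u} [CommRing B] [IsNoetherianRing B] (hdim : ringKrullDim B ≤ 2)
    (h : ∀ (n : Ideal B) [n.IsMaximal], ringKrullDim (Localization.AtPrime n) = 2 →
      Curv2.IsRationalSing (Localization.AtPrime n))
    (n : Ideal B) [n.IsMaximal] : Curv2.IsRationalSing (Localization.AtPrime n) := by
  have hle : ringKrullDim (Localization.AtPrime n) ≤ 2 := by
    rw [IsLocalization.AtPrime.ringKrullDim_eq_height n]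
    exact (Ideal.height_le_ringKrullDim_of_ne_top (Ideal.IsMaximal.ne_top ‹_›)).trans hdim
  by_cases h2 : ringKrullDim (Localization.AtPrime n) = 2
  · exact h n h2
  · refine isRationalSing_of_dim_le_one _ ?_
    have hlt := lt_of_le_of_ne hle h2
    revert hlt
    generalize ringKrullDim (Localization.AtPrime n) = d
    intro hlt
    cases d with
    | bot => exact bot_le
    | coe m =>
      cases m with
      | top => exact absurd hlt (by simp)
      | coe k =>
        have h' : k < 2 := by
          change (((k : ℕ) : ℕ∞) : WithBot ℕ∞) < ((2 : ℕ∞) : WithBot ℕ∞) at hlt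
          rw [WithBot.coe_lt_coe] at hlt
          exact_mod_cast hlt
        exact_mod_cast Nat.le_of_lt_succ h'

end Groth.ResolveSurf.FiniteExtensionTrace
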