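import Groth.Agent.ResolveSurf.AnalyticUnramified
import Groth.Agent.ResolveSurf.CompletionRegular
import Groth.Agent.Calg4.SmoothReduced

/-!
Reducedness of the generic formal fibre, scheme-theoretically.
-/

set_option autoImplicit false
universe u

open CategoryTheory CategoryTheory.Limits AlgebraicGeometry TensorProduct

namespace Groth.ResolveSurf.FormalFibre

/-- The local ring at the generic point is a field, so its spectrum maps flatly. -/
theorem flat_fromSpecStalk_genericPoint (X : Scheme.{u}) [IsIntegral X] :
    Flat (X.fromSpecStalk (genericPoint X)) := by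
  refine Flat.of_stalkMap _ fun z => ?_
  have hz : X.fromSpecStalk (genericPoint X) z = genericPoint X :=
    (((Scheme.range_fromSpecStalk (x := genericPoint X)).le ⟨z, rfl⟩).antisymm (genericPoint_specializes _)).eq
  have hfld : IsField (X.presheaf.stalk (X.fromSpecStalk (genericPoint X) z)) := by
    rw [hz]; exact Field.toIsField X.functionField
  show ((X.fromSpecStalk (genericPoint X)).stalkMap z).hom.Flat
  let := ((X.fromSpecStalk (genericPoint X)).stalkMap z).hom.toAlgebra
  let := hfld.toField
  show Module.Flat _ _
  infer_instance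

/-- Reducedness is inherited along flat preimmersions. -/
theorem isReduced_of_flat_preimmersion {P Y : Scheme.{u}} (b : P ⟶ Y) [Flat b] [IsPreimmersion b]
    (h : ∀ z : P, _root_.IsReduced (Y.presheaf.stalk (b z))) : IsReduced P := by
  have : ∀ z : P, _root_.IsReduced (P.presheaf.stalk z) := fun z => by
    have := h z
    let := (b.stalkMap z).hom.toAlgebra
    have : Module.Flat (Y.presheaf.stalk (b z)) (P.presheaf.stalk z) := Flat.stalkMap b z
    have : IsLocalHom (algebraMap (Y.presheaf.stalk (b z)) (P.presheaf.stalk z)) :=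
      inferInstanceAs (IsLocalHom (b.stalkMap z).hom)
    have := Module.FaithfullyFlat.of_flat_of_isLocalHom (A := Y.presheaf.stalk (b z)) (B := P.presheaf.stalk z)
    have hinj : Function.Injective (algebraMap (Y.presheaf.stalk (b z)) (P.presheaf.stalk z)) :=
      (faithfulSMul_iff_algebraMap_injective _ _).1 inferInstance
    let e := RingEquiv.ofBijective _ ⟨hinj, b.stalkMap_surjective z⟩
    exact isReduced_of_injective e.symm e.symm.injective
  exact isReduced_of_isReduced_stalk P

/-- Etale schemes over reduced schemes are reduced. -/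
theorem isReduced_of_etale {P Q : Scheme.{u}} (h : P ⟶ Q) [Etale h] [IsReduced Q] : IsReduced P := by
  have : ∀ x : P, _root_.IsReduced (P.presheaf.stalk x) := by
    intro x
    obtain ⟨V, hV, hxV, -⟩ := TopologicalSpace.Opens.isBasis_iff_nbhd.mp Q.isBasis_affineOpens
      (show h x ∈ (⊤ : Q.Opens) from trivial)
    obtain ⟨W, hW, hxW, hle⟩ := TopologicalSpace.Opens.isBasis_iff_nbhd.mp P.isBasis_affineOpens
      (show x ∈ h ⁻¹ᵁ V from hxV)
    have h₁ : (h.appLE V W hle).hom.Smooth :=
      HasRingHomProperty.appLE @Smooth h inferInstance ⟨V, hV⟩ ⟨W, hW⟩ hle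
    algebraize [(h.appLE V W hle).hom]
    have : Algebra.Smooth Γ(Q, V) Γ(P, W) := h₁.toAlgebra
    have : _root_.IsReduced Γ(P, W) := Groth.Calg4.isReduced_of_smooth Γ(Q, V) Γ(P, W)
    let ax : (W : Set P) := ⟨x, hxW⟩
    let := TopCat.Presheaf.algebra_section_stalk P.presheaf ax
    have := hW.isLocalization_stalk ax
    exact isReduced_localizationPreserves (hW.primeIdealOf ax).asIdeal.primeCompl (P.presheaf.stalk x) ‹_›
  exact isReduced_of_isReduced_stalk P

variable {A : Type u} [CommRing A] [IsLocalRing A] [IsNoetherianRing A] {X : Scheme.{u}}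
  [IsIntegral X] (f : X ⟶ Spec (CommRingCat.of A))

/-- The generic formal fibre is reduced if the base change has reduced stalks over the generic point. -/
theorem isReduced_genericFibre {W : Scheme.{u}} (g : W ⟶ Spec (CommRingCat.of A))
    (j : Spec (X.presheaf.stalk (genericPoint X)) ⟶ W) [Flat j] [IsPreimmersion j]
    (hj : j ≫ g = X.fromSpecStalk (genericPoint X) ≫ f)
    (h : ∀ z : ↥(pullback j (Curv2.bcCplFst A g)),
      _root_.IsReduced ((Curv2.bcCpl A g).presheaf.stalk (pullback.snd j (Curv2.bcCplFst A g) z))) :
    IsReduced (pullback (X.fromSpecStalk (genericPoint X) ≫ f)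
      (Spec.map (CommRingCat.ofHom (algebraMap A (Curv2.cpl A))))) := by
  rw [← hj]
  have : IsPreimmersion (pullback.snd j (Curv2.bcCplFst A g)) := inferInstance
  have := isReduced_of_flat_preimmersion (pullback.snd j (Curv2.bcCplFst A g)) h
  exact isReduced_of_isOpenImmersion
    (pullbackRightPullbackFstIso g (Spec.map (CommRingCat.ofHom (algebraMap A (Curv2.cpl A)))) j).inv

/-- Over the closed point the generic formal fibre is the function field. -/
theorem isReduced_genericFibre_of_closedPoint (hξ : f (genericPoint X) = IsLocalRing.closedPoint A) :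
    IsReduced (pullback (X.fromSpecStalk (genericPoint X) ≫ f)
      (Spec.map (CommRingCat.ofHom (algebraMap A (Curv2.cpl A))))) := by
  let K := X.functionField
  let _ : Algebra A K := (AnalyticUnramified.toFunctionField f).hom.toAlgebra
  have hj : Spec.map (CommRingCat.ofHom (algebraMap A K)) = X.fromSpecStalk (genericPoint X) ≫ f :=
    Spec.map_preimage _
  have hker : ∀ a ∈ IsLocalRing.maximalIdeal A, algebraMap A K a = 0 := fun a ha => by
    let z : Spec (X.presheaf.stalk (genericPoint X)) := (⟨⊥, Ideal.isPrime_bot⟩ : PrimeSpectrum X.functionField)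
    have hz : X.fromSpecStalk (genericPoint X) z = genericPoint X :=
      (((Scheme.range_fromSpecStalk (x := genericPoint X)).le ⟨z, rfl⟩).antisymm (genericPoint_specializes _)).eq
    have h : Spec.map (CommRingCat.ofHom (algebraMap A K)) z = IsLocalRing.closedPoint A := by
      rw [hj, Scheme.Hom.comp_apply, hz, hξ]
    have h' : a ∈ (Spec.map (CommRingCat.ofHom (algebraMap A K)) z).asIdeal := h ▸ ha
    exact h'
  have hsurj : Function.Surjective (Algebra.TensorProduct.includeLeftRingHom : K →+* K ⊗[A] Curv2.cpl A) := by
    intro t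
    induction t using TensorProduct.induction_on with
    | zero => exact ⟨0, map_zero _⟩
    | add x y hx hy =>
      obtain ⟨a, rfl⟩ := hx; obtain ⟨b, rfl⟩ := hy; exact ⟨a + b, map_add _ _ _⟩
    | tmul k r =>
      obtain ⟨a, ha⟩ := Ideal.Quotient.mk_surjective (AdicCompletion.evalOneₐ (IsLocalRing.maximalIdeal A) r)
      have hr : r - algebraMap A _ a ∈ (IsLocalRing.maximalIdeal A).map (algebraMap A (Curv2.cpl A)) := by
        rw [← AdicCompletion.ker_evalOneₐ_eq_map _ (IsNoetherian.noetherian _), RingHom.mem_ker]
        show AdicCompletion.evalOneₐ (IsLocalRing.maximalIdeal A) (r - algebraMap A _ a) = 0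
        rw [map_sub, AlgHom.commutes, sub_eq_zero]
        exact ha.symm
      refine ⟨algebraMap A K a * k, ?_⟩
      have h0 : ∀ m ∈ (IsLocalRing.maximalIdeal A).map (algebraMap A (Curv2.cpl A)), (k : K) ⊗ₜ[A] m = 0 := by
        intro m hm
        rw [Ideal.map, ← Submodule.coe_restrictScalars A] at *
        refine Submodule.span_induction ?_ ?_ ?_ ?_ hm
        · rintro _ ⟨b, hb, rfl⟩
          rw [Algebra.algebraMap_eq_smul_one, TensorProduct.tmul_smul, TensorProduct.smul_tmul',
            Algebra.smul_def, hker b hb, zero_mul, TensorProduct.zero_tmul]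
        · exact TensorProduct.tmul_zero _ _
        · intro x y _ _ hx hy; rw [TensorProduct.tmul_add, hx, hy, add_zero]
        · intro c x _ hx
          have := congrArg ((1 : K) ⊗ₜ[A] c * ·) hx
          simpa [Algebra.TensorProduct.tmul_mul_tmul] using this
      rw [show r = algebraMap A _ a + (r - algebraMap A _ a) by ring, TensorProduct.tmul_add, h0 _ hr, add_zero,
        Algebra.algebraMap_eq_smul_one (A := Curv2.cpl A), TensorProduct.tmul_smul, TensorProduct.smul_tmul',
        Algebra.smul_def]
      rfl
  have hred : _root_.IsReduced (K ⊗[A] Curv2.cpl A) := by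
    rcases subsingleton_or_nontrivial (K ⊗[A] Curv2.cpl A) with hs | hs
    · exact ⟨fun x _ => Subsingleton.elim _ _⟩
    · let e := RingEquiv.ofBijective _ ⟨RingHom.injective _, hsurj⟩
      exact isReduced_of_injective e.symm e.symm.injective
  rw [← hj]
  have : IsReduced (Spec (CommRingCat.of (K ⊗[A] Curv2.cpl A))) := (affine_isReduced_iff _).2 hred
  exact isReduced_of_isOpenImmersion (pullbackSpecIso A K (Curv2.cpl A)).hom

end Groth.ResolveSurf.FormalFibre
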