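import Groth.Agent.ResolveSurf.PolarParts
import Groth.Agent.S7336
import Groth.Agent.QCohMod.Category
import Groth.Agent.QCohMod.Stalk
import Groth.Agent.QCohMod.Sections
import Groth.Agent.PropsBasic2.StalkFlat

/-!
# Rational functions modulo regular functions on a normal modification

`K` is the sheaf of rational functions of an integral scheme, the direct image of the structure
module of the generic point; a global section of `K/O` killed by the maximal ideal of a
two-dimensional normal local base is zero.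
-/

set_option autoImplicit false
set_option backward.isDefEq.respectTransparency.types false
set_option linter.style.haveILetI false

universe u

open CategoryTheory Limits AlgebraicGeometry TopologicalSpace Opposite

namespace Groth.ResolveSurf.GenericFractions

open Groth.QCohMod (res resFun)

variable (X : Scheme.{u}) [IsIntegral X]

/-- The inclusion of the generic point. -/
noncomputable abbrev gen : Spec X.functionField ⟶ X := X.fromSpecStalk (genericPoint X)

/-- The sheaf of rational functions. -/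
noncomputable abbrev ratMod : X.Modules :=
  (Scheme.Modules.pushforward (gen X)).obj (Coh.structureModule (Spec X.functionField))

/-- Regular functions are rational. -/
noncomputable abbrev incl : Coh.structureModule X ⟶ ratMod X := ClSub.unitToPush (gen X)

variable {X}

theorem mem_of_ne_bot {V : X.Opens} (hV : V ≠ ⊥) : genericPoint X ∈ V :=
  ((genericPoint_spec X).mem_open_set_iff V.2).2 (by
    obtain ⟨x, hx⟩ := Set.nonempty_iff_ne_empty.2 fun h => hV (Opens.ext h)
    exact ⟨x, trivial, hx⟩)

theorem gen_app_injective (V : X.Opens) : Function.Injective ((gen X).app V) := by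
  by_cases hV : V = ⊥
  · subst hV
    intro a b _
    exact Subsingleton.elim _ _
  have hη := mem_of_ne_bot hV
  rw [Scheme.fromSpecStalk_app hη]
  have hpre : (gen X) ⁻¹ᵁ V = ⊤ := eq_top_iff.2 fun p _ =>
    ((Scheme.range_fromSpecStalk (X := X) (x := genericPoint X)).le ⟨p, rfl⟩).mem_open V.2 hη
  haveI : IsIso ((Spec X.functionField).presheaf.map (homOfLE (le_top : (gen X) ⁻¹ᵁ V ≤ ⊤)).op) := by
    have : IsIso (homOfLE (le_top : (gen X) ⁻¹ᵁ V ≤ ⊤)) :=
      ⟨homOfLE hpre.ge, Subsingleton.elim _ _, Subsingleton.elim _ _⟩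
    infer_instance
  simp only [CommRingCat.hom_comp, RingHom.coe_comp]
  exact ((ConcreteCategory.bijective_of_isIso _).1.comp
    ((ConcreteCategory.bijective_of_isIso _).1.comp (germ_injective_of_isIntegral X _ hη)))

theorem eq_zero_of_smul {V : X.Opens} {r : Γ(X, V)} (hr : r ≠ 0) {x : Γ(ratMod X, V)} (h : r • x = 0) :
    x = 0 := by
  by_cases hV : V = ⊥
  · subst hV
    exact absurd (Subsingleton.elim r 0) hr
  have hη := mem_of_ne_bot hV
  have hpre : (gen X) ⁻¹ᵁ V = ⊤ := eq_top_iff.2 fun p _ =>
    ((Scheme.range_fromSpecStalk (X := X) (x := genericPoint X)).le ⟨p, rfl⟩).mem_open V.2 hη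
  let e := ((Spec X.functionField).presheaf.mapIso (eqToIso hpre.symm).op ≪≫
    Scheme.ΓSpecIso X.functionField).commRingCatIsoToRingEquiv
  have h' : (gen X).app V r * (show Γ(Spec X.functionField, (gen X) ⁻¹ᵁ V) from x) = 0 := h
  have h0 := congrArg e h'
  rw [map_mul, map_zero, mul_eq_zero] at h0
  rcases h0 with h1 | h1
  · refine absurd (gen_app_injective V ?_) hr
    rw [map_zero]
    exact e.injective (h1.trans (map_zero e).symm)
  · exact e.injective (h1.trans (map_zero e).symm)

instance mono_incl : Mono (incl X) := by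
  rw [Groth.QCohMod.mono_iff_stalk]
  intro x a b hab
  obtain ⟨U, hU, a, rfl⟩ := Groth.QCohMod.exists_germ (Coh.structureModule X) x a
  obtain ⟨U', hU', b, rfl⟩ := Groth.QCohMod.exists_germ (Coh.structureModule X) x b
  rw [Groth.QCohMod.stalk_map_germ, Groth.QCohMod.stalk_map_germ] at hab
  obtain ⟨W, hW, i, i', h⟩ := TopCat.Presheaf.germ_eq (ratMod X).presheaf x hU hU' _ _ hab
  have e : res (Coh.structureModule X) i.le a = res (Coh.structureModule X) i'.le b := by
    refine gen_app_injective W ?_
    have h1 := Groth.QCohMod.res_app (incl X) i.le a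
    have h2 := Groth.QCohMod.res_app (incl X) i'.le b
    exact h1.symm.trans (h.trans h2)
  rw [← TopCat.Presheaf.germ_res_apply (Coh.structureModule X).presheaf i x hW a,
    ← TopCat.Presheaf.germ_res_apply (Coh.structureModule X).presheaf i' x hW b]
  exact congrArg _ e

variable {A : Type u} [CommRing A] [IsDomain A] [IsLocalRing A] [IsNoetherianRing A]

/-- **A global section of `K/O` killed by the maximal ideal is zero.** -/
theorem eq_zero_of_maximalIdeal_smul [IsIntegrallyClosed A] (hdim : ringKrullDim A = 2)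
    (f : X ⟶ Spec (CommRingCat.of A)) [IsProper f]
    {U : (Spec (CommRingCat.of A)).Opens} (hU : (U : Set (Spec (CommRingCat.of A))).Nonempty)
    [IsIso (f ∣_ U)] (hn : ∀ z : X, IsIntegrallyClosed (X.presheaf.stalk z))
    (σ : Γ(cokernel (incl X), ⊤))
    (hσ : ∀ a ∈ IsLocalRing.maximalIdeal A, (show Γ(X, ⊤) from Coh.toGlobal f a) • σ = 0) : σ = 0 := by
  classical
  let S : ShortComplex X.Modules := ShortComplex.mk (incl X) (cokernel.π _) (cokernel.condition _)
  have hS : S.Exact := ShortComplex.exact_of_g_is_cokernel _ (cokernelIsCokernel _)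
  haveI : Mono S.f := inferInstanceAs (Mono (incl X))
  have hπ : ∀ {V : X.Opens} (r : Γ(X, V)) (x : Γ(ratMod X, V)),
      (cokernel.π (incl X)).app V (r • x) = r • (cokernel.π (incl X)).app V x := fun r x =>
    Scheme.Modules.Hom.app_smul _ r x
  -- a local rational lift on an affine neighbourhood of each point
  have hlift : ∀ y : X, ∃ (W : X.affineOpens) (_ : y ∈ W.1) (s : Γ(ratMod X, W.1)),
      (cokernel.π (incl X)).app W.1 s = res _ le_top σ := by
    intro y
    obtain ⟨t, ht⟩ := (Groth.QCohMod.epi_iff_stalk (cokernel.π (incl X))).1 inferInstance y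
      (Groth.QCohMod.germ (cokernel (incl X)) y (show y ∈ (⊤ : X.Opens) from trivial) σ)
    obtain ⟨V, hV, s, rfl⟩ := Groth.QCohMod.exists_germ (ratMod X) y t
    rw [Groth.QCohMod.stalk_map_germ] at ht
    obtain ⟨W₀, hW₀, i, j, h⟩ := TopCat.Presheaf.germ_eq (cokernel (incl X)).presheaf y hV (show y ∈ (⊤ : X.Opens) from trivial) _ _ ht
    obtain ⟨_, ⟨W, hW, rfl⟩, hyW, hWW⟩ := X.isBasis_affineOpens.exists_subset_of_mem_open hW₀ W₀.2
    refine ⟨⟨W, hW⟩, hyW, res _ (show W ≤ V from le_trans hWW i.le) s, ?_⟩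
    have h2 := congrArg (res (cokernel (incl X)) (show W ≤ W₀ from hWW)) h
    rw [← Groth.QCohMod.res_app]
    refine (Eq.trans ?_ h2).trans ?_
    · exact (Groth.QCohMod.res_res _ i.le hWW _).symm
    · exact Groth.QCohMod.res_res _ j.le hWW _
  choose W hW s hs using hlift
  by_cases hm : ∀ a ∈ IsLocalRing.maximalIdeal A, a = 0
  · exfalso
    have : IsField A := IsLocalRing.isField_iff_maximalIdeal_eq.2 (eq_bot_iff.2 fun a ha => Ideal.mem_bot.2 (hm a ha))
    rw [ringKrullDim_eq_zero_of_isField this] at hdim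
    exact absurd hdim (by decide)
  push Not at hm
  obtain ⟨a₀, ha₀, ha₀0⟩ := hm
  let c : ∀ (V : X.Opens), A → Γ(X, V) := fun V a => resFun X le_top (Coh.toGlobal f a)
  have hkill : ∀ (y : X) (a : A), a ∈ IsLocalRing.maximalIdeal A →
      ∃ r : Γ(X, (W y).1), (incl X).app (W y).1 r = c (W y).1 a • s y := by
    intro y a ha
    refine Groth.QCohMod.exists_app_eq_of_mono_exact hS (W y).1 _ ?_
    change (cokernel.π (incl X)).app (W y).1 (c (W y).1 a • s y) = 0
    rw [hπ, hs, ← Groth.QCohMod.res_smul, hσ a ha, map_zero]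
  choose v hv using fun y => hkill y a₀ ha₀
  let t : ∀ y, Γ(X, (W y).1) := fun y => c (W y).1 a₀
  have ht0 : ∀ y, t y ≠ 0 := fun y h0 => by
    haveI : Nonempty (⊤ : X.Opens) := ⟨⟨y, trivial⟩⟩
    have hη : genericPoint X ∈ (W y).1 :=
      ((genericPoint_spec X).mem_open_set_iff (W y).1.2).2 ⟨y, trivial, hW y⟩
    have h1 : X.presheaf.germ ⊤ (genericPoint X) trivial (Coh.toGlobal f a₀) = 0 :=
      (TopCat.Presheaf.germ_res_apply X.presheaf (homOfLE (le_top : (W y).1 ≤ ⊤)) _ hη _).symm.trans
        ((congrArg (X.presheaf.germ (W y).1 (genericPoint X) hη) h0).trans (map_zero _))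
    obtain ⟨w, hw⟩ := hU
    let η₀ : Spec (CommRingCat.of A) := (⟨⊥, Ideal.isPrime_bot⟩ : PrimeSpectrum A)
    have hη₀ : η₀ ∈ U := ((PrimeSpectrum.le_iff_specializes _ _).1 bot_le : η₀ ⤳ w).mem_open U.2 hw
    obtain ⟨⟨q, hq⟩, hq'⟩ := (f ∣_ U).homeomorph.surjective ⟨η₀, hη₀⟩
    have h2 : f q = η₀ := (morphismRestrict_base_coe f U ⟨q, hq⟩).symm.trans (congrArg Subtype.val hq')
    have h3 := (genericPoint_specializes q).map f.continuous
    rw [h2] at h3
    have h4 : f (genericPoint X) ∈ (Spec (CommRingCat.of A)).basicOpen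
        ((Scheme.ΓSpecIso (CommRingCat.of A)).inv a₀) := by
      rw [basicOpen_eq_of_affine']
      simp only [Iso.inv_hom_id_apply]
      exact fun ha => ha₀0 (Ideal.mem_bot.1 ((PrimeSpectrum.le_iff_specializes _ η₀).2 h3 ha))
    have h5 : genericPoint X ∈ X.basicOpen (Coh.toGlobal f a₀) := by
      show genericPoint X ∈ X.basicOpen (f.appTop ((Scheme.ΓSpecIso (CommRingCat.of A)).inv a₀))
      rw [← Scheme.preimage_basicOpen_top]
      exact h4
    have h6 := (Scheme.mem_basicOpen _ _ _ (show genericPoint X ∈ (⊤ : X.Opens) from trivial)).1 h5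
    rw [h1] at h6
    exact not_isUnit_zero h6
  -- regular away from the closed fibre
  have hout : ∀ y z (hz : z ∈ (W y).1), f z ≠ IsLocalRing.closedPoint A →
      X.presheaf.germ (W y).1 z hz (t y) ∣ X.presheaf.germ (W y).1 z hz (v y) := by
    intro y z hz hfz
    obtain ⟨b, hb, hbz⟩ : ∃ b ∈ IsLocalRing.maximalIdeal A, b ∉ (f z).asIdeal := by
      by_contra hcon
      push Not at hcon
      exact hfz (PrimeSpectrum.ext ((IsLocalRing.maximalIdeal.isMaximal A).eq_of_le
        (f z).isPrime.ne_top hcon).symm)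
    obtain ⟨r, hr⟩ := hkill y b hb
    have e : c (W y).1 b * v y = t y * r := by
      refine gen_app_injective (W y).1 ?_
      change (incl X).app (W y).1 (c (W y).1 b • v y) = (incl X).app (W y).1 (t y • r)
      erw [Scheme.Modules.Hom.app_smul, Scheme.Modules.Hom.app_smul, hv, hr, smul_comm]
    have hbu : IsUnit (X.presheaf.germ (W y).1 z hz (c (W y).1 b)) := by
      rw [show X.presheaf.germ (W y).1 z hz (c (W y).1 b) =
        X.presheaf.germ ⊤ z trivial (Coh.toGlobal f b) from
        TopCat.Presheaf.germ_res_apply X.presheaf (homOfLE (le_top : (W y).1 ≤ ⊤)) z hz _]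
      refine (Scheme.mem_basicOpen _ _ z (show z ∈ (⊤ : X.Opens) from trivial)).1 ?_
      show z ∈ X.basicOpen (f.appTop ((Scheme.ΓSpecIso (CommRingCat.of A)).inv b))
      rw [← Scheme.preimage_basicOpen_top]
      change f z ∈ (Spec (CommRingCat.of A)).basicOpen _
      rw [basicOpen_eq_of_affine']
      simp only [Iso.inv_hom_id_apply]
      exact hbz
    refine hbu.dvd_mul_left.1 ?_
    rw [← map_mul, e, map_mul]
    exact dvd_mul_right _ _
  have hrel : ∀ y y' z (hz : z ∈ (W y).1) (hz' : z ∈ (W y').1), ∃ d r : X.presheaf.stalk z,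
      IsUnit d ∧ X.presheaf.germ (W y').1 z hz' (t y') = d * X.presheaf.germ (W y).1 z hz (t y) ∧
        X.presheaf.germ (W y').1 z hz' (v y') =
          d * (X.presheaf.germ (W y).1 z hz (v y) + r * X.presheaf.germ (W y).1 z hz (t y)) := by
    intro y y' z hz hz'
    let V := (W y).1 ⊓ (W y').1
    have h1 : V ≤ (W y).1 := inf_le_left
    have h2 : V ≤ (W y').1 := inf_le_right
    obtain ⟨ρ, hρ⟩ : ∃ ρ : Γ(X, V), (incl X).app V ρ = res _ h2 (s y') - res _ h1 (s y) := by
      refine Groth.QCohMod.exists_app_eq_of_mono_exact hS V _ ?_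
      change (cokernel.π (incl X)).app V _ = 0
      rw [map_sub, ← Groth.QCohMod.res_app, ← Groth.QCohMod.res_app, hs, hs,
        Groth.QCohMod.res_res, Groth.QCohMod.res_res, sub_self]
    have hc : ∀ {V' : X.Opens} (h : V ≤ V'), resFun X h (c V' a₀) = c V a₀ := fun h =>
      Groth.QCohMod.resFun_resFun le_top h _
    have e : resFun X h2 (v y') = resFun X h1 (v y) + c V a₀ * ρ := by
      refine gen_app_injective V ?_
      change (incl X).app V (res (Coh.structureModule X) h2 (v y')) =
        (incl X).app V (res (Coh.structureModule X) h1 (v y) + c V a₀ • (show Γ(Coh.structureModule X, V) from ρ))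
      erw [map_add, Scheme.Modules.Hom.app_smul, ← Groth.QCohMod.res_app, ← Groth.QCohMod.res_app, hv, hv, hρ,
        Groth.QCohMod.res_smul, Groth.QCohMod.res_smul, hc h1, hc h2, smul_sub, add_sub_cancel]
    have hzV : z ∈ V := ⟨hz, hz'⟩
    refine ⟨1, X.presheaf.germ V z hzV ρ, isUnit_one, ?_, ?_⟩
    · rw [one_mul]
      exact (TopCat.Presheaf.germ_res_apply X.presheaf (homOfLE (le_top : (W y').1 ≤ ⊤)) z hz' _).trans
        (TopCat.Presheaf.germ_res_apply X.presheaf (homOfLE (le_top : (W y).1 ≤ ⊤)) z hz _).symm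
    · have e' := congrArg (X.presheaf.germ V z hzV) e
      rw [map_add, map_mul, mul_comm] at e'
      erw [TopCat.Presheaf.germ_res_apply X.presheaf (homOfLE h2) z hzV,
        TopCat.Presheaf.germ_res_apply X.presheaf (homOfLE h1) z hzV] at e'
      rw [one_mul]
      refine e'.trans ?_
      congr 2
      exact (congrArg (X.presheaf.germ V z hzV) (hc h1)).symm.trans
        (TopCat.Presheaf.germ_res_apply X.presheaf (homOfLE h1) z hzV _)
  have hd : ∀ y, t y ∣ v y := Groth.ResolveSurf.Polar.dvd_of_polar_frac f hdim hU hn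
    (fun hf => Groth.Agent.S7336.result A hdim X f ⟨U, hU, inferInstance⟩ hf)
    W hW t v ht0 hout hrel
  -- the section vanishes
  refine TopCat.Sheaf.eq_of_locally_eq' (show TopCat.Sheaf AddCommGrpCat.{u} X from
    (SheafOfModules.toSheaf X.ringCatSheaf).obj (cokernel (incl X))) (fun y => (W y).1) ⊤
    (fun y => homOfLE le_top) (fun y _ => Opens.mem_iSup.2 ⟨y, hW y⟩) σ 0 fun y => ?_
  obtain ⟨w, hw⟩ := hd y
  have hsw : s y = (incl X).app (W y).1 w := by
    rw [← sub_eq_zero]
    refine eq_zero_of_smul (ht0 y) ?_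
    rw [smul_sub]
    erw [← Scheme.Modules.Hom.app_smul, ← hv y, hw]
    exact sub_self _
  rw [map_zero]
  change res (cokernel (incl X)) le_top σ = 0
  rw [← hs y, hsw, ← ConcreteCategory.comp_apply, ← Scheme.Modules.Hom.comp_app, cokernel.condition]
  rfl

end Groth.ResolveSurf.GenericFractions
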