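import Groth.Prelude.Def_ModelsG
import Groth.Agent.ResolveSurf.ContractionPic
import Groth.Agent.ModelsGraphs.GenusFormula
import Groth.Agent.Inter.Push
import Groth.Agent.Duality.PushHLin
import Groth.Agent.PnCoh.PicProjSpace
import Groth.Agent.CohC3.HMap

/-!
First cohomology of twists by an exceptional curve.
-/

set_option autoImplicit false
set_option backward.isDefEq.respectTransparency.types false
set_option maxHeartbeats 1000000
universe u

open CategoryTheory CategoryTheory.Limits AlgebraicGeometry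
open CategoryTheory.Abelian (Ext)
open Groth.PicAux Groth.Variety2.Reg

namespace Groth.ResolveSurf.H1Twist

variable {k : Type u} [Field k]

/-- Vanishing of cohomology passes along isomorphisms. -/
theorem sub_of_iso {X : Scheme.{u}} {F G : X.Modules} (e : F ≅ G) {p : ℕ}
    (h : Subsingleton (Coh.HH X F p)) : Subsingleton (Coh.HH X G p) := by
  letI : X.Over (Spec (CommRingCat.of (ULift.{u} ℤ))) := ⟨specULiftZIsTerminal.from X⟩
  exact (Groth.CohC3.hmap_bijective_of_isIso (A := ULift.{u} ℤ) e.inv p).1.subsingleton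

/-- The natural twist of the projective line is determined by its isomorphism class. -/
theorem eq_of_twist_iso {a c : ℕ}
    (e : Twist.twistProjSpace 1 k (a : ℤ) ≅ Twist.twistProjSpace 1 k (c : ℤ)) : a = c := by
  letI : (CohB1.ProjSpace 1 k).Over (Spec (CommRingCat.of k)) := ⟨CohB1.ProjSpace.toSpec 1 k⟩
  have h1 := Groth.EulerDeg.finrank_congr (k := k) e 0
  rw [Groth.PnCoh.finrank_h0 k 1 a, Groth.PnCoh.finrank_h0 k 1 c] at h1
  simp only [Nat.choose_succ_self_right, Nat.add_comm 1] at h1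
  omega

/-- A negative twist is no nonnegative twist. -/
theorem isEmpty_neg_iso {a : ℤ} (ha : a < 0) {c : ℕ}
    (e : Twist.twistProjSpace 1 k a ≅ Twist.twistProjSpace 1 k (c : ℤ)) : False := by
  letI : (CohB1.ProjSpace 1 k).Over (Spec (CommRingCat.of k)) := ⟨CohB1.ProjSpace.toSpec 1 k⟩
  have h1 := Groth.EulerDeg.finrank_congr (k := k) e 0
  rw [Groth.PnCoh.finrank_h0 k 1 c, Groth.PnCoh.finrank_eq_zero k 1 a 0 (by omega) (by omega)] at h1
  simp only [Nat.choose_succ_self_right, Nat.add_comm 1] at h1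
  omega

/-- Sections of an isomorphism of lines: `O(1)` pulls back to a natural twist. -/
theorem exists_nat_twist {k' : Type u} [Field k'] (φ : CohB1.ProjSpace 1 k ≅ CohB1.ProjSpace 1 k') :
    ∃ d : ℕ, Nonempty ((Scheme.Modules.pullback φ.hom).obj (Twist.twistProjSpace 1 k' 1) ≅
      Twist.twistProjSpace 1 k (d : ℤ)) := by
  have hinv := isInvertible_pullback φ.hom (Groth.Chow.ToPn.twist_isInvertible (n := 1) (R := k'))
  obtain ⟨d, ⟨e⟩⟩ := Groth.PnCoh.exists_iso_twist_of_isInvertible (n := 1) (k := k) le_rfl _ hinv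
  by_cases hd : 0 ≤ d
  · obtain ⟨m, rfl⟩ := Int.eq_ofNat_of_zero_le hd
    exact ⟨m, ⟨e⟩⟩
  exfalso
  -- a nonzero section would give a nonzero section of a negative twist
  have h0 : Subsingleton Γ((Scheme.Modules.pullback φ.hom).obj (Twist.twistProjSpace 1 k' 1), (⊤ : (CohB1.ProjSpace 1 k).Opens)) := by
    letI : (CohB1.ProjSpace 1 k).Over (Spec (CommRingCat.of k)) := ⟨CohB1.ProjSpace.toSpec 1 k⟩
    have hH := sub_of_iso e.symm (Groth.PnCoh.subsingleton_HH_twist (n := 1) (R := k) d 0 (by omega) (by omega))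
    exact @Equiv.subsingleton _ _ ((Groth.CohBase.homConstZ (Coh.toAb ((Scheme.Modules.pullback φ.hom).obj
      (Twist.twistProjSpace 1 k' 1)))).symm.toEquiv.trans (Ext.addEquiv₀.symm.toEquiv)) hH
  obtain ⟨i, hi⟩ : ∃ i, φ.hom (genericPoint (CohB1.ProjSpace 1 k)) ∈
      Proj.basicOpen (CohB1.polyGrading 1 k') (MvPolynomial.X i) := by
    have h := (Proj.iSup_basicOpen_eq_top _ _ Groth.Chow.ToPn.irrelevant_le_span_X).ge
      (Set.mem_univ (φ.hom (genericPoint (CohB1.ProjSpace 1 k))))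
    exact TopologicalSpace.Opens.mem_iSup.1 h
  have hg := (Groth.Chow.ToPn.res_coord (n := 1) (R := k') i i).1.pull φ.hom
  have hz : (pullSec φ.hom _ (Groth.Chow.ToPn.co 1 k' i) :
      Γ((Scheme.Modules.pullback φ.hom).obj (Twist.twistProjSpace 1 k' 1), (⊤ : (CohB1.ProjSpace 1 k).Opens))) = 0 :=
    @Subsingleton.elim _ h0 _ _
  have h10 : (1 : Γ(CohB1.ProjSpace 1 k, φ.hom ⁻¹ᵁ Proj.basicOpen (CohB1.polyGrading 1 k') (MvPolynomial.X i))) = 0 := by
    refine hg.smul_inj le_rfl ?_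
    rw [res_self, one_smul, zero_smul]
    refine (res_pullSec φ.hom _ le_top _).symm.trans ?_
    show res _ _ (pullSec φ.hom _ (Groth.Chow.ToPn.co 1 k' i)) = 0
    rw [hz, res_zero]
  have := congrArg ((CohB1.ProjSpace 1 k).presheaf.germ _ _ hi) h10
  rw [map_one, map_zero] at this
  exact one_ne_zero this

/-- An isomorphism of projective lines respects `O(1)`. -/
theorem pullback_twist_one {k' : Type u} [Field k'] (φ : CohB1.ProjSpace 1 k ≅ CohB1.ProjSpace 1 k') :
    Nonempty ((Scheme.Modules.pullback φ.hom).obj (Twist.twistProjSpace 1 k' 1) ≅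
      Twist.twistProjSpace 1 k 1) := by
  obtain ⟨d, ⟨e⟩⟩ := exists_nat_twist φ
  obtain ⟨d', ⟨e'⟩⟩ := exists_nat_twist φ.symm
  obtain ⟨t⟩ := nonempty_tensorPow_tw (n := 1) (k := k) 1 d
  obtain ⟨t'⟩ := nonempty_tensorPow_tw (n := 1) (k := k') 1 d
  obtain ⟨p⟩ := pullback_tensorPow φ.symm.hom (Twist.twistProjSpace 1 k 1) d
  obtain ⟨q⟩ := nonempty_tensorPow_iso e' d
  obtain ⟨t''⟩ := nonempty_tensorPow_tw (n := 1) (k := k') (d' : ℤ) d
  have h1 : Twist.twistProjSpace 1 k' ((1 : ℕ) : ℤ) ≅ Twist.twistProjSpace 1 k' ((d' * d : ℕ) : ℤ) :=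
    ((Scheme.Modules.pullbackId _).app _).symm ≪≫
      (Scheme.Modules.pullbackCongr φ.inv_hom_id.symm).app _ ≪≫
      ((Scheme.Modules.pullbackComp φ.inv φ.hom).app _).symm ≪≫
      (Scheme.Modules.pullback φ.inv).mapIso (e ≪≫ eqToIso (by rw [one_mul]) ≪≫ t.symm) ≪≫
      p ≪≫ q ≪≫ t'' ≪≫ eqToIso (by push_cast; rfl)
  obtain ⟨-, rfl⟩ := mul_eq_one.1 (eq_of_twist_iso h1).symm
  exact ⟨e⟩

variable {E X : Scheme.{u}} (ι : E ⟶ X) [IsClosedImmersion ι] [IsNoetherian X]

/-- Twisting by the curve preserves vanishing of first cohomology in the stated range. -/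
theorem subsingleton_h1 (hE : Models.IsExcCurve ι) (M : X.Modules)
    (hM : ClSub.IsInverseOf M (ClSub.idealMod ι.ker)) (L : X.Modules) (hL : PicF.IsInvertible L)
    (e : CohB1.ProjSpace 1 k ≅ E) (n : ℕ)
    (hn : Nonempty ((Scheme.Modules.pullback (e.hom ≫ ι)).obj L ≅ Twist.twistProjSpace 1 k (n : ℤ)))
    (h1 : Subsingleton (Coh.HH X L 1)) :
    ∀ i : ℕ, i ≤ n + 1 → Subsingleton (Coh.HH X (CohB1.tensorMod L (CohB1.tensorPow M i)) 1) := by
  letI : X.Over (Spec (CommRingCat.of (ULift.{u} ℤ))) := ⟨specULiftZIsTerminal.from X⟩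
  letI : (CohB1.ProjSpace 1 k).Over (Spec (CommRingCat.of (ULift.{u} ℤ))) :=
    ⟨specULiftZIsTerminal.from _⟩
  obtain ⟨hcart, k', _, e', ⟨ec⟩⟩ := hE
  let I := ι.ker
  have hI : PicF.IsInvertible (ClSub.idealMod I) := isInvertible_idealMod hcart
  have hMinv : PicF.IsInvertible M := isInvertible_of_isInverseOf hI (isInverseOf_symm hM)
  obtain ⟨eM⟩ := hM
  let j := e.hom ≫ ι
  -- the conormal sheaf and the normal sheaf on the given line
  obtain ⟨f₁⟩ := pullback_twist_one (e ≪≫ e'.symm)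
  let gI : (Scheme.Modules.pullback j).obj (ClSub.idealMod I) ≅ Twist.twistProjSpace 1 k 1 :=
    (Scheme.Modules.pullbackCongr (show j = (e ≪≫ e'.symm).hom ≫ e'.hom ≫ ι by simp [j])).app _ ≪≫
      ((Scheme.Modules.pullbackComp _ _).app _).symm ≪≫ (Scheme.Modules.pullback _).mapIso ec ≪≫ f₁
  obtain ⟨et⟩ := pullback_tensorMod j hMinv hI
  obtain ⟨eo⟩ := pullback_structure_iso j
  obtain ⟨z⟩ := Ega2Proj.nonempty_tensor_iso (gen_one 1 k) (-1) 1
  obtain ⟨gM⟩ := isInverseOf_unique (L := Twist.twistProjSpace 1 k 1)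
    (M := (Scheme.Modules.pullback j).obj M) (M' := Twist.twistProjSpace 1 k (-1))
    (isInverseOf_symm ⟨PicGrp.tensorModIso (Iso.refl _) gI.symm ≪≫ et.symm ≪≫
      (Scheme.Modules.pullback j).mapIso eM ≪≫ eo⟩)
    (isInverseOf_symm ⟨z ≪≫ eqToIso (by rw [neg_add_cancel]; rfl) ≪≫ nonempty_twist_zero.some⟩)
  intro i
  induction i with
  | zero => exact fun _ => sub_of_iso (SecTwist.unitorR L).symm h1
  | succ i ih =>
    intro hi
    let L' := CohB1.tensorMod L (CohB1.tensorPow M (i + 1))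
    have hL' : PicF.IsInvertible L' := isInvertible_tensorMod hL (isInvertible_tensorPow hMinv _)
    have hS := shortExact_idealMod_twist I hL'
    -- left term
    obtain ⟨b₁⟩ := tensorMod_comm hI hL'
    obtain ⟨a₁⟩ := tensorMod_assoc hL (isInvertible_tensorPow hMinv (i + 1)) hI
    obtain ⟨a₂⟩ := tensorMod_assoc (isInvertible_tensorPow hMinv i) hMinv hI
    have hleft : Subsingleton (Coh.HH X (CohB1.tensorMod (ClSub.idealMod I) L') 1) :=
      sub_of_iso (b₁ ≪≫ a₁ ≪≫ PicGrp.tensorModIso (Iso.refl L)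
        (a₂ ≪≫ PicGrp.tensorModIso (Iso.refl _) eM ≪≫ SecTwist.unitorR _)).symm (ih (by omega))
    -- right term
    obtain ⟨qj⟩ := Groth.ModelsGraphs.GenusFormula.nonempty_quotMod_ker j
    obtain ⟨pf⟩ := Groth.Inter.tensor_push j hL' (Coh.structureModule (CohB1.ProjSpace 1 k))
    have hker : j.ker = I := Scheme.Hom.ker_comp_of_isIso e.hom ι
    obtain ⟨et1⟩ := pullback_tensorMod j hL (isInvertible_tensorPow hMinv (i + 1))
    obtain ⟨et2⟩ := pullback_tensorPow j M (i + 1)
    obtain ⟨et3⟩ := nonempty_tensorPow_iso gM (i + 1)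
    obtain ⟨et4⟩ := nonempty_tensorPow_tw (n := 1) (k := k) (-1) (i + 1)
    obtain ⟨et5⟩ := Ega2Proj.nonempty_tensor_iso (gen_one 1 k) (n : ℤ) (-1 * ((i + 1 : ℕ) : ℤ))
    let t := (Scheme.Modules.pullback j).obj L'
    let tt : CohB1.tensorMod t (Coh.structureModule _) ≅
        Twist.twistProjSpace 1 k ((n : ℤ) + -1 * ((i + 1 : ℕ) : ℤ)) :=
      SecTwist.unitorR t ≪≫ et1 ≪≫ PicGrp.tensorModIso hn.some (et2 ≪≫ et3 ≪≫ et4) ≪≫ et5
    have hP : Subsingleton (Coh.HH (CohB1.ProjSpace 1 k) (CohB1.tensorMod t (Coh.structureModule _)) 1) :=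
      sub_of_iso tt.symm
        (Groth.PnCoh.subsingleton_HH_twist _ 1 (by omega) (by omega))
    have hqc : (CohB1.tensorMod t (Coh.structureModule (CohB1.ProjSpace 1 k))).IsQuasicoherent :=
      isQCoh_of_isInvertible (isInvertible_tensorMod (isInvertible_pullback j hL')
        (Groth.EulerDeg.isInvertible_structureModule _))
    have hpush : Subsingleton (Coh.HH X ((Coh.push j).obj
        (CohB1.tensorMod t (Coh.structureModule _))) 1) :=
      (Groth.Duality.PushHLin.pushAdd (A := ULift.{u} ℤ) j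
        (CohB1.tensorMod t (Coh.structureModule _)) 1).toEquiv.subsingleton
    let er : CohB1.tensorMod (ClSub.quotMod I) L' ≅
        (Coh.push j).obj (CohB1.tensorMod t (Coh.structureModule _)) :=
      PicGrp.tensorModIso (eqToIso (by rw [hker]) ≪≫ qj) (Iso.refl L') ≪≫
        (Groth.Inter.tensor_comm _ _).some ≪≫ pf
    have hright : Subsingleton (Coh.HH X (CohB1.tensorMod (ClSub.quotMod I) L') 1) :=
      sub_of_iso er.symm hpush
    -- middle term
    let el : CohB1.tensorMod (Coh.structureModule X) L' ≅ L' :=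
      (tensorMod_comm (Groth.EulerDeg.isInvertible_structureModule X) hL').some ≪≫ SecTwist.unitorR L'
    refine sub_of_iso el (subsingleton_of_forall_eq 0 fun x => ?_)
    obtain ⟨y, hy⟩ := Groth.CohC3.exists_of_hmap_g_eq_zero (A := ULift.{u} ℤ) hS x
      (@Subsingleton.elim _ hright _ _)
    rw [← hy, @Subsingleton.elim _ hleft y 0]
    exact map_zero _

end Groth.ResolveSurf.H1Twist
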