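import Groth.Agent.PicAux.EffCartierLine
import Groth.Agent.Curves1.Lipman.VeryAmple
import Groth.Agent.HensPair.SteinNormalPoint
import Groth.Agent.PnCoh.ProjFinite
import Groth.Agent.BlowUpBasics.AffineBase
import Groth.Agent.DivisorLength.Basic
import Groth.Agent.PropsBasic.AmpleExtend

/-!
# Ideals of the base extended to a modification, their global sections and products
-/

set_option autoImplicit false
set_option backward.isDefEq.respectTransparency.types false
set_option linter.style.haveILetI false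

universe u

open CategoryTheory CategoryTheory.Limits AlgebraicGeometry TopologicalSpace
open Groth.PicAux Groth.PropsBasic.Ample
open Groth.BlowUpBasics (phi)

namespace Groth.ResolveSurf.IdealPowers

variable {X : Scheme.{u}}

/-- The product of ideals as a tensor product, with its effect on sections. -/
theorem exists_iso_mul {I J : X.IdealSheafData} (hI : BlowUp.IsEffCartierIdeal I)
    (hJ : BlowUp.IsEffCartierIdeal J) :
    ∃ e : CohB1.tensorMod (ClSub.idealMod I) (ClSub.idealMod J) ≅ ClSub.idealMod (I * J),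
      ∀ (a : Γ(ClSub.idealMod I, ⊤)) (b : Γ(ClSub.idealMod J, ⊤)),
        OmegaSh.idealSect (I * J) ⊤ (e.hom.app ⊤ (tmulSec a b)) =
          OmegaSh.idealSect I ⊤ a * OmegaSh.idealSect J ⊤ b := by
  have h : ∀ x : X, ∃ (W : X.affineOpens) (a : Γ(ClSub.idealMod I, W.1))
      (b : Γ(ClSub.idealMod J, W.1)) (c : Γ(ClSub.idealMod (I * J), W.1)),
      x ∈ W.1 ∧ Gen _ W.1 a ∧ Gen _ W.1 b ∧ Gen _ W.1 c ∧
      OmegaSh.idealSect (I * J) W.1 c =
        OmegaSh.idealSect I W.1 a * OmegaSh.idealSect J W.1 b := by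
    intro x
    obtain ⟨W₀, hxW₀, -, a, ha, hna, hIa⟩ := exists_gen_idealMod hI x ⊤ trivial
    obtain ⟨W, hxW, hle, b, hb, hnb, hJb⟩ := exists_gen_idealMod hJ x W₀.1 hxW₀
    have hIW : I.ideal W = Ideal.span {OmegaSh.idealSect I W.1 (res _ hle a)} := by
      rw [← I.map_ideal (U := W) (V := W₀) hle, hIa, Ideal.map_span, Set.image_singleton,
        idealSect_res']
      rfl
    have hna' : Divisors.IsNzdSec (OmegaSh.idealSect I W.1 (res _ hle a)) := by
      rw [idealSect_res']
      exact hna.res hle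
    have hIJ : (I * J).ideal W = Ideal.span
        {OmegaSh.idealSect I W.1 (res _ hle a) * OmegaSh.idealSect J W.1 b} := by
      simp only [Scheme.IdealSheafData.ideal_mul, Pi.mul_apply]
      rw [hIW, hJb, Ideal.span_singleton_mul_span_singleton]
    obtain ⟨c, hc⟩ := Groth.OmegaSheaf.exists_idealSect (I * J) W
      (hIJ ▸ Ideal.mem_span_singleton_self _)
    exact ⟨W, res _ hle a, b, c, hxW, ha.res hle, hb,
      gen_idealMod W (hc.symm ▸ hna'.mul hnb) (hc.symm ▸ hIJ), hc⟩
  choose W a b c hxW ha hb hc habc using h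
  have hU : (⨆ x, (W x).1) = ⊤ := eq_top_iff.2 fun x _ => Opens.mem_iSup.2 ⟨x, hxW x⟩
  obtain ⟨e, he⟩ := exists_iso_of_gen (U := fun x => (W x).1) hU _ (fun x => (ha x).tensor (hb x)) c hc
    fun i j r hr => by
      obtain ⟨p, hp⟩ := (ha j).exists_coeff inf_le_right
        (res _ (inf_le_left : (W i).1 ⊓ (W j).1 ≤ (W i).1) (a i))
      obtain ⟨q, hq⟩ := (hb j).exists_coeff inf_le_right
        (res _ (inf_le_left : (W i).1 ⊓ (W j).1 ≤ (W i).1) (b i))
      rw [res_tmulSec, res_tmulSec, hp, hq, tmulSec_smul_left, tmulSec_smul_right, ← mul_smul] at hr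
      have hpq : p * q = r := ((ha j).tensor (hb j)).smul_inj inf_le_right
        (by rw [res_tmulSec]; exact hr)
      refine Groth.OmegaSheaf.idealSect_injective _ _ ?_
      have e1 := congrArg (OmegaSh.idealSect I _) hp
      have e2 := congrArg (OmegaSh.idealSect J _) hq
      simp only [Groth.OmegaSheaf.idealSect_smul, idealSect_res', habc, map_mul] at e1 e2 ⊢
      rw [e1, e2, ← hpq]
      ring
  refine ⟨e, fun u v => Groth.Divisors.section_ext fun x hx => ?_⟩
  obtain ⟨r, hr⟩ := (ha x).exists_coeff le_rfl (res _ (le_top : (W x).1 ≤ ⊤) u)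
  obtain ⟨r', hr'⟩ := (hb x).exists_coeff le_rfl (res _ (le_top : (W x).1 ≤ ⊤) v)
  rw [res_self] at hr hr'
  have h1 : resX X (le_top : (W x).1 ≤ ⊤) (OmegaSh.idealSect (I * J) ⊤ (e.hom.app ⊤ (tmulSec u v))) =
      resX X (le_top : (W x).1 ≤ ⊤) (OmegaSh.idealSect I ⊤ u * OmegaSh.idealSect J ⊤ v) := by
    rw [map_mul, ← idealSect_res', ← idealSect_res', ← idealSect_res', ← app_res, res_tmulSec, hr,
      hr', tmulSec_smul_left, tmulSec_smul_right, Scheme.Modules.Hom.app_smul,
      Scheme.Modules.Hom.app_smul, he, Groth.OmegaSheaf.idealSect_smul,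
      Groth.OmegaSheaf.idealSect_smul, habc, Groth.OmegaSheaf.idealSect_smul,
      Groth.OmegaSheaf.idealSect_smul]
    ring
  have h2 := congrArg (X.presheaf.germ (W x).1 x (hxW x)) h1
  erw [TopCat.Presheaf.germ_res_apply, TopCat.Presheaf.germ_res_apply] at h2
  exact h2

/-- A global function lying in an ideal sheaf everywhere is a section of its module. -/
theorem exists_sect (J : X.IdealSheafData) (g : Γ(X, ⊤))
    (h : ∀ U : X.affineOpens, X.presheaf.map (homOfLE (le_top : U.1 ≤ ⊤)).op g ∈ J.ideal U) :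
    ∃ k : Γ(ClSub.idealMod J, ⊤), OmegaSh.idealSect J ⊤ k = g := by
  refine Groth.OmegaSheaf.exists_idealSect_eq J ⊤ g ?_
  refine Groth.Divisors.section_ext fun z hz => ?_
  obtain ⟨W, hW, -⟩ := Groth.Divisors.exists_affine_le (J.subschemeι z) ⊤ trivial
  have h1 := h W
  rw [← Scheme.IdealSheafData.ker_subschemeι_app, RingHom.mem_ker] at h1
  have h2 := congrArg (J.subscheme.presheaf.germ _ z hW) h1
  rw [map_zero] at h2 ⊢
  rw [← h2]
  erw [← Scheme.Hom.germ_stalkMap_apply J.subschemeι ⊤ z hz g,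
    ← Scheme.Hom.germ_stalkMap_apply J.subschemeι W.1 z hW,
    TopCat.Presheaf.germ_res_apply]

variable {A : Type u} [CommRing A] (f : X ⟶ Spec (CommRingCat.of A))

theorem res_toGlobal (W : X.Opens) (a : A) :
    X.presheaf.map (homOfLE (le_top : W ≤ ⊤)).op (Coh.toGlobal f a) = phi f W a := rfl

/-- In a local ring a principal ideal generated by a family is generated by one of its members. -/
theorem exists_associated {R : Type u} [CommRing R] [IsLocalRing R] [IsDomain R] {ι : Type u}
    [Finite ι] (a : ι → R) {t : R} (ht : t ≠ 0) (h : Ideal.span (Set.range a) = Ideal.span {t}) :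
    ∃ i, Associated (a i) t := by
  cases nonempty_fintype ι
  have hdvd : ∀ i, t ∣ a i := fun i =>
    Ideal.mem_span_singleton.1 (h ▸ Ideal.subset_span ⟨i, rfl⟩)
  choose q hq using hdvd
  obtain ⟨c, hc⟩ := (Ideal.mem_span_range_iff_exists_fun (v := a) (x := t)).1
    (h.ge (Ideal.mem_span_singleton_self t))
  have h1 : ∑ i, c i * q i = 1 := by
    refine mul_left_cancel₀ ht ?_
    rw [Finset.mul_sum, mul_one]
    refine Eq.trans (Finset.sum_congr rfl fun i _ => ?_) hc
    rw [hq i]
    ring
  obtain ⟨i, hi⟩ : ∃ i, IsUnit (c i * q i) := by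
    by_contra h'
    push Not at h'
    exact (IsLocalRing.maximalIdeal.isMaximal R).ne_top ((Ideal.eq_top_iff_one _).2
      (h1 ▸ Submodule.sum_mem _ fun i _ => (IsLocalRing.mem_maximalIdeal _).2 (h' i)))
  exact ⟨i, (associated_mul_unit_left t (q i) (isUnit_of_mul_isUnit_right hi)).symm.trans (by rw [hq i]) |>.symm⟩

variable [IsIntegral X]

/-- Generators of an ideal give sections of its extension generating at every point. -/
theorem exists_covering_sections (J : X.IdealSheafData) (hJ : BlowUp.IsEffCartierIdeal J)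
    {ι : Type u} [Finite ι] (a : ι → A)
    (hid : ∀ W : X.affineOpens, J.ideal W = (Ideal.span (Set.range a)).map (phi f W.1)) :
    ∃ k : ι → Γ(ClSub.idealMod J, ⊤), (∀ i, OmegaSh.idealSect J ⊤ (k i) = Coh.toGlobal f (a i)) ∧
      ∀ x : X, ∃ i, x ∈ gloc (k i) := by
  choose k hk using fun i => exists_sect J (Coh.toGlobal f (a i)) fun U => by
    rw [res_toGlobal, hid]
    exact Ideal.mem_map_of_mem _ (Ideal.subset_span ⟨i, rfl⟩)
  refine ⟨k, hk, fun x => ?_⟩
  obtain ⟨W, hxW, -, t, ht, hnt, hJt⟩ := exists_gen_idealMod hJ x ⊤ trivial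
  choose r hr using fun i => ht.exists_coeff le_rfl (res _ (le_top : W.1 ≤ ⊤) (k i))
  simp only [res_self] at hr
  let γ := X.presheaf.germ W.1 x hxW
  have hval : ∀ i, phi f W.1 (a i) = r i * OmegaSh.idealSect J W.1 t := fun i => by
    rw [← res_toGlobal, ← hk, ← Groth.OmegaSheaf.idealSect_smul, ← hr]
    exact (idealSect_res' J _ _).symm
  have h1 := congrArg (Ideal.map γ.hom) ((hid W).symm.trans hJt)
  rw [Ideal.map_map, Ideal.map_span, Ideal.map_span, Set.image_singleton, ← Set.range_comp] at h1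
  obtain ⟨i, hi⟩ := exists_associated _ (nonZeroDivisors.ne_zero (hnt x hxW)) h1
  refine ⟨i, ?_⟩
  have hi' : Associated (γ.hom (r i) * γ.hom (OmegaSh.idealSect J W.1 t))
      (γ.hom (OmegaSh.idealSect J W.1 t)) := by
    rw [← map_mul, ← hval]
    exact hi
  have hu : IsUnit (γ.hom (r i)) := by
    obtain ⟨v, hv⟩ := hi'
    have h0 := nonZeroDivisors.ne_zero (hnt x hxW)
    rw [mul_right_comm, mul_left_eq_self₀, or_iff_left h0] at hv
    exact IsUnit.of_mul_eq_one _ hv
  have hxb : x ∈ X.basicOpen (r i) := (Scheme.mem_basicOpen _ _ _ hxW).2 hu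
  refine le_gloc (V := X.basicOpen (r i)) ?_ hxb
  have h3 := congrArg (res _ (X.basicOpen_le (r i))) (hr i)
  rw [res_res, res_smul] at h3
  rw [h3]
  exact (ht.res (X.basicOpen_le (r i))).smul_unit (RingedSpace.isUnit_res_basicOpen _ _)

/-- A modification identifies the function fields. -/
theorem birational {S Y : Scheme.{u}} [IsIntegral S] [IsIntegral Y] (f : Y ⟶ S) (U : S.Opens)
    (hU : (U : Set S).Nonempty) [IsIso (f ∣_ U)] :
    ∃ hdom : f.base (genericPoint Y) ⤳ genericPoint S,
      Function.Surjective (CohIII.stalkToFunctionField f (genericPoint S) hdom) := by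
  have hη : genericPoint S ∈ U :=
    ((genericPoint_spec S).mem_open_set_iff U.2).2 (by simpa using hU)
  obtain ⟨x, hx⟩ := (f ∣_ U).homeomorph.surjective ⟨_, hη⟩
  have hx' : f x.1 = genericPoint S :=
    (morphismRestrict_base_coe f U x).symm.trans (congrArg Subtype.val hx)
  have hξ : genericPoint Y ∈ f ⁻¹ᵁ U :=
    ((genericPoint_spec Y).mem_open_set_iff (f ⁻¹ᵁ U).2).2 ⟨x.1, trivial, x.2⟩
  have h1 : f (genericPoint Y) ⤳ genericPoint S := hx' ▸ (genericPoint_specializes x.1).map f.continuous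
  have : IsIso ((f ∣_ U).stalkMap ⟨_, hξ⟩) := inferInstance
  have : IsIso (f.stalkMap (genericPoint Y)) :=
    ((MorphismProperty.isomorphisms CommRingCat.{u}).arrow_mk_iso_iff
      (morphismRestrictStalkMap f U ⟨_, hξ⟩)).1 this
  refine ⟨h1, fun z => ?_⟩
  obtain ⟨a, ha⟩ := (ConcreteCategory.bijective_of_isIso (f.stalkMap (genericPoint Y))).2 z
  have h2 : genericPoint S ⤳ f (genericPoint Y) := genericPoint_specializes _
  refine ⟨S.presheaf.stalkSpecializes h2 a, ?_⟩
  refine Eq.trans ?_ ha
  show f.stalkMap (genericPoint Y) ((S.presheaf.stalkSpecializes h2 ≫ S.presheaf.stalkSpecializes h1) a) = _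
  rw [TopCat.Presheaf.stalkSpecializes_comp, TopCat.Presheaf.stalkSpecializes_refl]
  rfl

/-- A proper modification of a normal local domain has no new functions. -/
theorem toGlobal_bijective [IsDomain A] [IsLocalRing A] [IsNoetherianRing A] [IsIntegrallyClosed A]
    [IsProper f] (U : (Spec (CommRingCat.of A)).Opens) (hU : (U : Set (Spec (CommRingCat.of A))).Nonempty)
    [IsIso (f ∣_ U)] : Function.Bijective (Coh.toGlobal f) := by
  obtain ⟨hdom, hsurj⟩ := birational f U hU
  let c : Spec (CommRingCat.of A) := IsLocalRing.closedPoint A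
  have hic : IsIntegrallyClosed ((Spec (CommRingCat.of A)).presheaf.stalk c) :=
    show IsIntegrallyClosed ((Spec.structureSheaf A).presheaf.stalk c) from
    isIntegrallyClosed_of_isLocalization _ (c.asIdeal : Ideal A).primeCompl
      (Ideal.primeCompl_le_nonZeroDivisors (c.asIdeal : Ideal A))
  obtain ⟨V, -, hcV, hiso⟩ := Groth.HensPair.exists_affine_isIso_app f Groth.PnCoh.projFinite hdom
    (fun x _ => hsurj x) c hic
  have hV : V = ⊤ := eq_top_iff.2 fun w _ => (IsLocalRing.specializes_closedPoint w).mem_open V.2 hcV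
  subst hV
  have : IsIso f.appTop := hiso
  exact (ConcreteCategory.bijective_of_isIso f.appTop).comp
    (ConcreteCategory.bijective_of_isIso (Scheme.ΓSpecIso (CommRingCat.of A)).inv)

end Groth.ResolveSurf.IdealPowers
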