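import Groth.Agent.PicAux.Powers
import Groth.Agent.PicAux.Tensor
import Groth.Agent.PicAux.PicLaw

/-!
Invertible modules on a scheme covered by two opens whose transition function is a power of a fixed unit.
-/

set_option autoImplicit false
set_option backward.isDefEq.respectTransparency.types false
universe u

open CategoryTheory AlgebraicGeometry Groth.PicAux

namespace Groth.ResolveSurf.LineCocycle

variable {X : Scheme.{u}} {U V : X.Opens}

/-- `L` has bases on `U` and `V` differing by `w ^ n` on the overlap. -/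
def Deg (w : (Γ(X, U ⊓ V))ˣ) (L : X.Modules) (n : ℤ) : Prop :=
  ∃ (e : Γ(L, U)) (f : Γ(L, V)), Gen L U e ∧ Gen L V f ∧
    res L (inf_le_left : U ⊓ V ≤ U) e = ((w ^ n : (Γ(X, U ⊓ V))ˣ) : Γ(X, U ⊓ V)) • res L inf_le_right f

variable {w : (Γ(X, U ⊓ V))ˣ} {L M : X.Modules} {n m : ℤ}

theorem Deg.of_iso (h : Deg w L n) (φ : L ≅ M) : Deg w M n := by
  obtain ⟨e, f, he, hf, hef⟩ := h
  refine ⟨φ.hom.app U e, φ.hom.app V f, he.map φ.hom, hf.map φ.hom, ?_⟩
  rw [← app_res, ← app_res, hef, Scheme.Modules.Hom.app_smul]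

theorem deg_structure : Deg w (Coh.structureModule X) 0 :=
  ⟨oneSec X U, oneSec X V, gen_oneSec U, gen_oneSec V, by
    rw [res_oneSec, res_oneSec, zpow_zero, Units.val_one, one_smul]⟩

theorem Deg.tensor (h : Deg w L n) (h' : Deg w M m) : Deg w (CohB1.tensorMod L M) (n + m) := by
  obtain ⟨e, f, he, hf, hef⟩ := h
  obtain ⟨e', f', he', hf', hef'⟩ := h'
  refine ⟨tmulSec e e', tmulSec f f', he.tensor he', hf.tensor hf', ?_⟩
  rw [res_tmulSec, res_tmulSec, hef, hef', tmulSec_smul_left, tmulSec_smul_right, smul_smul,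
    zpow_add, Units.val_mul]

theorem Deg.pow (h : Deg w L n) : ∀ k : ℕ, Deg w (CohB1.tensorPow L k) (k * n)
  | 0 => by rw [Nat.cast_zero, zero_mul]; exact deg_structure
  | k + 1 => by
    have := (Deg.pow h k).tensor h
    rwa [show ((k + 1 : ℕ) : ℤ) * n = k * n + n by push_cast; ring]

/-- Equal transition functions give isomorphic modules. -/
theorem Deg.iso (hcov : U ⊔ V = ⊤) (h : Deg w L n) (h' : Deg w M n) : Nonempty (L ≅ M) := by
  obtain ⟨e, f, he, hf, hef⟩ := h
  obtain ⟨e', f', he', hf', hef'⟩ := h'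
  let W : Bool → X.Opens := fun i => bif i then U else V
  let s : ∀ i, Γ(L, W i) := fun i => match i with
    | true => e
    | false => f
  let t : ∀ i, Γ(M, W i) := fun i => match i with
    | true => e'
    | false => f'
  have hs : ∀ i, Gen L (W i) (s i) := fun i => match i with
    | true => he
    | false => hf
  have ht : ∀ i, Gen M (W i) (t i) := fun i => match i with
    | true => he'
    | false => hf'
  have hW : iSup W = ⊤ := top_le_iff.1 <| hcov.ge.trans (sup_le (le_iSup W true) (le_iSup W false))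
  obtain ⟨φ, -⟩ := exists_iso_of_gen hW s hs t ht fun i j r hr => by
    cases i <;> cases j
    · have : r = 1 := hf.smul_inj (h := inf_le_right) (by rw [one_smul]; exact hr.symm)
      rw [this, one_smul]
    · have hef2 := congrArg (res L (le_of_eq (inf_comm V U) : V ⊓ U ≤ U ⊓ V)) hef
      have hef2' := congrArg (res M (le_of_eq (inf_comm V U) : V ⊓ U ≤ U ⊓ V)) hef'
      rw [res_res, res_smul, res_res] at hef2 hef2'
      let r' : Γ(X, V ⊓ U) := r
      have hr1 : r' * resX X (le_of_eq (inf_comm V U)) ((w ^ n : (Γ(X, U ⊓ V))ˣ) : Γ(X, U ⊓ V)) = 1 := by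
        refine hf.smul_inj (h := inf_le_left) ?_
        rw [one_smul, mul_smul, ← hef2]
        exact hr.symm
      show res M (inf_le_left : V ⊓ U ≤ V) f' = r' • res M (inf_le_right : V ⊓ U ≤ U) e'
      rw [show res M (inf_le_right : V ⊓ U ≤ U) e' = _ from hef2', smul_smul, hr1, one_smul]
    · have : r = ((w ^ n : (Γ(X, U ⊓ V))ˣ) : Γ(X, U ⊓ V)) := hf.smul_inj (h := inf_le_right)
        (hr.symm.trans hef)
      rw [this]
      exact hef'
    · have : r = 1 := he.smul_inj (h := inf_le_right) (by rw [one_smul]; exact hr.symm)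
      rw [this, one_smul]
  exact ⟨φ⟩

/-- The degree is unique as soon as no nonzero power of `w` is a ratio of units of the opens. -/
theorem Deg.unique
    (hw : ∀ (k : ℤ) (a : (Γ(X, U))ˣ) (b : (Γ(X, V))ˣ),
      resX X (inf_le_left : U ⊓ V ≤ U) a = ((w ^ k : (Γ(X, U ⊓ V))ˣ) : Γ(X, U ⊓ V)) * resX X inf_le_right b → k = 0)
    (h : Deg w L n) (h' : Deg w L m) : n = m := by
  obtain ⟨e, f, he, hf, hef⟩ := h
  obtain ⟨e', f', he', hf', hef'⟩ := h'
  obtain ⟨a, ha⟩ := he.exists_unit he'
  obtain ⟨b, hb⟩ := hf.exists_unit hf'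
  rw [ha, hb, res_smul, res_smul, hef, smul_smul, smul_smul] at hef'
  have h1 := hf.smul_inj (h := inf_le_right) hef'
  refine (sub_eq_zero.1 (hw (m - n) a b ?_)).symm
  apply (w ^ n).isUnit.mul_right_cancel
  rw [h1, mul_right_comm, ← Units.val_mul, ← zpow_add, sub_add_cancel]

end Groth.ResolveSurf.LineCocycle
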