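import Groth.Agent.ResolveSurf.RationalDescend

/-!
# Schemes affine over a normal modification with sections coming from the base
-/

set_option autoImplicit false
set_option backward.isDefEq.respectTransparency.types false
set_option linter.style.haveILetI false

universe u

open CategoryTheory Limits AlgebraicGeometry TopologicalSpace Opposite

namespace Groth.ResolveSurf.RationalBaseChange

open Groth.BlowUpBasics Groth.ResolveSurf.RationalDescend

/-- A pushout of commutative rings is generated by the two images. -/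
theorem closure_eq_top_of_isPushout {Z X Y P : CommRingCat.{u}} {f : Z ⟶ X} {g : Z ⟶ Y} {inl : X ⟶ P} {inr : Y ⟶ P}
    (h : IsPushout f g inl inr) : Subring.closure (Set.range inl.hom ∪ Set.range inr.hom) = ⊤ := by
  let Sb := Subring.closure (Set.range inl.hom ∪ Set.range inr.hom)
  let a : X ⟶ CommRingCat.of Sb :=
    CommRingCat.ofHom (inl.hom.codRestrict Sb fun x => Subring.subset_closure (Or.inl ⟨x, rfl⟩))
  let b : Y ⟶ CommRingCat.of Sb :=
    CommRingCat.ofHom (inr.hom.codRestrict Sb fun x => Subring.subset_closure (Or.inr ⟨x, rfl⟩))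
  let v : CommRingCat.of Sb ⟶ P := CommRingCat.ofHom Sb.subtype
  have hv : Function.Injective v.hom := Subtype.val_injective
  have hw : f ≫ a = g ≫ b := CommRingCat.hom_ext (RingHom.ext fun z =>
    hv (ConcreteCategory.congr_hom h.w z))
  have hε : h.desc a b hw ≫ v = 𝟙 P := by
    refine h.hom_ext ?_ ?_
    · rw [← Category.assoc, h.inl_desc, Category.comp_id]; rfl
    · rw [← Category.assoc, h.inr_desc, Category.comp_id]; rfl
  refine eq_top_iff.2 fun p _ => ?_
  have hp : ((h.desc a b hw).hom p).1 = p := ConcreteCategory.congr_hom hε p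
  rw [← hp]
  exact ((h.desc a b hw).hom p).2

lemma phi_comp_app'' {R : Type u} [CommRing R] {Z Y : Scheme.{u}} (i : Z ⟶ Y) (q : Y ⟶ Spec (CommRingCat.of R))
    (W : Y.Opens) : phi (i ≫ q) (i ⁻¹ᵁ W) = (i.app W).hom.comp (phi q W) :=
  phi_comp_app i q W

variable {A R : Type u} [CommRing A] [CommRing R] (φ : A →+* R) {X : Scheme.{u}}
  (g : X ⟶ Spec (CommRingCat.of A))

/-- Functions on the part of `X ×_A R` over an affine open are generated by the two projections. -/
theorem closure_preimage_eq_top {W : X.Opens} (hW : IsAffineOpen W) :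
    Subring.closure (Set.range ((pullback.fst g (Spec.map (CommRingCat.ofHom φ))).app W).hom ∪
      Set.range (phi (pullback.snd g (Spec.map (CommRingCat.ofHom φ)))
        (pullback.fst g (Spec.map (CommRingCat.ofHom φ)) ⁻¹ᵁ W))) = ⊤ := by
  let p := pullback.fst g (Spec.map (CommRingCat.ofHom φ))
  let q := pullback.snd g (Spec.map (CommRingCat.ofHom φ))
  let E := p ⁻¹ᵁ W
  haveI : IsAffine W.toScheme := hW
  have hpb : IsPullback (p ∣_ W) (E.ι ≫ q) (W.ι ≫ g) (Spec.map (CommRingCat.ofHom φ)) :=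
    (isPullback_morphismRestrict p W).paste_vert (IsPullback.of_hasPullback g (Spec.map (CommRingCat.ofHom φ)))
  have htop := closure_eq_top_of_isPushout (isPushout_appTop_of_isPullback hpb)
  have h1 : (p ∣_ W).appTop ≫ E.topIso.hom = W.topIso.hom ≫ p.app W := by
    have := (arrowResLEAppIso p W E le_rfl).hom.w
    rw [← Scheme.Hom.resLE_eq_morphismRestrict, p.app_eq_appLE]
    exact this.symm
  have h2 : (E.ι ≫ q).appTop ≫ E.topIso.hom = q.appLE ⊤ E le_top := by
    rw [Scheme.Hom.comp_appTop, Category.assoc, Scheme.Opens.topIso_hom, Scheme.Hom.appTop, Scheme.Hom.appTop,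
      Scheme.Opens.ι_app, Scheme.Hom.appLE]
    erw [← Functor.map_comp]
    rfl
  refine eq_top_iff.2 fun t _ => ?_
  obtain ⟨t, rfl⟩ := (ConcreteCategory.bijective_of_isIso E.topIso.hom).2 t
  have ht : t ∈ Subring.closure (Set.range (p ∣_ W).appTop.hom ∪ Set.range (E.ι ≫ q).appTop.hom) :=
    htop ▸ Subring.mem_top t
  refine (Subring.closure_le (t := (Subring.closure _).comap E.topIso.hom.hom)).2 ?_ ht
  rintro _ (⟨x, rfl⟩ | ⟨x, rfl⟩)
  · exact Subring.subset_closure (Or.inl ⟨W.topIso.hom x, (ConcreteCategory.congr_hom h1 x).symm⟩)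
  · obtain ⟨r, rfl⟩ := (ConcreteCategory.bijective_of_isIso (Scheme.ΓSpecIso (CommRingCat.of R)).inv).2 x
    exact Subring.subset_closure (Or.inr ⟨r, (ConcreteCategory.congr_hom h2 _).symm⟩)

/-- For a rational singularity, `H¹(O)` vanishes on closed subschemes of base changes of normal
modifications along affine maps. -/
theorem subsingleton_H1_closed_baseChange [IsDomain A] [IsLocalRing A] [IsNoetherianRing A] [IsIntegrallyClosed A]
    (hN : CAlg.IsNagata A) (hdim : ringKrullDim A = 2) (hA : Curv2.IsRationalSing A)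
    [IsProper g] [IsIntegral X] (hXn : Pi1.IsNormalScheme X)
    (hbir : ∃ U : (Spec (CommRingCat.of A)).Opens, (U : Set (Spec (CommRingCat.of A))).Nonempty ∧ IsIso (g ∣_ U))
    {Z : Scheme.{u}} (i : Z ⟶ pullback g (Spec.map (CommRingCat.ofHom φ))) [IsClosedImmersion i] :
    Subsingleton (Coh.HH Z (Coh.structureModule Z) 1) := by
  let p := pullback.fst g (Spec.map (CommRingCat.ofHom φ))
  let q := pullback.snd g (Spec.map (CommRingCat.ofHom φ))
  let γ : Z ⟶ X := i ≫ p
  haveI : IsAffineHom p := MorphismProperty.pullback_fst _ _ inferInstance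
  haveI : IsAffineHom γ := inferInstanceAs (IsAffineHom (i ≫ p))
  set F := (Scheme.Modules.pushforward γ).obj (Coh.structureModule Z) with hF
  have hsp : Groth.Ega2Proj.SpansStalks F := by
    intro x
    rw [eq_top_iff]
    intro s _
    obtain ⟨V, hV, s, rfl⟩ := Groth.QCohMod.exists_germ F x s
    obtain ⟨_, ⟨W, hW, rfl⟩, hxW, hWV⟩ := X.isBasis_affineOpens.exists_subset_of_mem_open hV V.2
    rw [← Groth.QCohMod.germ_res F hWV x hxW s]
    generalize Groth.QCohMod.res F hWV s = s'
    obtain ⟨v, hv⟩ := i.app_surjective (p ⁻¹ᵁ W) (hW.preimage p) (show Γ(Z, γ ⁻¹ᵁ W) from s')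
    letI : Algebra Γ(X, W) Γ(Z, γ ⁻¹ᵁ W) := (γ.app W).hom.toAlgebra
    let β : R →+* Γ(Z, γ ⁻¹ᵁ W) := phi (i ≫ q) (γ ⁻¹ᵁ W)
    have hmem : (show Γ(Z, γ ⁻¹ᵁ W) from s') ∈ Algebra.adjoin Γ(X, W) (Set.range β) := by
      rw [← hv]
      have hv' : v ∈ Subring.closure (Set.range (p.app W).hom ∪ Set.range (phi q (p ⁻¹ᵁ W))) :=
        (closure_preimage_eq_top φ g hW).symm ▸ Subring.mem_top v
      refine (Subring.closure_le (t := (Algebra.adjoin Γ(X, W) (Set.range β)).toSubring.comap
        (i.app (p ⁻¹ᵁ W)).hom)).2 ?_ hv'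
      rintro _ (⟨r, rfl⟩ | ⟨r, rfl⟩)
      · exact Subalgebra.algebraMap_mem (Algebra.adjoin Γ(X, W) (Set.range β)) r
      · exact Algebra.subset_adjoin ⟨r, DFunLike.congr_fun (phi_comp_app'' i q (p ⁻¹ᵁ W)) r⟩
    have hspan : (Algebra.adjoin Γ(X, W) (Set.range β)).toSubmodule = Submodule.span Γ(X, W) (Set.range β) := by
      have hcl : (Submonoid.closure (Set.range β) : Set Γ(Z, γ ⁻¹ᵁ W)) = Set.range β :=
        congrArg SetLike.coe (Submonoid.closure_eq (MonoidHom.mrange (β : R →* Γ(Z, γ ⁻¹ᵁ W))))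
      rw [Algebra.adjoin_eq_span, hcl]
    have hs : (show Γ(Z, γ ⁻¹ᵁ W) from s') ∈ Submodule.span Γ(X, W) (Set.range β) := hspan ▸ hmem
    have key : ∀ z ∈ Submodule.span Γ(X, W) (Set.range β), Groth.QCohMod.germ F x hxW (show Γ(F, W) from z) ∈
        Submodule.span (X.presheaf.stalk x) (Set.range fun t : Γ(F, (⊤ : X.Opens)) =>
          Groth.QCohMod.germ F x (Set.mem_univ x : x ∈ (⊤ : X.Opens)) t) := fun z hz => by
      induction hz using Submodule.span_induction with
      | mem z hz =>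
        obtain ⟨r, rfl⟩ := hz
        refine Submodule.subset_span ⟨phi (i ≫ q) (γ ⁻¹ᵁ ⊤) r, ?_⟩
        refine (Groth.QCohMod.germ_res F (le_top : W ≤ ⊤) x hxW _).symm.trans ?_
        exact congrArg _ (DFunLike.congr_fun (phi_restrict (i ≫ q) (γ.preimage_mono (le_top : W ≤ ⊤))) r).symm
      | zero => exact (map_zero (Groth.QCohMod.germ F x hxW)).symm ▸ Submodule.zero_mem _
      | add a b _ _ ha hb => exact (map_add (Groth.QCohMod.germ F x hxW) a b).symm ▸ Submodule.add_mem _ ha hb
      | smul c a _ ha => exact (Groth.QCohMod.germ_smul F x hxW c a).symm ▸ Submodule.smul_mem _ _ ha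
    exact key _ hs
  haveI : (Coh.structureModule Z).IsQuasicoherent := inferInstance
  haveI hq : F.IsQuasicoherent := Groth.QCohMod.isQCoh_pushforward _ γ
  have hvan := Groth.Agent.S7298.result A hN hdim hA X g hXn hbir F hq hsp.isGloballyGenerated
  letI : X.Over (Spec (CommRingCat.of A)) := ⟨g⟩
  letI : Z.Over (Spec (CommRingCat.of A)) := ⟨γ ≫ g⟩
  haveI : CompactSpace X := QuasiCompact.compactSpace_of_compactSpace g
  haveI : X.IsSeparated := ⟨by rw [← terminal.comp_from g]; infer_instance⟩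
  obtain ⟨e⟩ := Groth.Limits.FibreVanishing.exists_pushEquiv A γ rfl (Coh.structureModule Z) 1
  exact e.symm.toEquiv.subsingleton

omit [CommRing A] [CommRing R] in
/-- A closed subscheme with irreducible support is irreducible. -/
theorem irreducibleSpace_subscheme {Y : Scheme.{u}} (K : Y.IdealSheafData)
    (h : IsIrreducible (K.support : Set Y)) : IrreducibleSpace K.subscheme := by
  haveI : Nonempty K.subscheme := by
    obtain ⟨y, hy⟩ := h.1
    obtain ⟨z, -⟩ := (Scheme.IdealSheafData.range_subschemeι K).ge hy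
    exact ⟨z⟩
  refine { toPreirreducibleSpace := ⟨?_⟩, toNonempty := ‹_› }
  rintro u v hu hv ⟨a, -, ha⟩ ⟨b, -, hb⟩
  obtain ⟨u', hu', rfl⟩ := K.subschemeι.isEmbedding.isInducing.isOpen_iff.1 hu
  obtain ⟨v', hv', rfl⟩ := K.subschemeι.isEmbedding.isInducing.isOpen_iff.1 hv
  obtain ⟨y, hy, hyu, hyv⟩ := h.2 u' v' hu' hv' ⟨_, (Scheme.IdealSheafData.range_subschemeι K).le ⟨a, rfl⟩, ha⟩
    ⟨_, (Scheme.IdealSheafData.range_subschemeι K).le ⟨b, rfl⟩, hb⟩
  obtain ⟨z, hz⟩ := (Scheme.IdealSheafData.range_subschemeι K).ge hy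
  exact ⟨z, trivial, show K.subschemeι z ∈ u' from hz ▸ hyu, show K.subschemeι z ∈ v' from hz ▸ hyv⟩

omit [CommRing A] [CommRing R] in
/-- Over an open where a morphism is an isomorphism everything specialises from the point over the generic one. -/
theorem mem_closure_of_iso {Q S : Scheme.{u}} (q : Q ⟶ S) (U : S.Opens) [IsIso (q ∣_ U)] {η : S}
    (hη : IsGenericPoint η Set.univ) (w : (q ⁻¹ᵁ U : Q.Opens).toScheme) (hw : ((q ∣_ U) w).1 = η)
    (z : (q ⁻¹ᵁ U : Q.Opens).toScheme) : z.1 ∈ closure ({w.1} : Set Q) := by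
  have h1 : (q ∣_ U) w ⤳ (q ∣_ U) z :=
    U.ι.isEmbedding.specializes_iff.1 (show ((q ∣_ U) w).1 ⤳ ((q ∣_ U) z).1 by
      rw [hw]; exact hη.specializes trivial)
  have h2 : w ⤳ z := (q ∣_ U).isEmbedding.specializes_iff.1 h1
  exact (h2.map (q ⁻¹ᵁ U).ι.continuous).mem_closure

end Groth.ResolveSurf.RationalBaseChange
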