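import Groth.Agent.ResolveSurf.RationalDescend
import Groth.Agent.BlowUpBasics.Universal
import Mathlib.AlgebraicGeometry.Morphisms.Finite

/-!
# Sections of normalised blow-ups over charts
-/

set_option autoImplicit false
set_option backward.isDefEq.respectTransparency.types false
set_option linter.style.haveILetI false

universe u

open CategoryTheory Limits AlgebraicGeometry TopologicalSpace Opposite

namespace Groth.ResolveSurf.RationalBlowUp

open Groth.BlowUpBasics Groth.ResolveSurf.RationalDescend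

/-- For an open immersion into an integral scheme with nonempty source, pulling back functions is injective. -/
theorem app_injective {X P : Scheme.{u}} [IsIntegral X] (π : P ⟶ X) [IsOpenImmersion π] [Nonempty P] (W : X.Opens) :
    Function.Injective (π.app W) := by
  intro F G h
  by_cases hW : (W : Set X).Nonempty
  · have hgen : genericPoint X ∈ W := ((genericPoint_spec X).mem_open_set_iff W.2).2 (by simpa using hW)
    obtain ⟨p, hp⟩ : genericPoint X ∈ Set.range π :=
      ((genericPoint_spec X).mem_open_set_iff π.opensRange.2).2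
        ⟨π (Classical.arbitrary P), trivial, Set.mem_range_self _⟩
    haveI : Nonempty W := ⟨⟨_, hgen⟩⟩
    apply germ_injective_of_isIntegral X (π p) (show π p ∈ W from hp ▸ hgen)
    apply (ConcreteCategory.bijective_of_isIso (π.stalkMap p)).1
    erw [Scheme.Hom.germ_stalkMap_apply, Scheme.Hom.germ_stalkMap_apply, h]
  · haveI : Subsingleton Γ(X, W) := by
      rw [show W = ⊥ from TopologicalSpace.Opens.ext (Set.not_nonempty_iff_eq_empty.1 hW)]
      exact CommRingCat.subsingleton_of_isTerminal X.sheaf.isTerminalOfEmpty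
    exact Subsingleton.elim _ _

variable {A : Type u} [CommRing A] {I : Ideal A}

/-- A function on the part over the chart of `d` becomes a global function in the `N`-th power of the centre
after multiplying by a power of `d`. -/
theorem exists_global {X P : Scheme.{u}} [IsIntegral X] [CompactSpace X] (g : X ⟶ Spec (CommRingCat.of A))
    (hC : BlowUp.IsEffCartierIdeal ((sheafOf I).comap g)) (d : I)
    (π₁ : P ⟶ X) [IsOpenImmersion π₁] [IsAffineHom π₁] [Nonempty P]
    (π₂ : P ⟶ Spec (CommRingCat.of (BlowUp.affineAlgebra A I (d : A))))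
    (w : π₁ ≫ g = π₂ ≫ chartBase I (d : A))
    (hr : ∀ W : X.affineOpens, phi g W.1 (d : A) ∈ nonZeroDivisors Γ(X, W.1) →
      I.map (phi g W.1) ≤ Ideal.span {phi g W.1 (d : A)} → W.1 ≤ π₁.opensRange)
    (s : Γ(P, π₁ ⁻¹ᵁ ⊤)) :
    ∃ (N : ℕ) (F : Γ(X, ⊤)), π₁.app ⊤ F = s * phi π₂ (π₁ ⁻¹ᵁ ⊤) (algebraMap A _ (d : A)) ^ N ∧
      ∀ x : X, ∃ U : X.affineOpens, x ∈ U.1 ∧ X.presheaf.map (homOfLE (le_top : U.1 ≤ ⊤)).op F ∈
        (((sheafOf I).comap g) ^ N).ideal U := by
  classical
  choose W hxW hWtop a haI hnzd hspan using fun x : X =>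
    exists_local_generator g hC x (O := ⊤) trivial
  have hloc : ∀ x : X, ∃ n : ℕ, ∀ N, n ≤ N → ∃ F : Γ(X, (W x).1),
      F ∈ (((sheafOf I).comap g) ^ N).ideal (W x) ∧
      π₁.app (W x).1 F = (P.presheaf.map (homOfLE (π₁.preimage_mono le_top)).op).hom s *
        phi π₂ (π₁ ⁻¹ᵁ (W x).1) (algebraMap A _ (d : A)) ^ N := by
    intro x
    generalize (P.presheaf.map (homOfLE (π₁.preimage_mono le_top)).op).hom s = s'
    obtain ⟨t, ht⟩ := Ideal.mem_span_singleton'.1 ((hspan x).le (Ideal.mem_map_of_mem _ d.2))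
    have hphi : ∀ r : A, (π₁.app (W x).1).hom (phi g (W x).1 r) =
        phi π₂ (π₁ ⁻¹ᵁ (W x).1) (algebraMap A _ r) := fun r => by
      change ((π₁.app (W x).1).hom.comp (phi g (W x).1)) r = _
      rw [← phi_comp_app, w, chartBase, phi_comp_Spec]
      rfl
    let α : Γ(X, (W x).1) →+* Γ(P, π₁ ⁻¹ᵁ (W x).1) := (π₁.app (W x).1).hom
    let W' : P.affineOpens := ⟨π₁ ⁻¹ᵁ (W x).1, (W x).2.preimage π₁⟩
    have hαnzd : α (phi g (W x).1 (a x)) ∈ nonZeroDivisors Γ(P, π₁ ⁻¹ᵁ (W x).1) := by
      have := appLE_mem_nonZeroDivisors π₁ (W x) W' le_rfl (hnzd x)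
      rwa [← π₁.app_eq_appLE] at this
    have htc : IsUnit (α t) := by
      refine IsUnit.of_mul_eq_one (phi π₂ (π₁ ⁻¹ᵁ (W x).1) (frac I (d : A) (a x) (haI x))) ?_
      have h1 : α (phi g (W x).1 (d : A)) * phi π₂ (π₁ ⁻¹ᵁ (W x).1) (frac I (d : A) (a x) (haI x)) =
          α (phi g (W x).1 (a x)) := by
        rw [hphi, hphi, ← map_mul, mul_comm, frac_mul_algebraMap (a x) (haI x)]
      rw [← ht, map_mul] at h1
      have h2 : (α t * phi π₂ (π₁ ⁻¹ᵁ (W x).1) (frac I (d : A) (a x) (haI x)) - 1) *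
          α (phi g (W x).1 (a x)) = 0 := by rw [sub_mul, one_mul, sub_eq_zero, mul_right_comm]; exact h1
      exact sub_eq_zero.1 (mem_nonZeroDivisors_iff_right.1 hαnzd _ h2)
    let Wt : X.affineOpens := X.affineBasicOpen t
    have hle : Wt.1 ≤ (W x).1 := X.basicOpen_le t
    have htu : IsUnit ((X.presheaf.map (homOfLE hle).op).hom t) := X.toRingedSpace.isUnit_res_basicOpen t
    have hrange : Wt.1 ≤ π₁.opensRange := by
      refine hr Wt ?_ ?_
      · rw [phi_restrict g hle, RingHom.comp_apply, ← ht, map_mul]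
        exact mul_mem htu.mem_nonZeroDivisors (restrict_mem_nonZeroDivisors hle (hnzd x))
      · rw [phi_restrict g hle, RingHom.comp_apply, ← ht, ← Ideal.map_map, hspan x, Ideal.map_span,
          Set.image_singleton, map_mul, Ideal.span_singleton_mul_left_unit htu]
    haveI := π₁.isIso_app Wt.1 hrange
    have hpre : π₁ ⁻¹ᵁ (W x).1 ≤ π₁ ⁻¹ᵁ Wt.1 := by
      change _ ≤ π₁ ⁻¹ᵁ X.basicOpen t
      rw [Scheme.preimage_basicOpen, P.basicOpen_of_isUnit]
      exact htc
    have hpre' : π₁ ⁻¹ᵁ Wt.1 ≤ π₁ ⁻¹ᵁ (W x).1 := π₁.preimage_mono hle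
    let e : Γ(P, π₁ ⁻¹ᵁ (W x).1) →+* Γ(P, π₁ ⁻¹ᵁ Wt.1) := (P.presheaf.map (homOfLE hpre').op).hom
    have hnat : ∀ r, e (α r) = π₁.app Wt.1 ((X.presheaf.map (homOfLE hle).op).hom r) := fun r =>
      (ConcreteCategory.congr_hom (π₁.naturality (homOfLE hle).op) r).symm
    have hinj : Function.Injective e := fun p q hpq => by
      have h1 := congrArg (P.presheaf.map (homOfLE hpre).op).hom hpq
      rw [← CommRingCat.comp_apply, ← CommRingCat.comp_apply, ← Functor.map_comp] at h1
      simpa using h1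
    obtain ⟨z, hz⟩ := (ConcreteCategory.bijective_of_isIso (π₁.app Wt.1)).2 (e s')
    letI := (X.presheaf.map (homOfLE hle).op).hom.toAlgebra
    haveI : IsLocalization.Away t Γ(X, Wt.1) := (W x).2.isLocalization_basicOpen t
    obtain ⟨n, w', hw'⟩ := IsLocalization.Away.surj (S := Γ(X, Wt.1)) t z
    have hkey : s' * α t ^ n = α w' := by
      apply hinj
      rw [map_mul, map_pow, hnat, hnat, ← hz, ← map_pow, ← map_mul]
      exact congrArg _ hw'
    refine ⟨n, fun N hN => ⟨w' * t ^ (N - n) * phi g (W x).1 (a x) ^ N, ?_, ?_⟩⟩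
    · rw [Scheme.IdealSheafData.ideal_pow, Pi.pow_apply, ideal_comap_sheafOf, hspan x]
      exact Ideal.mul_mem_left _ _ (Ideal.pow_mem_pow (Ideal.mem_span_singleton_self _) N)
    · change α (w' * t ^ (N - n) * phi g (W x).1 (a x) ^ N) = _
      rw [map_mul, map_mul, map_pow, map_pow, ← hkey, mul_assoc s', ← pow_add, Nat.add_sub_cancel' hN,
        mul_assoc, ← mul_pow, ← map_mul, ht, hphi]
  choose n hn using hloc
  obtain ⟨T, hT⟩ := isCompact_univ.elim_finite_subcover (fun x => ((W x).1 : Set X)) (fun x => (W x).1.2)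
    (fun x _ => Set.mem_iUnion.2 ⟨x, hxW x⟩)
  let N := T.sup n
  choose F hFmem hFapp using fun x : T => hn x.1 N (Finset.le_sup x.2)
  have hcov : (⊤ : X.Opens) ≤ ⨆ x : T, (W x.1).1 := fun x _ => by
    obtain ⟨y, hy, hxy⟩ := Set.mem_iUnion₂.1 (hT (Set.mem_univ x))
    exact Opens.mem_iSup.2 ⟨⟨y, hy⟩, hxy⟩
  let G : Γ(P, π₁ ⁻¹ᵁ ⊤) := s * phi π₂ (π₁ ⁻¹ᵁ ⊤) (algebraMap A _ (d : A)) ^ N
  have hG : ∀ x : T, π₁.app (W x.1).1 (F x) = P.presheaf.map (homOfLE (π₁.preimage_mono le_top)).op G := fun x => by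
    rw [hFapp x]
    change _ = (P.presheaf.map (homOfLE (π₁.preimage_mono le_top)).op).hom G
    rw [map_mul, map_pow, phi_restrict π₂ (π₁.preimage_mono (le_top : (W x.1).1 ≤ ⊤))]
    rfl
  obtain ⟨F₀, hF₀, -⟩ := X.sheaf.existsUnique_gluing' (fun x : T => (W x.1).1) ⊤ (fun x => homOfLE le_top) hcov F
    (fun x y => app_injective π₁ _ (by
      have hx := ConcreteCategory.congr_hom (π₁.naturality (Opens.infLELeft (W x.1).1 (W y.1).1).op) (F x)
      have hy := ConcreteCategory.congr_hom (π₁.naturality (Opens.infLERight (W x.1).1 (W y.1).1).op) (F y)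
      refine hx.trans (Eq.trans ?_ hy.symm)
      change (P.presheaf.map _) (π₁.app _ (F x)) = (P.presheaf.map _) (π₁.app _ (F y))
      rw [hG x, hG y, ← CommRingCat.comp_apply, ← CommRingCat.comp_apply, ← Functor.map_comp, ← Functor.map_comp]
      rfl))
  refine ⟨N, F₀, ?_, fun x => ?_⟩
  · refine P.sheaf.eq_of_locally_eq' (fun x : T => π₁ ⁻¹ᵁ (W x.1).1) (π₁ ⁻¹ᵁ ⊤) (fun x => homOfLE (π₁.preimage_mono le_top))
      (fun p _ => ?_) _ _ fun x => ?_
    · obtain ⟨i, hi⟩ := Opens.mem_iSup.1 (hcov (Set.mem_univ (π₁ p)))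
      exact Opens.mem_iSup.2 ⟨i, hi⟩
    · refine ((ConcreteCategory.congr_hom (π₁.naturality (homOfLE (le_top : (W x.1).1 ≤ ⊤)).op) F₀).symm.trans ?_).trans (hG x)
      exact congrArg _ (hF₀ x)
  · obtain ⟨i, hi⟩ := Opens.mem_iSup.1 (hcov (Set.mem_univ x))
    refine ⟨W i.1, hi, ?_⟩
    rw [show X.presheaf.map (homOfLE (le_top : (W i.1).1 ≤ ⊤)).op F₀ = F i from hF₀ i]
    exact hFmem i

/-- A normal modification onto `Spec` of a normal domain has only the constants as global functions. -/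
theorem bijective_appTop [IsDomain A] [IsNoetherianRing A] [IsIntegrallyClosed A] {X : Scheme.{u}}
    (g : X ⟶ Spec (CommRingCat.of A)) [IsProper g] [IsIntegral X] (U : (Spec (CommRingCat.of A)).Opens)
    (hU : (U : Set (Spec (CommRingCat.of A))).Nonempty) [IsIso (g ∣_ U)] : Function.Bijective (g.app ⊤) := by
  obtain ⟨hgen, hbir⟩ := birational g U hU
  have hN : ∀ x : Spec (CommRingCat.of A), IsIntegrallyClosed ((Spec (CommRingCat.of A)).presheaf.stalk x) := fun x => by
    letI : Algebra A ((Spec (CommRingCat.of A)).presheaf.stalk x) := StructureSheaf.stalkAlgebra A x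
    haveI : IsLocalization.AtPrime ((Spec (CommRingCat.of A)).presheaf.stalk x) x.asIdeal :=
      StructureSheaf.IsLocalization.to_stalk A x
    exact isIntegrallyClosed_of_isLocalization _ x.asIdeal.primeCompl x.asIdeal.primeCompl_le_nonZeroDivisors
  exact (ConcreteCategory.isIso_iff_bijective ((ClSub.unitToPush g).app ⊤)).1 (Scheme.Modules.Hom.isIso_iff_isIso_app.mp
    (Groth.ModelsGraphs.RatSingPush.isIso_unitToPush g hN hgen hbir) ⊤)

/-- A blow-up is normal when global sections of the powers of the centre on the normalised blow-up are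
the powers of the centre. -/
theorem isNormal_blowUp [IsDomain A] [IsNoetherianRing A] [IsIntegrallyClosed A] (hN : CAlg.IsNagata A)
    (hI : I ≠ ⊥)
    (hsec : ∀ (X : Scheme.{u}) (g : X ⟶ Spec (CommRingCat.of A)) [IsProper g] [IsIntegral X],
      Pi1.IsNormalScheme X →
      (∃ U : (Spec (CommRingCat.of A)).Opens, (U : Set (Spec (CommRingCat.of A))).Nonempty ∧ IsIso (g ∣_ U)) →
      BlowUp.IsEffCartierIdeal ((sheafOf I).comap g) →
      ∀ (n : ℕ) (r : A), (∀ U : X.affineOpens, phi g U.1 r ∈ (((sheafOf I).comap g) ^ n).ideal U) → r ∈ I ^ n)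
    {X₀ : Scheme.{u}} (b₀ : X₀ ⟶ Spec (CommRingCat.of A)) (hb₀ : BlowUp.IsBlowUp b₀ (sheafOf I)) :
    Pi1.IsNormalScheme X₀ := by
  let X₁ := Proj (Rees.deg (reesAlgebra I))
  let b := projBase I
  let T : Atlas I b := projAtlas I
  have hb : BlowUp.IsBlowUp b (sheafOf I) := isBlowUp_projBase I
  haveI : IsProper b := Groth.HTopHyper.isProper_projBase (IsNoetherian.noetherian I)
  obtain ⟨e, -⟩ := exists_iso_of_isBlowUp hb₀ hb
  obtain ⟨X, i, g, hi, hgp, hXi, hig, higen, hXn, hbirA, hC⟩ := exists_normalized_blowUp hN I hI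
  haveI := hi
  haveI := hgp
  haveI := hXi
  have hsI : sheafOf I ≠ ⊥ := fun h => hI (by
    refine le_bot_iff.mp (sheafOf_le_iff.mp ?_)
    rw [h]
    exact bot_le)
  obtain ⟨hint, -, -⟩ := Groth.Agent.S2348.result _ hsI b hb
  haveI := hint
  have key : ∀ y : X₁, IsDomain (X₁.presheaf.stalk y) ∧ IsIntegrallyClosed (X₁.presheaf.stalk y) := by
    intro y
    obtain ⟨d, c₀, rfl⟩ := T.covers y
    haveI := T.isOpenImmersion d
    have hd : (d : A) ≠ 0 := fun h => by
      haveI : Subsingleton (Localization.Away (d : A)) :=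
        IsLocalization.subsingleton (M := Submonoid.powers (d : A)) ⟨1, by simp [h]⟩
      haveI : Subsingleton (BlowUp.affineAlgebra A I (d : A)) := Subtype.val_injective.subsingleton
      exact (c₀ : PrimeSpectrum (BlowUp.affineAlgebra A I (d : A))).isPrime.ne_top (Subsingleton.elim _ _)
    let P : Scheme.{u} := pullback i (T.j d)
    let π₁ : P ⟶ X := pullback.fst i (T.j d)
    let π₂ : P ⟶ Spec (CommRingCat.of (BlowUp.affineAlgebra A I (d : A))) := pullback.snd i (T.j d)
    have w : π₁ ≫ g = π₂ ≫ chartBase I (d : A) := by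
      rw [← T.fac, ← hig, pullback.condition_assoc]
    haveI : IsFinite π₂ := MorphismProperty.pullback_snd _ _ hi
    haveI : IsAffine P := isAffine_of_isAffineHom π₂
    haveI : IsAffineHom (T.j d) := by
      haveI : IsAffineHom (T.j d ≫ b) := by rw [T.fac]; infer_instance
      exact IsAffineHom.of_comp (T.j d) b
    haveI : IsAffineHom π₁ := MorphismProperty.pullback_fst _ _ inferInstance
    haveI : Nonempty P := by
      have h1 : genericPoint X₁ ∈ Set.range (T.j d) :=
        ((genericPoint_spec X₁).mem_open_set_iff (T.j d).opensRange.2).2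
          ⟨T.j d c₀, trivial, Set.mem_range_self _⟩
      obtain ⟨c, hc⟩ := h1
      obtain ⟨p, -, -⟩ := Scheme.exists_preimage_of_isPullback (IsPullback.of_hasPullback i (T.j d))
        (genericPoint X) c ((higen inferInstance).trans hc.symm)
      exact ⟨p⟩
    haveI : IsIntegral P := isIntegral_of_isOpenImmersion π₁
    obtain ⟨U, hU, hiso⟩ := id hbirA
    haveI := hiso
    haveI : CompactSpace X := QuasiCompact.compactSpace_of_compactSpace g
    have htop : Function.Bijective (g.app ⊤) := bijective_appTop g U hU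
    have hphiA : ∀ r : A, π₁.app ⊤ (phi g ⊤ r) = phi π₂ (π₁ ⁻¹ᵁ ⊤) (algebraMap A _ r) := fun r => by
      change ((π₁.app ⊤).hom.comp (phi g ⊤)) r = _
      rw [← phi_comp_app, w, chartBase, phi_comp_Spec]
      rfl
    have hphig : ∀ r : A, phi g ⊤ r = g.app ⊤ ((Scheme.ΓSpecIso (CommRingCat.of A)).inv r) := fun r => by
      rw [phi, g.app_eq_appLE]
      rfl
    have hphig0 : ∀ r : A, phi g ⊤ r = 0 → r = 0 := fun r hr => by
      rw [hphig] at hr
      replace hr := hr.trans (map_zero (g.app ⊤).hom).symm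
      exact (map_eq_zero_iff _ (ConcreteCategory.bijective_of_isIso (Scheme.ΓSpecIso (CommRingCat.of A)).inv).1).1
        (htop.1 hr)
    haveI : Nonempty (π₁ ⁻¹ᵁ (⊤ : X.Opens)) := ⟨⟨Classical.arbitrary P, trivial⟩⟩
    have hdnz : phi π₂ (π₁ ⁻¹ᵁ ⊤) (algebraMap A _ (d : A)) ≠ 0 := fun h => by
      rw [← hphiA] at h
      exact hd (hphig0 _ (app_injective π₁ ⊤ (h.trans (map_zero (π₁.app ⊤).hom).symm)))
    -- the chart of the normalisation has the same functions
    have hbij : Function.Bijective (phi π₂ (π₁ ⁻¹ᵁ ⊤)) := by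
      refine ⟨(injective_iff_map_eq_zero _).2 fun z hz => ?_, fun s => ?_⟩
      · obtain ⟨n, r, hr⟩ := IsLocalization.Away.surj (d : A) (z : Localization.Away (d : A))
        have hr' : z * algebraMap A _ ((d : A) ^ n) = algebraMap A _ r := Subtype.ext (by simpa using hr)
        have h1 := congrArg (phi π₂ (π₁ ⁻¹ᵁ ⊤)) hr'
        rw [map_mul, hz, zero_mul, ← hphiA] at h1
        have h2 : r = 0 := hphig0 r (app_injective π₁ ⊤ (h1.symm.trans (map_zero _).symm))
        rw [h2, map_zero, map_pow] at hr'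
        exact (mul_right_mem_nonZeroDivisors_eq_zero_iff (pow_mem (algebraMap_self_mem_nonZeroDivisors (I := I) (a := (d : A))) n)).1 hr'
      · obtain ⟨N, F, hF, hFloc⟩ := exists_global g hC d π₁ π₂ w (fun W h1 h2 z hz => by
          change z ∈ Set.range π₁
          rw [Scheme.Pullback.range_fst]
          exact mem_range_chart T i g hig hC d W h1 h2 z hz) s
        obtain ⟨r₀, hr₀⟩ := htop.2 F
        obtain ⟨r, rfl⟩ := (ConcreteCategory.bijective_of_isIso (Scheme.ΓSpecIso (CommRingCat.of A)).inv).2 r₀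
        rw [← hphig] at hr₀
        have hrI : r ∈ I ^ N := by
          refine hsec X g hXn hbirA hC N r ?_
          choose V hxV hV using hFloc
          have hle : (sheafOf (Ideal.span {r})).comap g ≤ ((sheafOf I).comap g) ^ N := by
            refine Scheme.IdealSheafData.le_of_iSup_eq_top V
              (eq_top_iff.2 fun x _ => Opens.mem_iSup.2 ⟨x, hxV x⟩) fun x => ?_
            rw [ideal_comap_sheafOf, Ideal.map_span, Set.image_singleton, Ideal.span_singleton_le_iff_mem,
              phi_restrict g (le_top : (V x).1 ≤ ⊤), RingHom.comp_apply, hr₀]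
            exact hV x
          intro U
          refine hle U ?_
          rw [ideal_comap_sheafOf]
          exact Ideal.mem_map_of_mem _ (Ideal.mem_span_singleton_self r)
        obtain ⟨z, hz⟩ := exists_mul_pow_eq (a := (d : A)) N r hrI
        have hz' : z * algebraMap A _ ((d : A) ^ N) = algebraMap A _ r := Subtype.ext (by simpa using hz)
        refine ⟨z, mul_right_cancel₀ (pow_ne_zero N hdnz) ?_⟩
        rw [← hF, ← hr₀, hphiA, ← hz', map_mul, map_pow, map_pow]
    haveI : IsIso π₂.appTop := by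
      rw [ConcreteCategory.isIso_iff_bijective]
      have h1 : Function.Bijective (π₂.app ⊤ ∘ (Scheme.ΓSpecIso (CommRingCat.of (BlowUp.affineAlgebra A I (d : A)))).inv) := by
        refine Eq.subst (motive := Function.Bijective) (funext fun c => ?_) hbij
        rw [phi, π₂.app_eq_appLE]
        rfl
      exact (Function.Bijective.of_comp_iff _ (ConcreteCategory.bijective_of_isIso
        (Scheme.ΓSpecIso (CommRingCat.of (BlowUp.affineAlgebra A I (d : A)))).inv)).1 h1
    haveI : IsIso π₂ := by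
      have h1 := Scheme.isoSpec_hom_naturality π₂
      have h2 : π₂ = P.isoSpec.hom ≫ Spec.map π₂.appTop ≫ (Spec (CommRingCat.of (BlowUp.affineAlgebra A I (d : A)))).isoSpec.inv := by
        rw [← Category.assoc, h1, Category.assoc, Iso.hom_inv_id, Category.comp_id]
      rw [h2]
      infer_instance
    obtain ⟨p, hp⟩ := π₂.surjective c₀
    rw [← hp, ← Scheme.Hom.comp_apply]
    haveI : IsIso ((π₂ ≫ T.j d).stalkMap p) := inferInstance
    obtain ⟨h1, h2⟩ := hXn (π₁ p)
    let e1 := (asIso ((π₂ ≫ T.j d).stalkMap p)).commRingCatIsoToRingEquiv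
    let e2 := (asIso (π₁.stalkMap p)).commRingCatIsoToRingEquiv
    haveI := h1
    haveI := h2
    exact ⟨(e1.trans e2.symm).toMulEquiv.isDomain _, IsIntegrallyClosed.of_equiv (e1.trans e2.symm).symm⟩
  intro x
  obtain ⟨h1, h2⟩ := key (e.hom x)
  haveI := h1
  haveI := h2
  let e' := (asIso (e.hom.stalkMap x)).commRingCatIsoToRingEquiv
  exact ⟨e'.symm.toMulEquiv.isDomain _, IsIntegrallyClosed.of_equiv e'⟩

end Groth.ResolveSurf.RationalBlowUp
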