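import Groth.Agent.ResolveSurf.RegularRational
import Groth.Agent.ResolveSurf.Normalization
import Groth.Agent.BlowUpBasics.Proj
import Groth.Agent.BlowUpBasics.Universal
import Groth.Agent.BlowUpBasics.EffCartier
import Groth.Agent.BlowUpBasics.SheafOf
import Groth.Agent.HTopHyper.BlowUpProper
import Groth.Agent.Divisors.EffCartierMore
import Groth.Agent.Ega2Proj.TwistExtend
import Groth.Agent.Limits.FibreVanishingGeneral
import Groth.Agent.ArSurfBasics.CartierPart
import Groth.Agent.RefRank.CartierTwist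
import Groth.Agent.EGA43Topo.QuasiFiniteAffine
import Groth.Agent.Limits.NormalBirational
import Groth.Agent.S7298
import Groth.Agent.S2348
import Groth.Agent.ArSurfBasics.PointPrincipalization
import Groth.Agent.S2654

/-!
# Rational singularities: normal modifications adapted to a chart of a blow-up
-/

set_option autoImplicit false
set_option backward.isDefEq.respectTransparency.types false
set_option linter.style.haveILetI false

universe u

open CategoryTheory Limits AlgebraicGeometry TopologicalSpace Opposite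

namespace Groth.ResolveSurf.RationalDescend

open Groth.BlowUpBasics

/-! ### Birationality from an open -/

theorem birational {X' X : Scheme.{u}} (ρ : X' ⟶ X) [IsIntegral X] [IsIntegral X'] (U : X.Opens)
    (hU : (U : Set X).Nonempty) [IsIso (ρ ∣_ U)] :
    ρ (genericPoint X') = genericPoint X ∧ IsIso (ρ.stalkMap (genericPoint X')) := by
  obtain ⟨u, hu⟩ := hU
  haveI : Nonempty U := ⟨⟨u, hu⟩⟩
  haveI : Nonempty (ρ ⁻¹ᵁ U) := (ρ ∣_ U).surjective.nonempty
  haveI : IsIntegral U := isIntegral_of_isOpenImmersion U.ι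
  haveI : IsIntegral (ρ ⁻¹ᵁ U) := isIntegral_of_isOpenImmersion (ρ ⁻¹ᵁ U).ι
  refine ⟨?_, ?_⟩
  · rw [← genericPoint_eq_of_isOpenImmersion (ρ ⁻¹ᵁ U).ι, ← Scheme.Hom.comp_apply, ← morphismRestrict_ι,
      Scheme.Hom.comp_apply, genericPoint_eq_of_isOpenImmersion (ρ ∣_ U), genericPoint_eq_of_isOpenImmersion U.ι]
  · refine LocImmersion.BirationalNormal.isIso_stalkMap_of_eq ρ
      (genericPoint_eq_of_isOpenImmersion (ρ ⁻¹ᵁ U).ι) ?_
    have h1 : IsIso (((ρ ⁻¹ᵁ U).ι ≫ ρ).stalkMap (genericPoint (ρ ⁻¹ᵁ U))) := by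
      rw [Scheme.Hom.stalkMap_congr_hom _ _ (morphismRestrict_ι ρ U).symm]
      infer_instance
    rw [Scheme.Hom.stalkMap_comp] at h1
    exact @IsIso.of_isIso_comp_right _ _ _ _ _ _ ((ρ ⁻¹ᵁ U).ι.stalkMap _) inferInstance h1

/-- Isomorphisms over an open are stable under base change. -/
theorem isIso_restrict_of_isPullback {Z Y S T : Scheme.{u}} {a : Z ⟶ Y} {b : Z ⟶ T} {f : Y ⟶ S} {t : T ⟶ S}
    (h : IsPullback a b f t) (V : S.Opens) [IsIso (f ∣_ V)] : IsIso (b ∣_ (t ⁻¹ᵁ V)) := by
  have e : b ⁻¹ᵁ (t ⁻¹ᵁ V) ≤ a ⁻¹ᵁ (f ⁻¹ᵁ V) := by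
    rw [← Scheme.Hom.comp_preimage, ← Scheme.Hom.comp_preimage, h.w]
  have hres : IsPullback (a.resLE (f ⁻¹ᵁ V) _ e) (b ∣_ (t ⁻¹ᵁ V)) (f ∣_ V) (t ∣_ V) := by
    refine IsPullback.of_right ?_ ?_ (isPullback_morphismRestrict f V).flip
    · rw [Scheme.Hom.resLE_comp_ι, morphismRestrict_ι]
      exact (isPullback_morphismRestrict _ _).flip.paste_horiz h
    · rw [← cancel_mono V.ι, Category.assoc, Category.assoc, morphismRestrict_ι, morphismRestrict_ι,
        Scheme.Hom.resLE_comp_ι_assoc, morphismRestrict_ι_assoc, h.w]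
  exact MorphismProperty.of_isPullback (P := MorphismProperty.isomorphisms Scheme) hres ‹IsIso (f ∣_ V)›

/-! ### Normal modifications making an ideal invertible -/

variable {A : Type u} [CommRing A]

/-- The normalised blow-up of a nonzero ideal of a normal Nagata domain: a normal modification which is
finite over the blow-up. -/
theorem exists_normalized_blowUp [IsDomain A] [IsNoetherianRing A] [IsIntegrallyClosed A]
    (hN : CAlg.IsNagata A) (K : Ideal A) (hK : K ≠ ⊥) :
    ∃ (X : Scheme.{u}) (i : X ⟶ Proj (Rees.deg (reesAlgebra K))) (g : X ⟶ Spec (CommRingCat.of A))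
      (_ : IsFinite i) (_ : IsProper g) (_ : IsIntegral X),
      i ≫ projBase K = g ∧ (∀ _ : IrreducibleSpace ↥(Proj (Rees.deg (reesAlgebra K))),
        i (genericPoint X) = genericPoint ↥(Proj (Rees.deg (reesAlgebra K)))) ∧
      Pi1.IsNormalScheme X ∧
      (∃ U : (Spec (CommRingCat.of A)).Opens, (U : Set (Spec (CommRingCat.of A))).Nonempty ∧ IsIso (g ∣_ U)) ∧
      BlowUp.IsEffCartierIdeal ((sheafOf K).comap g) := by
  let b := projBase K
  have hb : BlowUp.IsBlowUp b (sheafOf K) := isBlowUp_projBase K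
  haveI : IsProper b := Groth.HTopHyper.isProper_projBase (IsNoetherian.noetherian K)
  have hK' : sheafOf K ≠ ⊥ := fun h => hK (by
    refine le_bot_iff.mp (sheafOf_le_iff.mp ?_)
    rw [h]
    exact bot_le)
  obtain ⟨hint, -, -⟩ := Groth.Agent.S2348.result _ hK' b hb
  set η := genericPoint ↥(Spec (CommRingCat.of A)) with hη
  haveI : IsLocallyNoetherian (Proj (Rees.deg (reesAlgebra K))) := LocallyOfFiniteType.isLocallyNoetherian b
  let U : (Spec (CommRingCat.of A)).Opens := ⟨((sheafOf K).support : Set _)ᶜ, (sheafOf K).support.isClosed.isOpen_compl⟩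
  have hηU : η ∈ U := Groth.ArSurfBasics.CartierPart.genericPoint_notMem hK'
  haveI : IsIso (b ∣_ U) := isIso_morphismRestrict hb U disjoint_compl_right
  obtain ⟨hbgen, hbst⟩ := birational b U ⟨η, hηU⟩
  haveI : CompactSpace ↥(Proj (Rees.deg (reesAlgebra K))) := QuasiCompact.compactSpace_of_compactSpace b
  haveI : (Proj (Rees.deg (reesAlgebra K))).IsSeparated := ⟨by rw [← terminal.comp_from b]; infer_instance⟩
  obtain ⟨Y, i, hY, hi, hYn, hic, hsurj⟩ := Groth.ResolveSurf.Normalization.exists_normalization_point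
    (Groth.ResolveSurf.Normalization.isNagata_of_locallyOfFiniteType b
      (Groth.ResolveSurf.Normalization.isNagata_spec hN)) (genericPoint ↥(Proj (Rees.deg (reesAlgebra K))))
  let g := i ≫ b
  have hgen : g (genericPoint ↥Y) = η := by rw [Scheme.Hom.comp_apply, hic, hbgen]
  have hbir : IsIso (g.stalkMap (genericPoint ↥Y)) := by
    rw [Scheme.Hom.stalkMap_comp]
    have hb' : IsIso (b.stalkMap (i (genericPoint ↥Y))) := by rw [hic]; exact hbst
    have hi' : IsIso (i.stalkMap (genericPoint ↥Y)) := by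
      refine (ConcreteCategory.isIso_iff_bijective _).2 ⟨?_, hsurj⟩
      have hfield : IsField ((Proj (Rees.deg (reesAlgebra K))).presheaf.stalk (i (genericPoint ↥Y))) := by
        rw [hic]; exact Field.toIsField (Proj (Rees.deg (reesAlgebra K))).functionField
      letI := hfield.toField
      exact (i.stalkMap (genericPoint ↥Y)).hom.injective
    exact @IsIso.comp_isIso _ _ _ _ _ _ _ hb' hi'
  have hfib : ∀ z : Y, g z = η → z = genericPoint ↥Y := fun z hz => by
    refine (Groth.EGA43Topo.eq_of_specializes_of_lqf i ?_ (genericPoint_specializes z)).symm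
    rw [hic]
    have h1 : b (i z) = η := by rw [← Scheme.Hom.comp_apply]; exact hz
    exact (congrArg Subtype.val ((b ∣_ U).isEmbedding.injective
      (a₁ := ⟨i z, show b _ ∈ U from h1 ▸ hηU⟩)
      (a₂ := ⟨genericPoint ↥(Proj (Rees.deg (reesAlgebra K))), show b _ ∈ U from hbgen ▸ hηU⟩)
      (Subtype.ext (by rw [morphismRestrict_base_coe, morphismRestrict_base_coe]; exact h1.trans hbgen.symm)))).symm
  obtain ⟨x, hx'⟩ : genericPoint ↥Y ∈ Set.range (g.fiberι η) := by
    rw [Scheme.Hom.range_fiberι]; exact hgen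
  have hx : IsOpen ({x} : Set (g.fiber η)) := by
    convert isOpen_univ
    refine Set.eq_univ_of_forall fun w => ?_
    refine (g.fiberι η).isEmbedding.injective ?_
    have hw : g.fiberι η w ∈ g ⁻¹' {η} := (g.range_fiberι η).le ⟨w, rfl⟩
    rw [hx']
    exact hfib _ hw
  have hstalk : IsIntegrallyClosed ((Spec (CommRingCat.of A)).presheaf.stalk η) := by
    let : Field ((Spec (CommRingCat.of A)).presheaf.stalk η) :=
      inferInstanceAs (Field (Spec (CommRingCat.of A)).functionField)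
    infer_instance
  obtain ⟨W, hW, hWiso⟩ := Groth.Limits.exists_isIso_of_isolated_normal g hgen hbir η hstalk x hx
  refine ⟨Y, i, g, hi, inferInstance, hY, rfl, fun _ => hic, hYn, ⟨W, ⟨η, hW⟩, hWiso⟩, ?_⟩
  rw [show (sheafOf K).comap g = ((sheafOf K).comap b).comap i from
    Scheme.IdealSheafData.comap_comp _ _ _]
  refine Groth.Divisors.isEffCartierIdeal_comap_reduced i hb.1 fun ξ hξ => ?_
  rw [← hξ _ (genericPoint_specializes ξ), hic]
  exact Groth.RefRank.CartierTwist.genericPoint_notMem_support hb.1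

/-- A nonzero ideal of a normal Nagata domain becomes invertible on some normal modification. -/
theorem exists_normal_modification [IsDomain A] [IsNoetherianRing A] [IsIntegrallyClosed A]
    (hN : CAlg.IsNagata A) (K : Ideal A) (hK : K ≠ ⊥) :
    ∃ (X : Scheme.{u}) (g : X ⟶ Spec (CommRingCat.of A)) (_ : IsProper g) (_ : IsIntegral X),
      Pi1.IsNormalScheme X ∧
      (∃ U : (Spec (CommRingCat.of A)).Opens, (U : Set (Spec (CommRingCat.of A))).Nonempty ∧ IsIso (g ∣_ U)) ∧
      BlowUp.IsEffCartierIdeal ((sheafOf K).comap g) := by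
  obtain ⟨X, -, g, -, hg, hX, -, -, h⟩ := exists_normalized_blowUp hN K hK
  exact ⟨X, g, hg, hX, h⟩

/-! ### Charts -/

lemma phi_comp_app {Y X : Scheme.{u}} (q : Y ⟶ X) (g : X ⟶ Spec (CommRingCat.of A)) (W : X.Opens) :
    phi (q ≫ g) (q ⁻¹ᵁ W) = (q.app W).hom.comp (phi g W) := by
  rw [phi, phi, ← CommRingCat.hom_comp, Category.assoc, q.app_eq_appLE, Scheme.Hom.appLE_comp_appLE]

lemma phi_comp_Spec {Y : Scheme.{u}} {C : Type u} [CommRing C] (p : Y ⟶ Spec (CommRingCat.of C))
    (φ : A →+* C) (U : Y.Opens) :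
    phi (p ≫ Spec.map (CommRingCat.ofHom φ)) U = (phi p U).comp φ := by
  have h : (CommRingCat.ofHom φ) ≫ (Scheme.ΓSpecIso (CommRingCat.of C)).inv =
      (Scheme.ΓSpecIso (CommRingCat.of A)).inv ≫ (Spec.map (CommRingCat.ofHom φ)).appTop :=
    Scheme.ΓSpecIso_inv_naturality _
  conv_rhs => rw [phi, show φ = (CommRingCat.ofHom φ).hom from rfl, ← CommRingCat.hom_comp, reassoc_of% h]
  rw [phi]
  congr 2

variable {I : Ideal A}

/-- If `d` generates the centre near a point, the point maps into the chart of `d`. -/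
theorem mem_range_chart {X₁ : Scheme.{u}} {b : X₁ ⟶ Spec (CommRingCat.of A)} (T : Atlas I b)
    {X : Scheme.{u}} (h : X ⟶ X₁) (g : X ⟶ Spec (CommRingCat.of A)) (hh : h ≫ b = g)
    (hC : BlowUp.IsEffCartierIdeal ((sheafOf I).comap g)) (d : I) (W : X.affineOpens)
    (hnzd : phi g W.1 (d : A) ∈ nonZeroDivisors Γ(X, W.1))
    (hI : I.map (phi g W.1) ≤ Ideal.span {phi g W.1 (d : A)}) :
    ∀ z ∈ W.1, h z ∈ Set.range (T.j d) := by
  obtain ⟨ψ, hψ⟩ := exists_ringHom_lift (phi g W.1) hnzd hI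
  have hm : Spec.map (CommRingCat.ofHom ψ) ≫ T.j d = W.2.fromSpec ≫ h := by
    refine hom_ext_isBlowUp T.isBlowUp ?_ ?_
    · rw [Category.assoc, Category.assoc, T.fac, hh, fromSpec_comp g W.2, chartBase, ← Spec.map_comp,
        ← CommRingCat.ofHom_comp, hψ]
    · rw [Category.assoc, T.fac, chartBase, ← Spec.map_comp, ← CommRingCat.ofHom_comp, hψ,
        ← fromSpec_comp g W.2, Scheme.IdealSheafData.comap_comp]
      exact isEffCartierIdeal_comap_of_flat _ hC
  intro z hz
  obtain ⟨y, rfl⟩ : z ∈ Set.range W.2.fromSpec := by rw [W.2.range_fromSpec]; exact hz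
  exact ⟨Spec.map (CommRingCat.ofHom ψ) y, by rw [← Scheme.Hom.comp_apply, hm]; rfl⟩

/-- The direct image of the structure sheaf of the locus where `d` generates the centre is globally
generated. -/
theorem spansStalks_push {X P : Scheme.{u}} (g : X ⟶ Spec (CommRingCat.of A))
    (hC : BlowUp.IsEffCartierIdeal ((sheafOf I).comap g)) (d : I)
    (π₁ : P ⟶ X) [IsOpenImmersion π₁] [IsAffineHom π₁]
    (π₂ : P ⟶ Spec (CommRingCat.of (BlowUp.affineAlgebra A I (d : A))))
    (w : π₁ ≫ g = π₂ ≫ chartBase I (d : A))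
    (hr : ∀ W : X.affineOpens, phi g W.1 (d : A) ∈ nonZeroDivisors Γ(X, W.1) →
      I.map (phi g W.1) ≤ Ideal.span {phi g W.1 (d : A)} → W.1 ≤ π₁.opensRange) :
    Groth.Ega2Proj.SpansStalks ((Scheme.Modules.pushforward π₁).obj (Coh.structureModule P)) := by
  set F := (Scheme.Modules.pushforward π₁).obj (Coh.structureModule P) with hF
  intro x
  rw [eq_top_iff]
  intro s _
  obtain ⟨V, hV, s, rfl⟩ := Groth.QCohMod.exists_germ F x s
  obtain ⟨W, hxW, hWV, a, haI, hnzd, hspan⟩ := exists_local_generator g hC x hV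
  rw [← Groth.QCohMod.germ_res F hWV x hxW s]
  generalize Groth.QCohMod.res F hWV s = s'
  obtain ⟨t, ht⟩ := Ideal.mem_span_singleton'.1 (hspan.le (Ideal.mem_map_of_mem _ d.2))
  let W' : P.affineOpens := ⟨π₁ ⁻¹ᵁ W.1, W.2.preimage π₁⟩
  let α : Γ(X, W.1) →+* Γ(P, π₁ ⁻¹ᵁ W.1) := (π₁.app W.1).hom
  let c : Γ(P, π₁ ⁻¹ᵁ W.1) := phi π₂ (π₁ ⁻¹ᵁ W.1) (frac I (d : A) a haI)
  have hphi : ∀ r : A, α (phi g W.1 r) = phi π₂ (π₁ ⁻¹ᵁ W.1) (algebraMap A _ r) := fun r => by
    change ((π₁.app W.1).hom.comp (phi g W.1)) r = _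
    rw [← phi_comp_app, w, chartBase, phi_comp_Spec]
    rfl
  have hαnzd : α (phi g W.1 a) ∈ nonZeroDivisors Γ(P, π₁ ⁻¹ᵁ W.1) := by
    have := appLE_mem_nonZeroDivisors π₁ W W' le_rfl hnzd
    rwa [← π₁.app_eq_appLE] at this
  have htc : α t * c = 1 := by
    have h1 : α (phi g W.1 (d : A)) * c = α (phi g W.1 a) := by
      rw [hphi, hphi, ← map_mul, mul_comm, frac_mul_algebraMap a haI]
    rw [← ht, map_mul] at h1
    have h2 : (α t * c - 1) * α (phi g W.1 a) = 0 := by rw [sub_mul, one_mul, sub_eq_zero, mul_right_comm]; exact h1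
    exact sub_eq_zero.1 (mem_nonZeroDivisors_iff_right.1 hαnzd _ h2)
  let Wt : X.affineOpens := X.affineBasicOpen t
  have hle : Wt.1 ≤ W.1 := X.basicOpen_le t
  have htu : IsUnit ((X.presheaf.map (homOfLE hle).op).hom t) := X.toRingedSpace.isUnit_res_basicOpen t
  have hrange : Wt.1 ≤ π₁.opensRange := by
    refine hr Wt ?_ ?_
    · rw [phi_restrict g hle, RingHom.comp_apply, ← ht, map_mul]
      exact mul_mem htu.mem_nonZeroDivisors (restrict_mem_nonZeroDivisors hle hnzd)
    · rw [phi_restrict g hle, RingHom.comp_apply, ← ht, ← Ideal.map_map, hspan, Ideal.map_span,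
        Set.image_singleton, map_mul, Ideal.span_singleton_mul_left_unit htu]
  haveI := π₁.isIso_app Wt.1 hrange
  have hpre : π₁ ⁻¹ᵁ W.1 ≤ π₁ ⁻¹ᵁ Wt.1 := by
    change _ ≤ π₁ ⁻¹ᵁ X.basicOpen t
    rw [Scheme.preimage_basicOpen, P.basicOpen_of_isUnit]
    exact IsUnit.of_mul_eq_one _ htc
  have hpre' : π₁ ⁻¹ᵁ Wt.1 ≤ π₁ ⁻¹ᵁ W.1 := π₁.preimage_mono hle
  let e : Γ(P, π₁ ⁻¹ᵁ W.1) →+* Γ(P, π₁ ⁻¹ᵁ Wt.1) := (P.presheaf.map (homOfLE hpre').op).hom
  have hnat : ∀ r, e (α r) = π₁.app Wt.1 ((X.presheaf.map (homOfLE hle).op).hom r) := fun r =>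
    (ConcreteCategory.congr_hom (π₁.naturality (homOfLE hle).op) r).symm
  have hinj : Function.Injective e := fun p q hpq => by
    have h1 := congrArg (P.presheaf.map (homOfLE hpre).op).hom hpq
    rw [← CommRingCat.comp_apply, ← CommRingCat.comp_apply, ← Functor.map_comp] at h1
    simpa using h1
  obtain ⟨z, hz⟩ := (ConcreteCategory.bijective_of_isIso (π₁.app Wt.1)).2 (e s')
  letI := (X.presheaf.map (homOfLE hle).op).hom.toAlgebra
  haveI : IsLocalization.Away t Γ(X, Wt.1) := W.2.isLocalization_basicOpen t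
  obtain ⟨n, w', hw'⟩ := IsLocalization.Away.surj (S := Γ(X, Wt.1)) t z
  have hkey : (show Γ(P, π₁ ⁻¹ᵁ W.1) from s') = α w' * c ^ n := by
    have h1 : e (show Γ(P, π₁ ⁻¹ᵁ W.1) from s') * e (α t) ^ n = e (α w') := by
      rw [hnat, hnat, ← hz, ← map_pow, ← map_mul]
      exact congrArg _ hw'
    rw [← map_pow, ← map_mul] at h1
    rw [← hinj h1, mul_assoc, ← mul_pow, htc, one_pow, mul_one]
  let u : Γ(F, (⊤ : X.Opens)) := phi π₂ (π₁ ⁻¹ᵁ ⊤) (frac I (d : A) a haI) ^ n
  have hu : s' = w' • Groth.QCohMod.res F (le_top : W.1 ≤ ⊤) u := by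
    refine hkey.trans ?_
    change α w' * c ^ n = α w' * (P.presheaf.map (homOfLE (π₁.preimage_mono (le_top : W.1 ≤ ⊤))).op).hom _
    congr 1
    rw [map_pow]
    congr 1
    exact DFunLike.congr_fun (phi_restrict π₂ (π₁.preimage_mono (le_top : W.1 ≤ ⊤))) _
  rw [hu, Groth.QCohMod.germ_smul, Groth.QCohMod.germ_res]
  exact Submodule.smul_mem _ _ (Submodule.subset_span ⟨u, rfl⟩)

/-- For a rational singularity, `H¹(O)` vanishes on the part of a normal modification lying over a
chart of a blow-up. -/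
theorem subsingleton_H1_chart [IsDomain A] [IsLocalRing A] [IsNoetherianRing A] [IsIntegrallyClosed A]
    (hN : CAlg.IsNagata A) (hdim : ringKrullDim A = 2) (hA : Curv2.IsRationalSing A)
    {X X₁ : Scheme.{u}} (g : X ⟶ Spec (CommRingCat.of A)) [IsProper g] [IsIntegral X]
    (hXn : Pi1.IsNormalScheme X)
    (hbir : ∃ U : (Spec (CommRingCat.of A)).Opens, (U : Set (Spec (CommRingCat.of A))).Nonempty ∧ IsIso (g ∣_ U))
    (hC : BlowUp.IsEffCartierIdeal ((sheafOf I).comap g))
    {b : X₁ ⟶ Spec (CommRingCat.of A)} [IsSeparated b] (T : Atlas I b) (d : I)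
    (h : X ⟶ X₁) (hh : h ≫ b = g) :
    Subsingleton (Coh.HH (pullback h (T.j d)) (Coh.structureModule (pullback h (T.j d))) 1) := by
  haveI := T.isOpenImmersion d
  haveI : X₁.IsSeparated := ⟨by rw [← terminal.comp_from b]; infer_instance⟩
  haveI : IsAffineHom (T.j d) := by
    haveI : IsAffineHom (T.j d ≫ b) := by rw [T.fac]; infer_instance
    exact IsAffineHom.of_comp (T.j d) b
  haveI : IsAffineHom (pullback.fst h (T.j d)) := MorphismProperty.pullback_fst _ _ inferInstance
  let π₁ := pullback.fst h (T.j d)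
  let π₂ := pullback.snd h (T.j d)
  have w : π₁ ≫ g = π₂ ≫ chartBase I (d : A) := by
    rw [← T.fac, ← hh, pullback.condition_assoc]
  have hsp := spansStalks_push g hC d π₁ π₂ w fun W h1 h2 z hz => by
    change z ∈ Set.range π₁
    rw [Scheme.Pullback.range_fst]
    exact mem_range_chart T h g hh hC d W h1 h2 z hz
  haveI : (Coh.structureModule (pullback h (T.j d))).IsQuasicoherent := inferInstance
  haveI hq : ((Scheme.Modules.pushforward π₁).obj (Coh.structureModule (pullback h (T.j d)))).IsQuasicoherent :=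
    Groth.QCohMod.isQCoh_pushforward _ π₁
  have hvan := Groth.Agent.S7298.result A hN hdim hA X g hXn hbir _ hq hsp.isGloballyGenerated
  letI : X.Over (Spec (CommRingCat.of A)) := ⟨g⟩
  letI : (pullback h (T.j d)).Over (Spec (CommRingCat.of A)) := ⟨π₁ ≫ g⟩
  haveI : CompactSpace X := QuasiCompact.compactSpace_of_compactSpace g
  haveI : X.IsSeparated := ⟨by rw [← terminal.comp_from g]; infer_instance⟩
  obtain ⟨e⟩ := Groth.Limits.FibreVanishing.exists_pushEquiv A π₁ rfl (Coh.structureModule (pullback h (T.j d))) 1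
  exact e.symm.toEquiv.subsingleton

/-! ### Passing to a localisation -/

/-- Vanishing over a finite type algebra passes to modifications of its localisation. -/
theorem subsingleton_H1_of_localization {C B : Type u} [CommRing C] [CommRing B] [IsDomain C] [IsDomain B]
    [IsNoetherianRing B] (ψ : C →+* B) (hψinj : Function.Injective ψ)
    (hloc : ∀ b : B, ∃ x y, IsUnit (ψ y) ∧ b * ψ y = ψ x)
    {P : Scheme.{u}} [IsIntegral P] (π₂ : P ⟶ Spec (CommRingCat.of C)) [IsProper π₂]
    (V : (Spec (CommRingCat.of C)).Opens) (hηV : genericPoint (Spec (CommRingCat.of C)) ∈ V) [IsIso (π₂ ∣_ V)]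
    (hP1 : Subsingleton (Coh.HH P (Coh.structureModule P) 1))
    (JC : Ideal C) (hCP : BlowUp.IsEffCartierIdeal ((sheafOf JC).comap π₂))
    {Y : Scheme.{u}} (f : Y ⟶ Spec (CommRingCat.of B)) [IsProper f] [IsIntegral Y] (hYn : Pi1.IsNormalScheme Y)
    (U : (Spec (CommRingCat.of B)).Opens) (hU : (U : Set (Spec (CommRingCat.of B))).Nonempty) [IsIso (f ∣_ U)]
    {S' : Scheme.{u}} (bJ : S' ⟶ Spec (CommRingCat.of B)) (h0 : S' ⟶ Y) (h0f : h0 ≫ f = bJ)
    (hbJ : BlowUp.IsBlowUp bJ (sheafOf (JC.map ψ))) :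
    Subsingleton (Coh.HH Y (Coh.structureModule Y) 1) := by
  let S : Scheme.{u} := Spec (CommRingCat.of B)
  -- base change to `B`
  letI : Algebra C B := ψ.toAlgebra
  haveI : IsLocalization ((IsUnit.submonoid B).comap ψ) B :=
    { map_units := fun y => y.2
      surj := fun b => by
        obtain ⟨x, y, hy, hxy⟩ := hloc b
        exact ⟨⟨x, ⟨y, hy⟩⟩, hxy⟩
      exists_of_eq := fun {x y} hxy => ⟨1, by simpa using hψinj hxy⟩ }
  haveI : Module.Flat C B := IsLocalization.flat B ((IsUnit.submonoid B).comap ψ)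
  let sψ : S ⟶ Spec (CommRingCat.of C) := Spec.map (CommRingCat.ofHom (algebraMap C B))
  haveI : IsPreimmersion sψ := IsPreimmersion.of_isLocalization ((IsUnit.submonoid B).comap ψ)
  haveI : Flat sψ := (HasRingHomProperty.Spec_iff (P := @Flat)).2 (RingHom.flat_algebraMap_iff.2 ‹_›)
  let W : Scheme.{u} := pullback π₂ sψ
  let g' : W ⟶ P := pullback.fst π₂ sψ
  let q : W ⟶ S := pullback.snd π₂ sψ
  haveI : IsProper q := MorphismProperty.pullback_snd _ _ ‹IsProper π₂›
  letI : P.Over (Spec (CommRingCat.of C)) := ⟨π₂⟩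
  letI : W.Over (Spec (CommRingCat.of B)) := ⟨q⟩
  haveI : CompactSpace P := QuasiCompact.compactSpace_of_compactSpace π₂
  haveI : QuasiSeparatedSpace P := quasiSeparatedSpace_of_quasiSeparated π₂
  have hW1 : Subsingleton (Coh.HH W (Coh.structureModule W) 1) := by
    obtain ⟨e⟩ := Groth.CohBase.FlatBC.exists_affine_base_linEquiv C B g'
      (IsPullback.of_hasPullback π₂ sψ : IsPullback g' q π₂ sψ)
      (Coh.structureModule P) 1
    obtain ⟨i⟩ := Groth.PicAux.pullback_structure_iso g'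
    haveI : Subsingleton (Coh.HH P (Coh.structureModule P) 1) := hP1
    haveI : Subsingleton (TensorProduct C B (Coh.HH P (Coh.structureModule P) 1)) :=
      subsingleton_of_forall_eq 0 fun z => by
        induction z using TensorProduct.induction_on with
        | zero => rfl
        | tmul x y => rw [Subsingleton.elim y 0, TensorProduct.tmul_zero]
        | add x y hx hy => rw [hx, hy, add_zero]
    haveI := e.symm.toEquiv.subsingleton
    exact (Groth.EulerDeg.hEquiv B i 1).symm.toEquiv.subsingleton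
  -- `W` is integral
  have hsη : sψ (genericPoint S) = genericPoint (Spec (CommRingCat.of C)) := by
    rw [genericPoint_eq_bot_of_affine, genericPoint_eq_bot_of_affine]
    refine PrimeSpectrum.ext ?_
    change (⊥ : Ideal B).comap ψ = ⊥
    exact (RingHom.injective_iff_ker_eq_bot ψ).1 hψinj
  have hξη : π₂ (genericPoint P) = sψ (genericPoint S) := by
    rw [hsη]; exact (birational π₂ V ⟨_, hηV⟩).1
  obtain ⟨w₀, hw₀, -⟩ := Scheme.exists_preimage_of_isPullback (IsPullback.of_hasPullback π₂ sψ) _ _ hξη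
  haveI : IsPreimmersion g' := MorphismProperty.pullback_fst _ _ ‹IsPreimmersion sψ›
  haveI : Flat g' := MorphismProperty.pullback_fst _ _ ‹Flat sψ›
  haveI : IsReduced W := by
    haveI : ∀ t : W, _root_.IsReduced (W.presheaf.stalk t) := fun t => by
      haveI : IsIso (g'.stalkMap t) := (ConcreteCategory.isIso_iff_bijective _).2
        ⟨Groth.PropsBasic2.stalkMap_injective_of_flat g' t, g'.stalkMap_surjective t⟩
      exact isReduced_of_injective _ (asIso (g'.stalkMap t)).commRingCatIsoToRingEquiv.symm.injective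
    exact isReduced_of_isReduced_stalk W
  haveI : IrreducibleSpace W := by
    haveI : Nonempty W := ⟨w₀⟩
    rw [irreducibleSpace_def, Set.top_eq_univ]
    have h1 : closure ({w₀} : Set W) = Set.univ := by
      refine Set.eq_univ_of_forall fun t => ?_
      rw [← specializes_iff_mem_closure]
      exact g'.isEmbedding.specializes_iff.1 (hw₀ ▸ genericPoint_specializes _)
    rw [← h1]
    exact isIrreducible_singleton.closure
  haveI : IsIntegral W := isIntegral_of_irreducibleSpace_of_isReduced W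
  -- factor through `Y`
  have hCW : BlowUp.IsEffCartierIdeal ((sheafOf (JC.map ψ)).comap q) := by
    have h1 := isEffCartierIdeal_comap_of_flat g' hCP
    rw [← Scheme.IdealSheafData.comap_comp, show g' ≫ π₂ = q ≫ sψ from pullback.condition,
      Scheme.IdealSheafData.comap_comp, comap_sheafOf_Spec] at h1
    exact h1
  obtain ⟨k₀, hk₀, -⟩ := hbJ.2 W q hCW
  let k : W ⟶ Y := k₀ ≫ h0
  have hkf : k ≫ f = q := by rw [Category.assoc, h0f, hk₀]
  haveI : IsProper k := by
    haveI : IsProper (k ≫ f) := hkf ▸ inferInstance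
    exact IsProper.of_comp k f
  let U' : S.Opens := U ⊓ sψ ⁻¹ᵁ V
  have hηU' : genericPoint S ∈ U' :=
    ⟨((genericPoint_spec S).mem_open_set_iff U.2).2 (by simpa using hU), show sψ _ ∈ V from hsη ▸ hηV⟩
  haveI hqU : IsIso (q ∣_ (sψ ⁻¹ᵁ V)) := isIso_restrict_of_isPullback (IsPullback.of_hasPullback π₂ sψ) V
  haveI : IsIso (q ∣_ U') := Groth.ArSurfBasics.Principalization.isIso_restrict_mono q inf_le_right
  haveI : IsIso (f ∣_ U') := Groth.ArSurfBasics.Principalization.isIso_restrict_mono f inf_le_left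
  haveI : IsIso (k ∣_ (f ⁻¹ᵁ U')) := by
    have h1 : IsIso ((k ≫ f) ∣_ U') := by rw [hkf]; infer_instance
    rw [morphismRestrict_comp] at h1
    exact @IsIso.of_isIso_comp_right _ _ _ _ _ _ (f ∣_ U') inferInstance h1
  obtain ⟨hkgen, hkbir⟩ := birational k (f ⁻¹ᵁ U') (by
    obtain ⟨y, hy⟩ := (f ∣_ U').surjective ⟨_, hηU'⟩
    exact ⟨y.1, y.2⟩)
  haveI : IsLocallyNoetherian Y := LocallyOfFiniteType.isLocallyNoetherian f
  haveI := Groth.ModelsGraphs.RatSingPush.isIso_unitToPush k (fun y => (hYn y).2) hkgen hkbir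
  exact Groth.ResolveSurf.RegularRational.subsingleton_H1_of_dominated k hW1


end Groth.ResolveSurf.RationalDescend
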