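import Groth.Agent.ArSurfBasics.PointPrincipalization
import Groth.Agent.ArSurfBasics.FactorBlowUp
import Groth.Agent.PointBlowUp.SelfInt

/-!
# Local algebra of normal crossings under point blow-ups

Radicals of stalks of ideal sheaves, and the local parameters of the blow-up of a point on a regular
surface.
-/

set_option autoImplicit false
set_option backward.isDefEq.respectTransparency.types false
set_option linter.style.haveILetI false

universe u

open CategoryTheory CategoryTheory.Limits AlgebraicGeometry TopologicalSpace IsLocalRing IntMult Groth.PointBlowUp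

namespace Groth.ResolveSurf.Snc

section Algebra

variable {A : Type u} [CommRing A]

/-- The shape of a normal crossings ideal at a two-dimensional point. -/
def SncIdeal [IsLocalRing A] (I : Ideal A) : Prop :=
  I = ⊤ ∨ ∃ x y : A, maximalIdeal A = Ideal.span {x, y} ∧ (I = Ideal.span {x} ∨ I = Ideal.span {x * y})

variable [IsRegularLocalRing A] {hA : ringKrullDim A = 2} {a b : A}

theorem prime_param (h : Param hA a b) : (Ideal.span {a}).IsPrime :=
  (Ideal.Quotient.isDomain_iff_prime _).1 h.isDomain_quotient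

theorem radical_param (h : Param hA a b) : (Ideal.span {a}).radical = Ideal.span {a} :=
  (prime_param h).radical

theorem inf_param (h : Param hA a b) : Ideal.span {a} ⊓ Ideal.span {b} = Ideal.span {a * b} := by
  refine le_antisymm (fun z hz => ?_) ?_
  · obtain ⟨h1, h2⟩ := hz
    obtain ⟨r, rfl⟩ := Ideal.mem_span_singleton'.1 h1
    rcases (prime_param h.symm).mem_or_mem h2 with h3 | h3
    · obtain ⟨s, rfl⟩ := Ideal.mem_span_singleton'.1 h3
      exact Ideal.mem_span_singleton'.2 ⟨s, by ring⟩
    · exact absurd h3 h.symm.not_mem_span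
  · rw [Ideal.span_singleton_le_iff_mem]
    exact ⟨Ideal.mul_mem_right _ _ (Ideal.mem_span_singleton_self a),
      Ideal.mul_mem_left _ _ (Ideal.mem_span_singleton_self b)⟩

theorem radical_param_mul (h : Param hA a b) : (Ideal.span {a * b}).radical = Ideal.span {a * b} := by
  rw [← Ideal.span_singleton_mul_span_singleton, Ideal.radical_mul, radical_param h, radical_param h.symm,
    inf_param h, Ideal.span_singleton_mul_span_singleton]

theorem sncIdeal_radical (hA : ringKrullDim A = 2) {I : Ideal A} (h : SncIdeal I) : I.radical = I := by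
  rcases h with rfl | ⟨x, y, hm, rfl | rfl⟩
  · exact Ideal.radical_top A
  · exact radical_param (hA := hA) (b := y) ⟨hm⟩
  · exact radical_param_mul (hA := hA) ⟨hm⟩

/-- A prime with regular one-dimensional quotient is generated by a parameter. -/
theorem exists_param_of_prime (hA : ringKrullDim A = 2) {P : Ideal A} [P.IsPrime] (hne : P ≠ ⊥)
    (hP : P ≠ maximalIdeal A) {y : A} (hy : maximalIdeal A = P ⊔ Ideal.span {y}) :
    ∃ x, Param hA x y ∧ P = Ideal.span {x} := by
  haveI := Groth.PicAux.ufd_of_isRegularLocalRing A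
  obtain ⟨q, hqP, hq⟩ := (inferInstance : P.IsPrime).exists_mem_prime_of_ne_bot hne
  have hqprime : (Ideal.span {q}).IsPrime := (Ideal.span_singleton_prime hq.ne_zero).2 hq
  have heq : P = Ideal.span {q} := by
    refine le_antisymm (fun r hr => ?_) ((Ideal.span_singleton_le_iff_mem P).2 hqP)
    by_contra hno
    let p0 : PrimeSpectrum A := ⟨⊥, Ideal.isPrime_bot⟩
    let p1 : PrimeSpectrum A := ⟨Ideal.span {q}, hqprime⟩
    let p2 : PrimeSpectrum A := ⟨P, inferInstance⟩
    let p3 : PrimeSpectrum A := ⟨maximalIdeal A, inferInstance⟩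
    have l1 : p0 < p1 := show (⊥ : Ideal A) < Ideal.span {q} from
      bot_lt_iff_ne_bot.2 fun h => hq.ne_zero (Ideal.span_singleton_eq_bot.1 h)
    have l2 : p1 < p2 := show Ideal.span {q} < P from
      lt_of_le_of_ne ((Ideal.span_singleton_le_iff_mem P).2 hqP) fun h => hno (h ▸ hr)
    have l3 : p2 < p3 := show P < maximalIdeal A from
      lt_of_le_of_ne (le_maximalIdeal Ideal.IsPrime.ne_top') hP
    let s : LTSeries (PrimeSpectrum A) :=
      (((RelSeries.singleton _ p0).snoc p1 l1).snoc p2 (by simpa using l2)).snoc p3 (by simpa using l3)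
    have h3 : ((3 : ℕ) : WithBot ℕ∞) ≤ ringKrullDim A := Order.LTSeries.length_le_krullDim s
    rw [hA] at h3
    exact absurd h3 (by decide)
  exact ⟨q, ⟨by rw [hy, heq, ← Ideal.span_union, Set.singleton_union]⟩, heq⟩

end Algebra

section Stalk

variable {X : Scheme.{u}}

theorem stalkIdeal_radical (J : X.IdealSheafData) (x : X) :
    stalkIdeal J.radical x = (stalkIdeal J x).radical := by
  obtain ⟨U, hU, -⟩ := Groth.Divisors.exists_affine_le x ⊤ trivial
  rw [Groth.ParaFormal.stalkIdeal_eq _ U hU, Groth.ParaFormal.stalkIdeal_eq _ U hU]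
  let _ := X.presheaf.algebra_section_stalk ⟨x, hU⟩
  haveI := U.2.isLocalization_stalk ⟨x, hU⟩
  exact IsLocalization.map_radical (U.2.primeIdealOf ⟨x, hU⟩).asIdeal.primeCompl (X.presheaf.stalk x) _

theorem stalkIdeal_vanishing_support (J : X.IdealSheafData) (x : X) :
    stalkIdeal (Scheme.IdealSheafData.vanishingIdeal J.support) x = (stalkIdeal J x).radical := by
  rw [Scheme.IdealSheafData.vanishingIdeal_support, stalkIdeal_radical]

theorem radical_stalkIdeal_le {I J : X.IdealSheafData} {x : X}
    (h : ∀ x' : X, x' ⤳ x → x' ∈ J.support → x' ∈ I.support) :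
    (stalkIdeal I x).radical ≤ (stalkIdeal J x).radical := by
  rw [(stalkIdeal J x).radical_eq_sInf]
  refine le_sInf fun P ⟨hJP, hP⟩ => ?_
  haveI := hP
  rw [hP.radical_le_iff]
  obtain ⟨x', hx', rfl⟩ := Groth.ParaFormal.exists_spec_comap_eq x P
  have hJ : x' ∈ J.support := by
    by_contra hno
    have h1 := Ideal.map_le_iff_le_comap.2 hJP
    rw [Groth.ParaFormal.stalkIdeal_spec, (Groth.ArSurfBasics.Principalization.stalkIdeal_eq_top_iff J x').2 hno,
      top_le_iff] at h1
    exact (maximalIdeal.isMaximal _).ne_top h1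
  rw [← Ideal.map_le_iff_le_comap, Groth.ParaFormal.stalkIdeal_spec]
  exact le_maximalIdeal fun h1 => ((Groth.ArSurfBasics.Principalization.stalkIdeal_eq_top_iff I x').1 h1) (h x' hx' hJ)

theorem radical_stalkIdeal_eq {I J : X.IdealSheafData} {x : X}
    (h : ∀ x' : X, x' ⤳ x → (x' ∈ I.support ↔ x' ∈ J.support)) :
    (stalkIdeal I x).radical = (stalkIdeal J x).radical :=
  le_antisymm (radical_stalkIdeal_le fun x' hx' => (h x' hx').2) (radical_stalkIdeal_le fun x' hx' => (h x' hx').1)

end Stalk

section BlowUp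

variable {X W : Scheme.{u}} [IsLocallyNoetherian X]

-- chart computations
set_option maxHeartbeats 800000 in
/-- Parameters at a point of the blow-up over the centre. -/
theorem exists_frame (b : W ⟶ X) (w : W) (hx : IsClosed ({b w} : Set X))
    (hb : BlowUp.IsBlowUp b (Scheme.IdealSheafData.vanishingIdeal ⟨{b w}, hx⟩))
    [IsRegularLocalRing (X.presheaf.stalk (b w))] (hdim : ringKrullDim (X.presheaf.stalk (b w)) = 2) :
    ∃ t : W.presheaf.stalk w, IsRegularLocalRing (W.presheaf.stalk w) ∧
      stalkIdeal ((Scheme.IdealSheafData.vanishingIdeal ⟨{b w}, hx⟩).comap b) w = Ideal.span {t} ∧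
      (∃ s, maximalIdeal (W.presheaf.stalk w) = Ideal.span {t, s}) ∧
      ∀ x y : X.presheaf.stalk (b w), Param hdim x y → ∃ x' y' : W.presheaf.stalk w,
        b.stalkMap w x = t * x' ∧ b.stalkMap w y = t * y' ∧ (IsUnit x' ∨ IsUnit y') ∧
        (¬ IsUnit x' → maximalIdeal (W.presheaf.stalk w) = Ideal.span {t, x'}) ∧
        (¬ IsUnit y' → maximalIdeal (W.presheaf.stalk w) = Ideal.span {t, y'}) := by
  obtain ⟨a, a', hp, P, hP, θ, haP, hθ, hloc⟩ :=
    Groth.ArSurfBasics.BlowUpChartAt.exists_chart b w hx hb hdim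
  letI := θ.toAlgebra
  haveI := hloc
  let A := X.presheaf.stalk (b w)
  set φ := (b.stalkMap w).hom
  haveI := hp.isDomain_chart
  haveI hreg : IsRegularLocalRing (W.presheaf.stalk w) := by
    haveI := Groth.PointBlowUp.isRegularLocalRing_chart (hA := hdim) hp.mem_left P
    exact IsRegularLocalRing.of_ringEquiv (R := Localization.AtPrime P)
      (IsLocalization.algEquiv P.primeCompl (Localization.AtPrime P) (W.presheaf.stalk w)).toRingEquiv
  haveI : IsDomain (W.presheaf.stalk w) := Groth.Ega4Algebra1.isDomain_of_isRegularLocalRing _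
  have hθa : ∀ r : A, θ (algebraMap A (Chart a) r) = φ r := fun r => RingHom.congr_fun hθ r
  have hmapm : (maximalIdeal A).map φ = Ideal.span {φ a} := by
    rw [← hθ, ← Ideal.map_map, Groth.BlowUpBasics.map_eq_span hp.mem_left, Ideal.map_span, Set.image_singleton]
    rfl
  have hmax : P.map θ = maximalIdeal (W.presheaf.stalk w) :=
    IsLocalization.AtPrime.map_eq_maximalIdeal P (W.presheaf.stalk w)
  have hPA : ∀ r : A, algebraMap A (Chart a) r ∈ P → r ∈ maximalIdeal A := fun r hr hu =>
    Ideal.IsPrime.ne_top' (Ideal.eq_top_of_isUnit_mem _ hr (hu.map _))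
  have hφa : φ a ≠ 0 := by
    rw [← hθa]
    refine (map_ne_zero_iff θ ?_).2 fun e => ?_
    · exact IsLocalization.injective (W.presheaf.stalk w) P.primeCompl_le_nonZeroDivisors
    · exact nonZeroDivisors.ne_zero (Groth.BlowUpBasics.algebraMap_self_mem_nonZeroDivisors
        (I := maximalIdeal A) (a := a)) e
  refine ⟨φ a, hreg, ?_, ?_, fun x y hxy => ?_⟩
  · rw [Groth.ParaFormal.stalkIdeal_comap, Groth.ArSurfBasics.FactorBlowUp.stalkIdeal_vanishingIdeal hx, ← hmapm]
  · haveI : IsPrincipalIdealRing (Chart a ⧸ Ideal.span {algebraMap A (Chart a) a}) :=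
      IsPrincipalIdealRing.of_surjective hp.excEquiv.symm.toRingHom hp.excEquiv.symm.surjective
    obtain ⟨s₀, hs₀⟩ := IsPrincipalIdealRing.principal
      (P.map (Ideal.Quotient.mk (Ideal.span {algebraMap A (Chart a) a})))
    obtain ⟨s, rfl⟩ := Ideal.Quotient.mk_surjective s₀
    have hPs : P = Ideal.span {algebraMap A (Chart a) a, s} := by
      have h1 := congrArg (Ideal.comap (Ideal.Quotient.mk (Ideal.span {algebraMap A (Chart a) a}))) hs₀
      rw [← Ideal.span, Ideal.comap_map_of_surjective' _ Ideal.Quotient.mk_surjective, Ideal.mk_ker,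
        sup_eq_left.2 ((Ideal.span_singleton_le_iff_mem P).2 haP),
        show ({Ideal.Quotient.mk (Ideal.span {algebraMap A (Chart a) a}) s} : Set _) =
          Ideal.Quotient.mk (Ideal.span {algebraMap A (Chart a) a}) '' {s} from (Set.image_singleton).symm,
        ← Ideal.map_span, Ideal.comap_map_of_surjective' _ Ideal.Quotient.mk_surjective, Ideal.mk_ker,
        ← Ideal.span_union, Set.singleton_union, Set.pair_comm] at h1
      exact h1
    refine ⟨θ s, ?_⟩
    rw [← hmax, hPs, Ideal.map_span, Set.image_pair, hθa]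
  · have key : ∀ {x : A} (α β : A), x = α * a + β * a' →
        φ x = φ a * θ (algebraMap A (Chart a) α + algebraMap A (Chart a) β * hp.T) := by
      intro x α β hx'
      subst hx'
      have hT : algebraMap A (Chart a) a * hp.T = algebraMap A (Chart a) a' := by
        refine Subtype.ext ?_
        rw [MulMemClass.coe_mul, Param.T, Groth.BlowUpBasics.coe_frac, mul_comm]
        exact IsLocalization.mk'_spec _ _ _
      rw [← hθa (α * a + β * a'), ← hθa a, ← map_mul]
      congr 1
      rw [map_add, map_mul, map_mul, ← hT]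
      ring
    have key' : ∀ {x y : A}, Param hdim x y → ∀ α β : A, x = α * a + β * a' →
        ¬ IsUnit (θ (algebraMap A (Chart a) α + algebraMap A (Chart a) β * hp.T)) →
        maximalIdeal (W.presheaf.stalk w) = Ideal.span {φ a,
          θ (algebraMap A (Chart a) α + algebraMap A (Chart a) β * hp.T)} := by
      intro x y hxy α β hx' hu
      set L := algebraMap A (Chart a) α + algebraMap A (Chart a) β * hp.T with hL
      have hLP : L ∈ P := by
        by_contra hno
        exact hu (IsLocalization.map_units (W.presheaf.stalk w) (⟨L, hno⟩ : P.primeCompl))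
      have hβ : IsUnit β := by
        by_contra hβ'
        have hβP : algebraMap A (Chart a) β ∈ P := by
          have := Ideal.mem_map_of_mem (algebraMap A (Chart a)) ((mem_maximalIdeal β).2 hβ')
          rw [Groth.BlowUpBasics.map_eq_span hp.mem_left] at this
          exact (Ideal.span_singleton_le_iff_mem P).2 haP this
        have hα : α ∈ maximalIdeal A := hPA α (by
          have := sub_mem hLP (Ideal.mul_mem_right hp.T _ hβP)
          simpa [hL] using this)
        refine hxy.not_mem_sq ?_
        rw [hx', sq]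
        exact add_mem (Ideal.mul_mem_mul hα hp.mem_left) (Ideal.mul_mem_mul ((mem_maximalIdeal β).2 hβ') hp.mem_right)
      obtain ⟨u, rfl⟩ := hβ
      have hPs : P = Ideal.span {algebraMap A (Chart a) a, L} := by
        refine le_antisymm (fun z hz => ?_) (Ideal.span_le.2 (Set.insert_subset_iff.2
          ⟨haP, Set.singleton_subset_iff.2 hLP⟩))
        obtain ⟨g, rfl⟩ := hp.aeval_surjective z
        set c : A := -(↑u⁻¹ * α)
        obtain ⟨q, hq⟩ := Polynomial.X_sub_C_dvd_sub_C_eval (a := c) (p := g)
        have hlin : hp.T - algebraMap A (Chart a) c = algebraMap A (Chart a) ↑u⁻¹ * L := by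
          have hu1 : algebraMap A (Chart a) ↑u⁻¹ * algebraMap A (Chart a) ↑u = 1 := by
            rw [← map_mul, u.inv_mul, map_one]
          simp only [c, hL, map_neg, map_mul]
          linear_combination (-hp.T) * hu1
        have he : Polynomial.aeval hp.T g = algebraMap A (Chart a) (g.eval c) +
            algebraMap A (Chart a) ↑u⁻¹ * L * Polynomial.aeval hp.T q := by
          have := congrArg (Polynomial.aeval hp.T) hq
          simp only [map_sub, map_mul, Polynomial.aeval_C, Polynomial.aeval_X] at this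
          rw [hlin] at this
          linear_combination this
        have hLs : L ∈ Ideal.span {algebraMap A (Chart a) a, L} := Ideal.subset_span (by simp)
        rw [he] at hz ⊢
        refine add_mem ?_ (Ideal.mul_mem_right _ _ (Ideal.mul_mem_left _ _ hLs))
        have hev : g.eval c ∈ maximalIdeal A := hPA _
          ((Submodule.add_mem_iff_left P (Ideal.mul_mem_right _ _ (Ideal.mul_mem_left _ _ hLP))).1 hz)
        have := Ideal.mem_map_of_mem (algebraMap A (Chart a)) hev
        rw [Groth.BlowUpBasics.map_eq_span hp.mem_left] at this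
        exact Ideal.span_mono (Set.singleton_subset_iff.2 (Set.mem_insert _ _)) this
      rw [← hmax, hPs, Ideal.map_span, Set.image_pair, hθa]
    obtain ⟨α, β, hαβ⟩ := Ideal.mem_span_pair.1 (hp.span_eq ▸ hxy.mem_left)
    obtain ⟨γ, δ, hγδ⟩ := Ideal.mem_span_pair.1 (hp.span_eq ▸ hxy.mem_right)
    refine ⟨_, _, key α β hαβ.symm, key γ δ hγδ.symm, ?_, key' hxy α β hαβ.symm,
      key' hxy.symm γ δ hγδ.symm⟩
    obtain ⟨r, s, hrs⟩ := Ideal.mem_span_pair.1 (hxy.span_eq ▸ hp.mem_left)
    have h1 := congrArg φ hrs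
    rw [map_add, map_mul, map_mul, key α β hαβ.symm, key γ δ hγδ.symm] at h1
    set x' := θ (algebraMap A (Chart a) α + algebraMap A (Chart a) β * hp.T)
    set y' := θ (algebraMap A (Chart a) γ + algebraMap A (Chart a) δ * hp.T)
    have h2 : φ r * x' + φ s * y' = 1 := mul_left_cancel₀ hφa (by linear_combination h1)
    rcases IsLocalRing.isUnit_or_isUnit_of_add_one h2 with h3 | h3
    · exact Or.inl (isUnit_of_mul_isUnit_right h3)
    · exact Or.inr (isUnit_of_mul_isUnit_right h3)

/-- Normal crossings are preserved over the centre of a point blow-up. -/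
theorem sncIdeal_blowUp (b : W ⟶ X) (w : W) (hx : IsClosed ({b w} : Set X))
    (hb : BlowUp.IsBlowUp b (Scheme.IdealSheafData.vanishingIdeal ⟨{b w}, hx⟩))
    [IsRegularLocalRing (X.presheaf.stalk (b w))] (hdim : ringKrullDim (X.presheaf.stalk (b w)) = 2)
    (hw : ringKrullDim (W.presheaf.stalk w) = 2) (J : X.IdealSheafData)
    (hJ : SncIdeal (stalkIdeal J (b w))) :
    SncIdeal (stalkIdeal (J.comap b * (Scheme.IdealSheafData.vanishingIdeal ⟨{b w}, hx⟩).comap b) w).radical := by
  obtain ⟨t, hreg, hE, ⟨s, hs⟩, hxy⟩ := exists_frame b w hx hb hdim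
  haveI := hreg
  have ht : (Ideal.span {t}).radical = Ideal.span {t} := radical_param (hA := hw) (b := s) ⟨hs⟩
  rw [Groth.PointBlowUp.stalkIdeal_mul, Ideal.radical_mul, hE, ht, Groth.ParaFormal.stalkIdeal_comap]
  have hone : ∀ {x y : X.presheaf.stalk (b w)}, maximalIdeal (X.presheaf.stalk (b w)) = Ideal.span {x, y} →
      (Ideal.span {b.stalkMap w x}).radical = Ideal.span {t} ∨
        ∃ x', maximalIdeal (W.presheaf.stalk w) = Ideal.span {t, x'} ∧
          (Ideal.span {b.stalkMap w x}).radical = Ideal.span {t * x'} := by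
    intro x y hm
    obtain ⟨x', y', hx', -, -, hx'm, -⟩ := hxy x y ⟨hm⟩
    rw [hx']
    by_cases hu : IsUnit x'
    · exact Or.inl (by rw [Ideal.span_singleton_mul_right_unit hu, ht])
    · exact Or.inr ⟨x', hx'm hu, radical_param_mul (hA := hw) ⟨hx'm hu⟩⟩
  rcases hJ with hJ | ⟨x, y, hm, hJ | hJ⟩
  · rw [hJ, Ideal.map_top, Ideal.radical_top, top_inf_eq]
    exact Or.inr ⟨t, s, hs, Or.inl rfl⟩
  · rw [hJ, Ideal.map_span, Set.image_singleton]
    rcases hone hm with h1 | ⟨x', hm', h1⟩
    · exact Or.inr ⟨t, s, hs, Or.inl (h1.symm ▸ inf_idem _)⟩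
    · refine Or.inr ⟨t, x', hm', Or.inr ?_⟩
      exact h1.symm ▸ inf_eq_left.2 (Ideal.span_singleton_le_span_singleton.2 (dvd_mul_right t x'))
  · rw [hJ, Ideal.map_span, Set.image_singleton]
    obtain ⟨x', y', hx', hy', hor, hx'm, hy'm⟩ := hxy x y ⟨hm⟩
    erw [map_mul]
    rw [← Ideal.span_singleton_mul_span_singleton, Ideal.radical_mul]
    have hle : ∀ z, (Ideal.span {t * z} : Ideal (W.presheaf.stalk w)) ≤ Ideal.span {t} := fun z =>
      Ideal.span_singleton_le_span_singleton.2 (dvd_mul_right t z)
    rw [hx', hy']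
    rcases hor with hu | hu
    · rw [Ideal.span_singleton_mul_right_unit hu, ht]
      by_cases hu' : IsUnit y'
      · rw [Ideal.span_singleton_mul_right_unit hu', ht, inf_idem, inf_idem]
        exact Or.inr ⟨t, s, hs, Or.inl rfl⟩
      · rw [radical_param_mul (hA := hw) ⟨hy'm hu'⟩, inf_eq_right.2 (hle y'), inf_eq_left.2 (hle y')]
        exact Or.inr ⟨t, y', hy'm hu', Or.inr rfl⟩
    · rw [Ideal.span_singleton_mul_right_unit hu, ht]
      by_cases hu' : IsUnit x'
      · rw [Ideal.span_singleton_mul_right_unit hu', ht, inf_idem, inf_idem]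
        exact Or.inr ⟨t, s, hs, Or.inl rfl⟩
      · rw [radical_param_mul (hA := hw) ⟨hx'm hu'⟩, inf_eq_left.2 (hle x'), inf_eq_left.2 (hle x')]
        exact Or.inr ⟨t, x', hx'm hu', Or.inr rfl⟩

/-- A curve crossing a normal crossings ideal transversally meets only the exceptional line above the
centre, and transversally. -/
theorem transversal_blowUp (b : W ⟶ X) (w : W) (hx : IsClosed ({b w} : Set X))
    (hb : BlowUp.IsBlowUp b (Scheme.IdealSheafData.vanishingIdeal ⟨{b w}, hx⟩))
    [IsRegularLocalRing (X.presheaf.stalk (b w))] (hdim : ringKrullDim (X.presheaf.stalk (b w)) = 2)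
    (J : X.IdealSheafData) (hJ : SncIdeal (stalkIdeal J (b w)))
    {B : Type u} [CommRing B] [IsDomain B] [IsNoetherianRing B] [IsLocalRing B]
    (ψ : W.presheaf.stalk w →+* B) [IsLocalHom ψ] (hB : maximalIdeal B ≠ ⊥)
    (hψ : (stalkIdeal ((Scheme.IdealSheafData.vanishingIdeal ⟨{b w}, hx⟩).comap b) w).map ψ = maximalIdeal B)
    (hJB : maximalIdeal B ≤ ((stalkIdeal J (b w)).map (b.stalkMap w).hom).map ψ) :
    maximalIdeal B ≤
      (stalkIdeal (J.comap b * (Scheme.IdealSheafData.vanishingIdeal ⟨{b w}, hx⟩).comap b) w).radical.map ψ := by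
  obtain ⟨t, hreg, hE, -, hxy⟩ := exists_frame b w hx hb hdim
  rw [Groth.PointBlowUp.stalkIdeal_mul, Ideal.radical_mul, hE, Groth.ParaFormal.stalkIdeal_comap]
  rw [hE, Ideal.map_span, Set.image_singleton] at hψ
  have ht : ψ t ≠ 0 := fun h => hB (by rw [← hψ, h, Ideal.span_singleton_zero])
  suffices h : t ∈ ((stalkIdeal J (b w)).map (b.stalkMap w).hom).radical by
    rw [← hψ, Ideal.span_singleton_le_iff_mem]
    exact Ideal.mem_map_of_mem ψ ⟨h, Ideal.le_radical (Ideal.mem_span_singleton_self t)⟩
  rcases hJ with hJ | ⟨x, y, hm, hJ | hJ⟩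
  · rw [hJ, Ideal.map_top, Ideal.radical_top]; trivial
  · obtain ⟨x', y', hx', -, -, -, -⟩ := hxy x y ⟨hm⟩
    rw [hJ, Ideal.map_span, Set.image_singleton, Ideal.map_span, Set.image_singleton, hx', map_mul, ← hψ,
      Ideal.span_singleton_le_iff_mem, Ideal.mem_span_singleton'] at hJB
    obtain ⟨c, hc⟩ := hJB
    have hu : IsUnit x' := isUnit_of_map_unit ψ x' (IsUnit.of_mul_eq_one_right c
      (mul_left_cancel₀ ht (by linear_combination hc)))
    rw [hJ, Ideal.map_span, Set.image_singleton, hx', Ideal.span_singleton_mul_right_unit hu]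
    exact Ideal.le_radical (Ideal.mem_span_singleton_self t)
  · refine absurd ?_ hB
    refine Submodule.eq_bot_of_le_smul_of_le_jacobson_bot (maximalIdeal B) _ (IsNoetherian.noetherian _)
      ?_ (maximalIdeal_le_jacobson ⊥)
    rw [smul_eq_mul]
    refine hJB.trans ?_
    rw [hJ, ← Ideal.span_singleton_mul_span_singleton, Ideal.map_mul, Ideal.map_mul]
    have h1 : ∀ z ∈ maximalIdeal (X.presheaf.stalk (b w)),
        ((Ideal.span {z}).map (b.stalkMap w).hom).map ψ ≤ maximalIdeal B := fun z hz => by
      rw [Ideal.map_span, Set.image_singleton, Ideal.map_span, Set.image_singleton, Ideal.span_singleton_le_iff_mem]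
      exact map_nonunit ψ _ (map_nonunit (b.stalkMap w).hom _ hz)
    exact Ideal.mul_mono (h1 x (hm ▸ Ideal.subset_span (by simp))) (h1 y (hm ▸ Ideal.subset_span (by simp)))

end BlowUp

end Groth.ResolveSurf.Snc
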