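import Groth.Agent.ResolveSurf.CurvesTransform
import Groth.Agent.ArSurfBasics.CartierPart
import Groth.Agent.ArSurfBasics.Chains
import Groth.Agent.ArSurfBasics.ArithBlowUp
import Groth.Agent.ArSurfBasics.PointRecognition
import Groth.Agent.ArSurfBasics.ExceptionalLine
import Groth.Agent.Duality.PnStalk
import Groth.Agent.Curves1.RR.GenusZeroP1

/-!
# Models of a regular surface obtained by blowing up closed points

Proper birational morphisms of regular surfaces coming from point blow-up sequences, with the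
regularity of the curves they create.
-/

set_option autoImplicit false
set_option backward.isDefEq.respectTransparency.types false
set_option linter.style.haveILetI false

universe u

open CategoryTheory CategoryTheory.Limits AlgebraicGeometry TopologicalSpace

namespace Groth.ResolveSurf.SurfModels

open Groth.ResolveSurf.CurveBU

variable {W Z Y : Scheme.{u}}

/-- An integral Noetherian regular scheme of dimension at most two, not a single point. -/
structure Good (W : Scheme.{u}) : Prop where
  integral : IsIntegral W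
  noeth : AlgebraicGeometry.IsNoetherian W
  regular : ∀ w : W, IsRegularLocalRing (W.presheaf.stalk w)
  dim_le : topologicalKrullDim W ≤ 2
  nontrivial : Nontrivial W

theorem dim_stalk_eq_two [IsIntegral W] (hdim : topologicalKrullDim W ≤ 2) {p z : W} (h : z ⤳ p) (hne : z ≠ p)
    (hz : z ≠ genericPoint W) : ringKrullDim (W.presheaf.stalk p) = 2 :=
  le_antisymm ((Groth.Duality.ringKrullDim_stalk_le p).trans hdim)
    (Groth.ArSurfBasics.CartierPart.two_le_dim_of_chain h hne hz)

/-- A point with a regular curve through it as generic point. -/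
def HasCurve (η : W) : Prop :=
  ∃ (C : Scheme.{u}) (_ : IsIntegral C) (i : C ⟶ W), IsClosedImmersion i ∧
    (∀ c : C, IsRegularLocalRing (C.presheaf.stalk c)) ∧ i (genericPoint C) = η

theorem ne_generic_of_dim_one [IsIntegral W] {η : W} (h : ringKrullDim (W.presheaf.stalk η) = 1) :
    η ≠ genericPoint W := fun e => by
  subst e
  have : ringKrullDim W.functionField = 1 := h
  rw [ringKrullDim_eq_zero_of_field] at this
  norm_num at this

theorem coheight_le_one {C : Scheme.{u}} [IsIntegral W] (hdim : topologicalKrullDim W ≤ 2) (i : C ⟶ W)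
    [IsClosedImmersion i] (hη : genericPoint W ∉ Set.range i) (c : C) : Order.coheight c ≤ 1 := by
  by_contra hlt
  obtain ⟨s, hs, hlen⟩ := Order.exists_series_of_le_coheight c (n := 2) (Order.add_one_le_of_lt (not_le.1 hlt))
  have h01 : s ⟨0, by omega⟩ < s ⟨1, by omega⟩ := s.strictMono (by simp [Fin.lt_def])
  have h12 : s ⟨1, by omega⟩ < s ⟨2, by omega⟩ := s.strictMono (by simp [Fin.lt_def])
  have hmap : ∀ {a b : C}, a < b → i b ⤳ i a ∧ i b ≠ i a := fun {a b} h =>
    ⟨(Scheme.le_iff_specializes.1 h.le).map i.continuous,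
      fun e => h.ne (i.isClosedEmbedding.injective e).symm⟩
  have := Groth.ArSurfBasics.three_le_topologicalKrullDim (genericPoint_specializes (i (s ⟨2, by omega⟩)))
    (fun e => hη ⟨_, e.symm⟩) (hmap h12).1 (hmap h12).2 (hmap h01).1 (hmap h01).2
  exact absurd (this.trans hdim) (by decide)

/-- What a composite of point blow-ups does to curves. -/
def CoverRel (g : W ⟶ Z) : Prop :=
  ∀ η : W, ringKrullDim (W.presheaf.stalk η) = 1 → ¬ IsClosed ({η} : Set W) →
    HasCurve η ∨ (ringKrullDim (Z.presheaf.stalk (g η)) = 1 ∧ ¬ IsClosed ({g η} : Set Z) ∧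
      (∀ η', g η' = g η → η' = η) ∧ (HasCurve (g η) → HasCurve η))

theorem CoverRel.comp {b : W ⟶ Z} {r : Z ⟶ Y} (hb : CoverRel b) (hr : CoverRel r) : CoverRel (b ≫ r) := by
  intro η h1 h2
  rcases hb η h1 h2 with h | ⟨d1, d2, d3, d4⟩
  · exact Or.inl h
  rcases hr (b η) d1 d2 with h | ⟨e1, e2, e3, e4⟩
  · exact Or.inl (d4 h)
  refine Or.inr ⟨e1, e2, fun η' hη' => d3 η' (e3 (b η') hη'), fun h => d4 (e4 h)⟩

/-- A model: a proper birational morphism to a surface from a good surface. -/
structure Model (g : W ⟶ Y) : Prop where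
  good : Good W
  proper : IsProper g
  bir : ∃ V : Y.Opens, (V : Set Y).Nonempty ∧ IsIso (g ∣_ V)
  cover : CoverRel g

theorem generic_of_bir [IsIntegral W] [IsIntegral Y] (g : W ⟶ Y) {V : Y.Opens} (hV : (V : Set Y).Nonempty)
    (h : IsIso (g ∣_ V)) :
    g (genericPoint W) = genericPoint Y ∧ ∀ w, g w = genericPoint Y → w = genericPoint W := by
  haveI := h
  have hη : genericPoint Y ∈ V := ((genericPoint_spec Y).mem_open_set_iff V.2).2 (by simpa using hV)
  obtain ⟨q, hq⟩ := (g ∣_ V).homeomorph.surjective ⟨_, hη⟩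
  have hq' : g q.1 = genericPoint Y := (morphismRestrict_base_coe g V q).symm.trans (congrArg Subtype.val hq)
  have h5 := (genericPoint_specializes q.1).map g.continuous
  rw [hq'] at h5
  have hg := (h5.antisymm (genericPoint_specializes _)).eq
  refine ⟨hg, fun w hw => ?_⟩
  exact congrArg Subtype.val ((g ∣_ V).homeomorph.injective (a₁ := ⟨w, show g w ∈ V from hw ▸ hη⟩)
    (a₂ := ⟨genericPoint W, show g _ ∈ V from hg ▸ hη⟩)
    (Subtype.ext ((morphismRestrict_base_coe g V ⟨w, show g w ∈ V from hw ▸ hη⟩).trans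
      (hw.trans (hg.symm.trans (morphismRestrict_base_coe g V ⟨genericPoint W, show g _ ∈ V from hg ▸ hη⟩).symm)))))

theorem surjective_of_bir [IsIntegral W] [IsIntegral Y] (g : W ⟶ Y) [IsProper g] {V : Y.Opens}
    (hV : (V : Set Y).Nonempty) (h : IsIso (g ∣_ V)) : Function.Surjective g := fun y =>
  ((genericPoint_spec Y).specializes (y := y) trivial).mem_closed g.isClosedMap.isClosed_range
    ⟨_, (generic_of_bir g hV h).1⟩

theorem Model.comp [IsIntegral Y] {b : W ⟶ Z} {r : Z ⟶ Y} (hb : Model b) (hr : Model r) : Model (b ≫ r) := by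
  haveI := hb.proper; haveI := hr.proper; haveI := hb.good.integral; haveI := hr.good.integral
  obtain ⟨V, hV, hVi⟩ := hr.bir
  obtain ⟨U, hU, hUi⟩ := hb.bir
  obtain ⟨hgen, huniq⟩ := generic_of_bir r hV hVi
  let V' : Y.Opens := V ⊓ ⟨(r '' (U : Set Z)ᶜ)ᶜ, (r.isClosedMap _ U.2.isClosed_compl).isOpen_compl⟩
  haveI := hVi; haveI := hUi
  have h1 : IsIso (r ∣_ V') := Groth.ArSurfBasics.Principalization.isIso_restrict_mono r (U := V) inf_le_left
  have h2 : IsIso (b ∣_ (r ⁻¹ᵁ V')) := Groth.ArSurfBasics.Principalization.isIso_restrict_mono b (U := U)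
    fun z hz => by by_contra hno; exact hz.2 ⟨z, hno, rfl⟩
  refine ⟨hb.good, inferInstance, ⟨V', ⟨genericPoint Y,
    ((genericPoint_spec Y).mem_open_set_iff V.2).2 (by simpa using hV), ?_⟩, ?_⟩, hb.cover.comp hr.cover⟩
  · rintro ⟨z, hz, hrz⟩
    rw [huniq z hrz] at hz
    exact hz (((genericPoint_spec Z).mem_open_set_iff U.2).2 (by simpa using hU))
  · rw [morphismRestrict_comp]
    exact IsIso.comp_isIso' h2 h1

theorem dim_stalk_eq_of_isIso (g : W ⟶ Z) (w : W) [IsIso (g.stalkMap w)] :
    ringKrullDim (W.presheaf.stalk w) = ringKrullDim (Z.presheaf.stalk (g w)) :=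
  (ringKrullDim_eq_of_ringEquiv (asIso (g.stalkMap w)).commRingCatIsoToRingEquiv).symm

theorem good_of_iso (hZ : Good Z) (e : W ⟶ Z) [IsIso e] : Good W := by
  haveI := hZ.integral; haveI := hZ.noeth; haveI := hZ.nontrivial
  haveI : Nonempty W := ⟨inv e (genericPoint Z)⟩
  haveI : IsLocallyNoetherian W := LocallyOfFiniteType.isLocallyNoetherian e
  haveI : CompactSpace W := QuasiCompact.compactSpace_of_compactSpace e
  refine ⟨isIntegral_of_isOpenImmersion e, {}, fun w => ?_, ?_, e.homeomorph.toEquiv.nontrivial⟩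
  · haveI := hZ.regular (e w)
    exact IsRegularLocalRing.of_ringEquiv (asIso (e.stalkMap w)).commRingCatIsoToRingEquiv
  · rw [IsHomeomorph.topologicalKrullDim_eq e e.homeomorph.isHomeomorph]
    exact hZ.dim_le

theorem model_of_iso (hZ : Good Z) (e : W ⟶ Z) [IsIso e] : Model e := by
  haveI := hZ.integral; haveI := hZ.nontrivial
  refine ⟨good_of_iso hZ e, inferInstance, ⟨⊤, ⟨genericPoint Z, trivial⟩, inferInstance⟩, fun η h1 h2 => ?_⟩
  refine Or.inr ⟨(dim_stalk_eq_of_isIso e η).symm.trans h1, fun hc => h2 ?_,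
    fun η' h => e.homeomorph.injective h, ?_⟩
  · have := hc.preimage e.continuous
    rwa [show e ⁻¹' {e η} = {η} from Set.ext fun w => ⟨fun h => e.homeomorph.injective h, fun h => congrArg e h⟩] at this
  · rintro ⟨C, hC, i, hi, hreg, hgen⟩
    refine ⟨C, hC, i ≫ inv e, inferInstance, hreg, e.homeomorph.injective ?_⟩
    show e ((i ≫ inv e) (genericPoint C)) = e η
    rw [← Scheme.Hom.comp_apply, Category.assoc, IsIso.inv_hom_id, Category.comp_id, hgen]

/-- A regular curve lifts to the blow-up of a point not containing its generic point. -/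
theorem exists_lift_curve [IsLocallyNoetherian Z] {p : Z} {hp : IsClosed ({p} : Set Z)} {b : W ⟶ Z}
    (hb : BlowUp.IsBlowUp b (ptIdeal p hp)) {C : Scheme.{u}} [IsIntegral C]
    (hreg : ∀ c : C, IsRegularLocalRing (C.presheaf.stalk c)) (hco : ∀ c : C, Order.coheight c ≤ 1)
    (i : C ⟶ Z) [IsClosedImmersion i] (hη : i (genericPoint C) ≠ p) :
    ∃ i' : C ⟶ W, IsClosedImmersion i' ∧ i' ≫ b = i := by
  obtain ⟨C', i', β, hC', hi', -, hcomm, hβ, -⟩ := Groth.ResolveSurf.CurvesTransform.exists_transform hb i hη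
  haveI := hi'
  haveI : IsLocallyNoetherian C := LocallyOfFiniteType.isLocallyNoetherian i
  haveI := Groth.ResolveSurf.CurvesTransform.isIso_of_isEffCartier hβ (isEffCartier_of_ne_bot hreg hco _ fun h0 => by
    have h1 : genericPoint C ∈ ((ptIdeal p hp).comap i).support := by
      rw [h0, Scheme.IdealSheafData.support_bot]; trivial
    rw [← SetLike.mem_coe, Scheme.IdealSheafData.support_comap, Closeds.coe_preimage,
      Scheme.IdealSheafData.coe_support_vanishingIdeal] at h1
    exact hη h1)
  exact ⟨inv β ≫ i', inferInstance, by rw [Category.assoc, ← hcomm, IsIso.inv_hom_id_assoc]⟩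

/-- A blow-up is injective off the exceptional divisor. -/
theorem eq_of_blowUp {p : Z} {hp : IsClosed ({p} : Set Z)} {b : W ⟶ Z}
    (hb : BlowUp.IsBlowUp b (ptIdeal p hp)) {w w' : W} (hw : b w ≠ p) (h : b w = b w') : w = w' := by
  let V : Z.Opens := ⟨{p}ᶜ, hp.isOpen_compl⟩
  haveI := Groth.BlowUpBasics.isIso_morphismRestrict hb V (by
    rw [Scheme.IdealSheafData.coe_support_vanishingIdeal]
    exact Set.disjoint_singleton_left.2 fun h => h rfl)
  exact congrArg Subtype.val ((b ∣_ V).homeomorph.injective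
    (a₁ := ⟨w, show b w ∈ V from hw⟩) (a₂ := ⟨w', show b w' ∈ V from fun e => hw (h.trans e)⟩) (Subtype.ext (by
      exact (morphismRestrict_base_coe b V ⟨w, hw⟩).trans
        (h.trans (morphismRestrict_base_coe b V ⟨w', fun e => hw (h.trans e)⟩).symm))))

theorem isIso_stalkMap_of_ne {p : Z} {hp : IsClosed ({p} : Set Z)} {b : W ⟶ Z}
    (hb : BlowUp.IsBlowUp b (ptIdeal p hp)) (w : W) (hw : b w ≠ p) : IsIso (b.stalkMap w) :=
  Groth.Divisors.isIso_stalkMap_off hb w (by
    rw [← SetLike.mem_coe, Scheme.IdealSheafData.coe_support_vanishingIdeal]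
    exact hw)

theorem model_blowUp_two (hZ : Good Z) {p : Z} (hp : IsClosed ({p} : Set Z)) {b : W ⟶ Z}
    (hb : BlowUp.IsBlowUp b (ptIdeal p hp)) (hd : ringKrullDim (Z.presheaf.stalk p) = 2) : Model b := by
  haveI := hZ.integral; haveI := hZ.noeth; haveI := hZ.nontrivial; haveI := hZ.regular p
  haveI hbp : IsProper b := Groth.HTopHyper.isProper_of_isBlowUp hb (Groth.ResolveSurf.CurvesTransform.fg_ideal _)
  obtain ⟨hW, hgen, hpg, hbiso⟩ := Groth.ArSurfBasics.ArithBlowUp.blowUp_basic hp hd b hb
  haveI := hW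
  haveI : IsLocallyNoetherian W := LocallyOfFiniteType.isLocallyNoetherian b
  haveI : CompactSpace W := QuasiCompact.compactSpace_of_compactSpace b
  have hne : ((⟨{p}ᶜ, hp.isOpen_compl⟩ : Z.Opens) : Set Z).Nonempty := ⟨genericPoint Z, fun e => hpg e.symm⟩
  have hregW := Groth.ArSurfBasics.PointRecognition.isRegularLocalRing_blowUp hp hZ.regular hd b hb
  have hdimW := Groth.ArSurfBasics.ArithBlowUp.dim_blowUp_le hZ.dim_le hp hd b hb
  refine ⟨⟨hW, {}, hregW, hdimW, (surjective_of_bir b hne hbiso).nontrivial⟩, hbp,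
    ⟨_, hne, hbiso⟩, fun η h1 h2 => ?_⟩
  by_cases hbη : b η = p
  · left
    obtain ⟨j, hj, -, hjr, -, -⟩ := Groth.ArSurfBasics.ExcLineGlobal.exists_excLine b hp hb hd
    haveI := hj
    haveI hEint : IsIntegral (CohB1.ProjSpace 1 (IsLocalRing.ResidueField (Z.presheaf.stalk p))) :=
      Groth.Curves1.RR.isIntegral_projSpace _ 1
    refine ⟨_, hEint, j, hj, fun c => Groth.Duality.Pn.isRegularLocalRing_stalk _ _ c, ?_⟩
    obtain ⟨c, hc⟩ : η ∈ Set.range j := hjr ▸ (show η ∈ b ⁻¹' {p} from hbη)
    by_contra hne'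
    have hζ : j (genericPoint _) ≠ genericPoint W := fun e => hpg (by
      have h3 : j (genericPoint _) ∈ b ⁻¹' {p} := hjr ▸ ⟨_, rfl⟩
      rw [e, Set.mem_preimage, hgen] at h3
      exact h3.symm)
    have := dim_stalk_eq_two hdimW ((genericPoint_specializes c).map j.continuous)
      (fun e => hne' (e.trans hc)) hζ
    rw [hc, h1] at this
    norm_num at this
  · haveI := isIso_stalkMap_of_ne hb η hbη
    refine Or.inr ⟨(dim_stalk_eq_of_isIso b η).symm.trans h1, fun hc => h2 ?_,
      fun η' h => (eq_of_blowUp hb hbη h.symm).symm, ?_⟩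
    · have := hc.preimage b.continuous
      rwa [show b ⁻¹' {b η} = {η} from Set.ext fun w =>
        ⟨fun h => (eq_of_blowUp hb hbη h.symm).symm, fun h => congrArg b h⟩] at this
    · rintro ⟨C, hC, i, hi, hreg, hgenC⟩
      haveI := hi
      have hηg : genericPoint Z ∉ Set.range i := by
        rintro ⟨c, hc⟩
        have h3 := (genericPoint_specializes c).map i.continuous
        rw [hc, hgenC] at h3
        exact ne_generic_of_dim_one ((dim_stalk_eq_of_isIso b η).symm.trans h1)
          (h3.antisymm (genericPoint_specializes _)).eq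
      obtain ⟨i', hi', hi'b⟩ := exists_lift_curve hb hreg (coheight_le_one hZ.dim_le i hηg) i (hgenC ▸ hbη)
      refine ⟨C, hC, i', hi', hreg, (eq_of_blowUp hb hbη ?_).symm⟩
      rw [← Scheme.Hom.comp_apply, hi'b, hgenC]

/-- A point blow-up of a good surface is a model. -/
theorem model_blowUp (hZ : Good Z) {p : Z} (hp : IsClosed ({p} : Set Z)) {b : W ⟶ Z}
    (hb : BlowUp.IsBlowUp b (ptIdeal p hp)) : Model b := by
  haveI := hZ.integral; haveI := hZ.noeth; haveI := hZ.nontrivial
  by_cases hd : ringKrullDim (Z.presheaf.stalk p) < 2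
  · have hpg : p ≠ genericPoint Z := fun e => by
      subst e
      obtain ⟨a, ha⟩ := exists_ne (genericPoint Z)
      exact ha ((genericPoint_specializes a).mem_closed hp rfl)
    have hI : BlowUp.IsEffCartierIdeal (ptIdeal p hp) := by
      have h := Groth.ArSurfBasics.CartierPart.isEffCartierIdeal_prime hZ.regular hpg hd
      rwa [show (⟨closure {p}, isClosed_closure⟩ : Closeds Z) = ⟨{p}, hp⟩ from Closeds.ext hp.closure_eq] at h
    haveI := Groth.ResolveSurf.CurvesTransform.isIso_of_isEffCartier hb hI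
    exact model_of_iso hZ b
  · exact model_blowUp_two hZ hp hb
      (le_antisymm ((Groth.Duality.ringKrullDim_stalk_le p).trans hZ.dim_le) (not_lt.1 hd))

/-- Point blow-up sequences of good surfaces are models. -/
theorem model_of_seq {g : W ⟶ Y} (hg : Resolve.IsPtBlowupSeq g) : Good Y → Model g := by
  induction hg with
  | @iso W Y e => exact fun hY => model_of_iso hY e.hom
  | @step W Z Y b r z hz hb hr ih =>
    intro hY
    haveI := hY.integral
    exact (model_blowUp (ih hY).good hz hb).comp (ih hY)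

theorem ptSeq_of_contractionSeq {g : W ⟶ Y} (hg : Models.IsContractionSeq g) : Resolve.IsPtBlowupSeq g := by
  induction hg with
  | @iso W Y e => exact .iso e
  | @step W Z Y E ι b r hι hE hb hr ih =>
    obtain ⟨-, -, y, hy, -, -, -, hbl⟩ := hb
    exact .step b r y hy hbl ih

end Groth.ResolveSurf.SurfModels
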