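import Groth.Agent.ResolveSurf.SncLocal
import Groth.Agent.ResolveSurf.SurfaceModels
import Groth.Agent.Calg6.ClosedImmStalk

/-!
# Reaching normal crossings by point blow-ups

A Cartier ideal whose curves are regular becomes supported on normal crossings after separating the
curves by point blow-ups.
-/

set_option autoImplicit false
set_option backward.isDefEq.respectTransparency.types false
set_option linter.style.haveILetI false

universe u

open CategoryTheory CategoryTheory.Limits AlgebraicGeometry TopologicalSpace IsLocalRing IntMult Groth.PointBlowUp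

namespace Groth.ResolveSurf.Snc

open Groth.ResolveSurf.CurveBU Groth.ResolveSurf.SurfModels

theorem SncIdeal.map {A B : Type u} [CommRing A] [CommRing B] [IsLocalRing A] [IsLocalRing B] (e : A ≃+* B)
    {I : Ideal A} (h : SncIdeal I) : SncIdeal (I.map (e : A →+* B)) := by
  rcases h with rfl | ⟨x, y, hm, hI⟩
  · exact Or.inl (Ideal.map_top _)
  · refine Or.inr ⟨e x, e y, ?_, hI.imp (fun h => ?_) fun h => ?_⟩
    · have hmax : ((maximalIdeal A).map (e : A →+* B)).IsMaximal :=
        Ideal.map_isMaximal_of_equiv e (p := maximalIdeal A)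
      rw [← IsLocalRing.eq_maximalIdeal hmax, hm,
        Ideal.map_span, Set.image_pair]
      rfl
    · rw [h, Ideal.map_span, Set.image_singleton]; rfl
    · rw [h, Ideal.map_span, Set.image_singleton, map_mul]; rfl

variable {W Z : Scheme.{u}}

/-- The reduced ideal of a closed set. -/
noncomputable abbrev redIdeal (D : Closeds W) : W.IdealSheafData := Scheme.IdealSheafData.vanishingIdeal D

theorem support_redIdeal (D : Closeds W) : (redIdeal D).support = D :=
  Closeds.ext (Scheme.IdealSheafData.coe_support_vanishingIdeal D)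

theorem stalkIdeal_redIdeal_eq_top {D : Closeds W} {w : W} (h : w ∉ D) : stalkIdeal (redIdeal D) w = ⊤ :=
  (Groth.ArSurfBasics.Principalization.stalkIdeal_eq_top_iff _ _).2 (by rwa [support_redIdeal])

theorem stalkIdeal_redIdeal_ne_top {D : Closeds W} {w : W} (h : w ∈ D) : stalkIdeal (redIdeal D) w ≠ ⊤ :=
  fun e => ((Groth.ArSurfBasics.Principalization.stalkIdeal_eq_top_iff _ _).1 e) (by rwa [support_redIdeal])

theorem maximalIdeal_ne_bot {C : Scheme.{u}} [IsIntegral C] {c : C} (hc : IsClosed ({c} : Set C))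
    (hne : c ≠ genericPoint C) : maximalIdeal (C.presheaf.stalk c) ≠ ⊥ := fun h0 => by
  have h1 := Groth.ParaFormal.stalkIdeal_spec (redIdeal ⟨{c}, hc⟩) (genericPoint_specializes c)
  rw [Groth.ArSurfBasics.FactorBlowUp.stalkIdeal_vanishingIdeal hc, h0, Ideal.map_bot,
    stalkIdeal_redIdeal_eq_top (show genericPoint C ∉ (⟨{c}, hc⟩ : Closeds C) from fun e => hne e.symm)] at h1
  exact bot_ne_top h1

/-- The invariant: the exceptional set is a normal crossings divisor transversal to the curves. -/
structure Inv (J : Z.IdealSheafData) {n : ℕ} (C : Fin n → Scheme.{u}) (W : Scheme.{u}) (g : W ⟶ Z)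
    (i : ∀ k, C k ⟶ W) : Prop where
  model : Model g
  cartier : BlowUp.IsEffCartierIdeal (J.comap g)
  exc : ∃ D : Closeds W,
    (∀ w, ringKrullDim (W.presheaf.stalk w) = 2 → SncIdeal (stalkIdeal (redIdeal D) w)) ∧
    (∀ k (c : C k), maximalIdeal ((C k).presheaf.stalk c) ≤ stalkIdeal ((redIdeal D).comap (i k)) c) ∧
    (∀ w ∈ D, g w ∈ J.support) ∧ (∀ k c, g (i k c) ∈ J.support) ∧
    ∀ w, g w ∈ J.support → w ∈ D ∨ (∃ k, w ∈ Set.range (i k)) ∨
      (IsClosed ({w} : Set W) ∧ ringKrullDim (W.presheaf.stalk w) = 1)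

/-- The invariant survives blowing up a point on the curves. -/
theorem Inv.step [IsIntegral Z] {J : Z.IdealSheafData} {n : ℕ} {C : Fin n → Scheme.{u}} [∀ k, IsIntegral (C k)]
    {W : Scheme.{u}} [IsIntegral W] {g : W ⟶ Z} {i : ∀ k, C k ⟶ W} [∀ k, IsClosedImmersion (i k)] (h : Inv J C W g i)
    (k₀ : Fin n) (z : C k₀) (hp : IsClosed ({i k₀ z} : Set W))
    (hη : ∀ k, i k (genericPoint (C k)) ≠ i k₀ z) (hgW : ∀ k, genericPoint W ∉ Set.range (i k))
    {W' : Scheme.{u}} {b : W' ⟶ W} (hb : BlowUp.IsBlowUp b (ptIdeal (i k₀ z) hp)) (i' : ∀ k, C k ⟶ W')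
    [∀ k, IsClosedImmersion (i' k)] (hib : ∀ k, i' k ≫ b = i k) : Inv J C W' (b ≫ g) i' := by
  obtain ⟨D, hsnc, htr, hD, hC, hcov⟩ := h.exc
  have hG := h.model.good
  haveI := hG.noeth
  set p := i k₀ z with hpdef
  have hd : ringKrullDim (W.presheaf.stalk p) = 2 :=
    dim_stalk_eq_two hG.dim_le ((genericPoint_specializes z).map (i k₀).continuous) (hη k₀)
      fun e => hgW k₀ ⟨_, e⟩
  haveI := hG.regular p
  have hM := model_blowUp hG hp hb
  haveI := hM.good.integral; haveI := hM.good.noeth; haveI := hM.proper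
  let E := (ptIdeal p hp).comap b
  let D' : Closeds W' := ((redIdeal D).comap b * E).support
  have hD' : ∀ w, w ∈ D' ↔ b w ∈ D ∨ b w = p := fun w => by
    show w ∈ ((redIdeal D).comap b * E).support ↔ _
    rw [Scheme.IdealSheafData.support_mul, ← SetLike.mem_coe, Closeds.coe_sup, Set.mem_union,
      Scheme.IdealSheafData.support_comap, Scheme.IdealSheafData.support_comap, Closeds.coe_preimage,
      Closeds.coe_preimage, support_redIdeal, Scheme.IdealSheafData.coe_support_vanishingIdeal]
    rfl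
  have hstalk : ∀ w, stalkIdeal (redIdeal D') w = (stalkIdeal ((redIdeal D).comap b * E) w).radical :=
    fun w => stalkIdeal_vanishing_support _ w
  have hEtop : ∀ w, b w ≠ p → stalkIdeal E w = ⊤ := fun w hw => by
    rw [Groth.ArSurfBasics.Principalization.stalkIdeal_eq_top_iff, ← SetLike.mem_coe,
      Scheme.IdealSheafData.support_comap, Closeds.coe_preimage, Scheme.IdealSheafData.coe_support_vanishingIdeal]
    exact hw
  have hoff : ∀ w, b w ≠ p →
      stalkIdeal (redIdeal D') w = ((stalkIdeal (redIdeal D) (b w)).map (b.stalkMap w).hom).radical := fun w hw => by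
    rw [hstalk, Groth.PointBlowUp.stalkIdeal_mul, hEtop w hw, Ideal.mul_top, Groth.ParaFormal.stalkIdeal_comap]
  refine ⟨hM.comp h.model, ?_, D', fun w hw => ?_, fun k c => ?_, fun w hw => ?_, fun k c => ?_, fun w hw => ?_⟩
  · rw [Scheme.IdealSheafData.comap_comp]
    exact Groth.Divisors.isEffCartierIdeal_comap_blowUp hb h.cartier
  · haveI := hM.good.regular w
    by_cases hwp : b w = p
    · haveI := hG.regular (b w)
      have hsJ := hsnc (b w) (hwp.symm ▸ hd)
      have hd' : ringKrullDim (W.presheaf.stalk (b w)) = 2 := hwp.symm ▸ hd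
      have hcl' : IsClosed ({b w} : Set W) := by rw [hwp]; exact hp
      have hK : Scheme.IdealSheafData.vanishingIdeal (⟨{b w}, hcl'⟩ : Closeds W) = ptIdeal p hp :=
        congrArg _ (Closeds.ext (congrArg (fun v : W => ({v} : Set W)) hwp))
      have h1 := sncIdeal_blowUp b w hcl' (hK ▸ hb) hd' hw (redIdeal D) hsJ
      rw [hK] at h1
      rw [hstalk]
      exact h1
    · haveI := isIso_stalkMap_of_ne hb w hwp
      haveI := hG.regular (b w)
      let e := (asIso (b.stalkMap w)).commRingCatIsoToRingEquiv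
      have hmap := SncIdeal.map e (hsnc (b w) ((dim_stalk_eq_of_isIso b w).symm.trans hw))
      rw [hoff w hwp]
      exact (sncIdeal_radical hw hmap).symm ▸ hmap
  · by_cases hcp : b (i' k c) = p
    · haveI := hG.regular (b (i' k c))
      have hic : i k c = b (i' k c) := by rw [← hib k, Scheme.Hom.comp_apply]
      have hsJ := hsnc (b (i' k c)) (hcp.symm ▸ hd)
      have hcl : IsClosed ({c} : Set (C k)) := by
        rw [show ({c} : Set (C k)) = i k ⁻¹' {p} from Set.ext fun d =>
          ⟨fun hd => (congrArg (i k) hd).trans (hic.trans hcp),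
            fun hd => (i k).isClosedEmbedding.injective (hd.trans (hic.trans hcp).symm)⟩]
        exact hp.preimage (i k).continuous
      have hB : maximalIdeal ((C k).presheaf.stalk c) ≠ ⊥ :=
        maximalIdeal_ne_bot hcl fun e => hη k (e ▸ hic.trans hcp)
      haveI : IsLocallyNoetherian (C k) := LocallyOfFiniteType.isLocallyNoetherian (i k)
      have h1 : (stalkIdeal E (i' k c)).map ((i' k).stalkMap c).hom = maximalIdeal _ := by
        rw [← Groth.ParaFormal.stalkIdeal_comap, ← Scheme.IdealSheafData.comap_comp, hib]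
        have : p = i k c := (hic.trans hcp).symm
        clear_value p
        subst this
        rw [Groth.ResolveSurf.CurvesTransform.comap_ptIdeal (i k) hcl hp]
        exact Groth.ArSurfBasics.FactorBlowUp.stalkIdeal_vanishingIdeal hcl
      have h2 : maximalIdeal ((C k).presheaf.stalk c) ≤
          ((stalkIdeal (redIdeal D) (b (i' k c))).map (b.stalkMap (i' k c)).hom).map ((i' k).stalkMap c).hom := by
        refine (htr k c).trans (le_of_eq ?_)
        rw [← hib k, Scheme.IdealSheafData.comap_comp, Groth.ParaFormal.stalkIdeal_comap,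
          Groth.ParaFormal.stalkIdeal_comap]
      have hd' : ringKrullDim (W.presheaf.stalk (b (i' k c))) = 2 := hcp.symm ▸ hd
      rw [Groth.ParaFormal.stalkIdeal_comap, hstalk]
      have hcl' : IsClosed ({b (i' k c)} : Set W) := by rw [hcp]; exact hp
      have hK : Scheme.IdealSheafData.vanishingIdeal (⟨{b (i' k c)}, hcl'⟩ : Closeds W) = ptIdeal p hp :=
        congrArg _ (Closeds.ext (congrArg (fun v : W => ({v} : Set W)) hcp))
      have h3 := transversal_blowUp b (i' k c) hcl' (hK ▸ hb) hd' (redIdeal D) hsJ ((i' k).stalkMap c).hom hB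
        (by rw [hK]; exact h1) h2
      rw [hK] at h3
      exact h3
    · refine (htr k c).trans ?_
      rw [← hib k, Scheme.IdealSheafData.comap_comp, Groth.ParaFormal.stalkIdeal_comap,
        Groth.ParaFormal.stalkIdeal_comap, Groth.ParaFormal.stalkIdeal_comap]
      exact Ideal.map_mono ((hoff _ hcp).symm ▸ Ideal.le_radical)
  · show g (b w) ∈ J.support
    rcases (hD' w).1 hw with hw | hw
    · exact hD _ hw
    · rw [hw]; exact hC k₀ z
  · show g (b (i' k c)) ∈ J.support
    rw [← Scheme.Hom.comp_apply (i' k) b, hib]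
    exact hC k c
  · by_cases hwp : b w = p
    · exact Or.inl ((hD' w).2 (Or.inr hwp))
    rcases hcov (b w) hw with h1 | ⟨k, c, hc⟩ | ⟨h1, h2⟩
    · exact Or.inl ((hD' w).2 (Or.inl h1))
    · exact Or.inr (Or.inl ⟨k, c, (eq_of_blowUp hb hwp (by rw [← Scheme.Hom.comp_apply (i' k) b, hib, hc])).symm⟩)
    · haveI := isIso_stalkMap_of_ne hb w hwp
      refine Or.inr (Or.inr ⟨?_, (dim_stalk_eq_of_isIso b w).trans h2⟩)
      rw [show ({w} : Set W') = b ⁻¹' {b w} from Set.ext fun v =>
        ⟨fun hv => congrArg b hv, fun hv => (eq_of_blowUp hb hwp (Eq.symm hv)).symm⟩]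
      exact h1.preimage b.continuous

/-- A non-generic point of dimension at most one has dimension one. -/
theorem dim_stalk_eq_one [IsIntegral W] {w : W} (hw : w ≠ genericPoint W)
    (h : ringKrullDim (W.presheaf.stalk w) ≤ 1) : ringKrullDim (W.presheaf.stalk w) = 1 := by
  refine le_antisymm h ?_
  rw [ringKrullDim_stalk_eq_coheight]
  have hlt : w < genericPoint W := lt_iff_le_not_ge.2 ⟨Scheme.le_iff_specializes.2 (genericPoint_specializes w),
    fun h' => hw ((genericPoint_specializes w).antisymm (Scheme.le_iff_specializes.1 h')).eq.symm⟩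
  exact WithBot.coe_le_coe.2 (le_trans le_add_self (Order.coheight_add_one_le hlt))

theorem exists_single {A : Type u} [CommRing A] [IsRegularLocalRing A] (h : ringKrullDim A < 2) :
    ∃ x, maximalIdeal A = Ideal.span {x} := by
  have h1 := (isRegularLocalRing_iff (R := A)).1 inferInstance
  rw [← h1] at h
  have h2 : (maximalIdeal A).spanFinrank < 2 := by exact_mod_cast h
  rcases Nat.le_one_iff_eq_zero_or_eq_one.1 (Nat.lt_succ_iff.1 h2) with h3 | h3
  · rw [Submodule.spanFinrank_eq_zero_iff_eq_bot (IsNoetherian.noetherian _)] at h3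
    exact ⟨0, h3.trans (Submodule.span_zero_singleton _).symm⟩
  · obtain ⟨g, hg⟩ := ((Submodule.spanFinrank_eq_one_iff _).1 h3).1
    exact ⟨g, hg⟩

/-- A point of an effective Cartier divisor lies on one of its curves. -/
theorem exists_gen [IsIntegral Z] [IsLocallyNoetherian Z] (hdimZ : topologicalKrullDim Z ≤ 2)
    {J : Z.IdealSheafData} (hJ : BlowUp.IsEffCartierIdeal J) (hJ0 : J ≠ ⊥) {w : Z}
    (hw : w ∈ J.support) (h1 : ringKrullDim (Z.presheaf.stalk w) ≠ 1) :
    ∃ η, η ∈ J.support ∧ ringKrullDim (Z.presheaf.stalk η) = 1 ∧ η ⤳ w ∧ η ≠ w := by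
  obtain ⟨U, hwU, t, -, htU⟩ := hJ w
  have hstalk : stalkIdeal J w = Ideal.span {Z.presheaf.germ U.1 w hwU t} := by
    rw [Groth.ParaFormal.stalkIdeal_eq J U hwU, show J.ideal U = Ideal.span {t} from htU, Ideal.map_span,
      Set.image_singleton]
  have hne : stalkIdeal J w ≠ ⊤ := fun h =>
    ((Groth.ArSurfBasics.Principalization.stalkIdeal_eq_top_iff J w).1 h) hw
  obtain ⟨P, hP⟩ := Ideal.nonempty_minimalPrimes hne
  haveI := hP.1.1
  haveI : (stalkIdeal J w).IsPrincipal := ⟨⟨_, hstalk⟩⟩
  have hht := Ideal.height_le_one_of_isPrincipal_of_mem_minimalPrimes (stalkIdeal J w) P hP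
  obtain ⟨η, hηw, hηP⟩ := Groth.ParaFormal.exists_spec_comap_eq w P
  have hηJ : η ∈ J.support := by
    by_contra hno
    have h2 := Ideal.map_le_iff_le_comap.2 (hP.1.2.trans hηP.ge)
    rw [Groth.ParaFormal.stalkIdeal_spec,
      (Groth.ArSurfBasics.Principalization.stalkIdeal_eq_top_iff J η).2 hno, top_le_iff] at h2
    exact (maximalIdeal.isMaximal _).ne_top h2
  have hηg : η ≠ genericPoint Z := fun e => Groth.ArSurfBasics.CartierPart.genericPoint_notMem hJ0 (e ▸ hηJ)
  have hne' : η ≠ w := by
    rintro rfl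
    refine h1 (dim_stalk_eq_one hηg ?_)
    rw [TopCat.Presheaf.stalkSpecializes_refl] at hηP
    have hm : maximalIdeal (Z.presheaf.stalk η) = P := (Ideal.comap_id _).symm.trans hηP
    rw [← IsLocalRing.maximalIdeal_height_eq_ringKrullDim, hm]
    exact WithBot.coe_le_coe.2 hht
  refine ⟨η, hηJ, dim_stalk_eq_one hηg ?_, hηw, hne'⟩
  have hfin : Order.coheight w < ⊤ := by
    have h2 := (Groth.Duality.ringKrullDim_stalk_le w).trans hdimZ
    rw [ringKrullDim_stalk_eq_coheight] at h2
    exact lt_of_le_of_lt (WithBot.coe_le_coe.1 h2) (ENat.natCast_lt_top 2)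
  have h3 := Groth.ArSurfBasics.CartierPart.coheight_lt hηw hne' hfin
  have h4 := (Groth.Duality.ringKrullDim_stalk_le w).trans hdimZ
  rw [ringKrullDim_stalk_eq_coheight] at h4 ⊢
  exact WithBot.coe_le_coe.2 (Order.le_of_lt_succ (lt_of_lt_of_le h3 (WithBot.coe_le_coe.1 h4)))

/-- Separating the curves of a Cartier ideal produces normal crossings. -/
theorem exists_snc (hZ : Good Z) (J : Z.IdealSheafData) (hJ : BlowUp.IsEffCartierIdeal J) (hJ0 : J ≠ ⊥)
    (hcurve : ∀ η ∈ J.support, ringKrullDim (Z.presheaf.stalk η) = 1 → ¬ IsClosed ({η} : Set Z) → HasCurve η) :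
    ∃ (W : Scheme.{u}) (g : W ⟶ Z), Model g ∧ BlowUp.IsEffCartierIdeal (J.comap g) ∧
      ∀ q ∈ (J.comap g).support,
        (ringKrullDim (W.presheaf.stalk q) = 1 ∧ ∃ x, maximalIdeal (W.presheaf.stalk q) = Ideal.span {x} ∧
          (stalkIdeal (J.comap g) q).radical = Ideal.span {x}) ∨
        (ringKrullDim (W.presheaf.stalk q) = 2 ∧ ∃ x y, maximalIdeal (W.presheaf.stalk q) = Ideal.span {x, y} ∧
          ((stalkIdeal (J.comap g) q).radical = Ideal.span {x} ∨
            (stalkIdeal (J.comap g) q).radical = Ideal.span {x * y})) := by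
  classical
  haveI := hZ.integral; haveI := hZ.noeth; haveI := hZ.nontrivial
  let S := {η : Z | η ∈ J.support ∧ ringKrullDim (Z.presheaf.stalk η) = 1 ∧ ¬ IsClosed ({η} : Set Z)}
  have hSfin : S.Finite := (Groth.ArSurfBasics.CartierPart.finite_bad hJ0).subset fun η hη =>
    ⟨hη.1, by rw [hη.2.1]; norm_num⟩
  obtain ⟨n, e, he, hinj⟩ : ∃ (n : ℕ) (e : Fin n → Z), Set.range e = S ∧ Function.Injective e := by
    obtain ⟨n, e, he⟩ := hSfin.fin_embedding
    exact ⟨n, e, he, e.injective⟩
  have heS : ∀ k, e k ∈ S := fun k => he ▸ ⟨k, rfl⟩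
  choose C hCint i hi hCreg hCgen using fun k => hcurve (e k) (heS k).1 (heS k).2.1 (heS k).2.2
  haveI := hCint; haveI := hi
  haveI : ∀ k, AlgebraicGeometry.IsNoetherian (C k) := fun k => by
    haveI : IsLocallyNoetherian (C k) := LocallyOfFiniteType.isLocallyNoetherian (i k)
    haveI : CompactSpace (C k) := QuasiCompact.compactSpace_of_compactSpace (i k)
    exact {}
  have hηnot : ∀ k, genericPoint Z ∉ Set.range (i k) := fun k ⟨c, hc⟩ => by
    have h3 := (genericPoint_specializes c).map (i k).continuous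
    rw [hc, hCgen] at h3
    exact ne_generic_of_dim_one (heS k).2.1 (h3.antisymm (genericPoint_specializes _)).eq
  have hnc : ∀ k, ¬ IsClosed ({genericPoint (C k)} : Set (C k)) := fun k hcl => (heS k).2.2 (by
    rw [← hCgen k, ← Set.image_singleton]
    exact (i k).isClosedMap _ hcl)
  have hψ : ∀ j k, j ≠ k → ¬ i j (genericPoint (C j)) ⤳ i k (genericPoint (C k)) := fun j k hjk hsp => by
    rw [hCgen, hCgen] at hsp
    refine (Groth.ArSurfBasics.CartierPart.two_le_dim_of_chain hsp (fun e => hjk (hinj e))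
      (ne_generic_of_dim_one (heS j).2.1)).not_gt ?_
    rw [(heS k).2.1]; norm_num
  have hsub : ∀ k c, i k c ∈ J.support := fun k c =>
    (((genericPoint_specializes c).map (i k).continuous).mem_closed J.support.isClosed (hCgen k ▸ (heS k).1))
  have h0 : Inv J C Z (𝟙 Z) i := by
    refine ⟨model_of_seq (Resolve.IsPtBlowupSeq.iso (Iso.refl Z)) hZ, by rwa [Scheme.IdealSheafData.comap_id],
      ⊥, fun w _ => Or.inl (stalkIdeal_redIdeal_eq_top fun h => h), fun k c => ?_, fun w hw => hw.elim,
      hsub, fun w hw => ?_⟩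
    · rw [(Groth.ArSurfBasics.Principalization.stalkIdeal_eq_top_iff _ _).2]
      · exact le_top
      · rw [← SetLike.mem_coe, Scheme.IdealSheafData.support_comap, Closeds.coe_preimage, support_redIdeal]
        exact fun h => h
    · have hw' : w ∈ J.support := hw
      have hwg : w ≠ genericPoint Z := fun e =>
        Groth.ArSurfBasics.CartierPart.genericPoint_notMem hJ0 (e ▸ hw')
      refine Or.inr ?_
      by_cases h1 : ringKrullDim (Z.presheaf.stalk w) = 1
      · by_cases h2 : IsClosed ({w} : Set Z)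
        · exact Or.inr ⟨h2, h1⟩
        · obtain ⟨k, hk⟩ := he.ge (show w ∈ S from ⟨hw', h1, h2⟩)
          exact Or.inl ⟨k, genericPoint (C k), (hCgen k).trans hk⟩
      · -- a closed point of codimension two lies on one of the curves
        obtain ⟨η, hηJ, hη1, hηw, hne⟩ := exists_gen hZ.dim_le hJ hJ0 hw' h1
        obtain ⟨k, hk⟩ := he.ge (show η ∈ S from ⟨hηJ, hη1, fun hc => hne (hηw.mem_closed hc rfl).symm⟩)
        exact Or.inl ⟨k, (hCgen k ▸ hk.symm ▸ hηw).mem_closed (i k).isClosedEmbedding.isClosed_range ⟨_, rfl⟩⟩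
  obtain ⟨W, g, -, i', hP, hi'⟩ := Groth.ResolveSurf.CurvesTransform.exists_disjoint_inv C hCreg
    (fun k => coheight_le_one hZ.dim_le (i k) (hηnot k)) hnc i hψ Z (𝟙 Z)
    (Resolve.IsPtBlowupSeq.iso (Iso.refl Z)) i (fun k => Category.comp_id _)
    (fun W g i' => Inv J C W g i' ∧ ∀ k, i' k ≫ g = i k) ⟨h0, fun k => Category.comp_id _⟩
    fun W g i' _ _ hPW k₀ z hp _ hη W' b hb i'' hi'' hib => by
      haveI := hi''
      haveI := hPW.1.model.good.integral
      obtain ⟨V, hV, hVi⟩ := hPW.1.model.bir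
      refine ⟨hPW.1.step k₀ z hp hη (fun k ⟨c, hc⟩ => hηnot k ⟨c, ?_⟩) hb i'' hib,
        fun k => by rw [← Category.assoc, hib, hPW.2]⟩
      rw [← hPW.2 k, Scheme.Hom.comp_apply, hc, (generic_of_bir g hV hVi).1]
  obtain ⟨⟨hM, hcar, D, hsnc, htr, hD, hC, hcov⟩, hig⟩ := hP
  haveI := hM.good.integral; haveI := hM.good.noeth
  haveI : ∀ k, IsClosedImmersion (i' k) := fun k => (hi' k).1
  obtain ⟨V, hV, hVi⟩ := hM.bir
  obtain ⟨hgen, -⟩ := generic_of_bir g hV hVi
  refine ⟨W, g, hM, hcar, fun q hq => ?_⟩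
  have hsupp : ∀ w, w ∈ (J.comap g).support ↔ g w ∈ J.support := fun w => by
    rw [← SetLike.mem_coe, Scheme.IdealSheafData.support_comap, Closeds.coe_preimage]
    rfl
  haveI := hM.good.regular q
  haveI : IsDomain (W.presheaf.stalk q) := Groth.Ega4Algebra1.isDomain_of_isRegularLocalRing _
  have hJW : J.comap g ≠ ⊥ := fun h0 => by
    have h1 : genericPoint W ∈ (J.comap g).support := by rw [h0, Scheme.IdealSheafData.support_bot]; trivial
    rw [hsupp, hgen] at h1
    exact Groth.ArSurfBasics.CartierPart.genericPoint_notMem hJ0 h1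
  have hqg : q ≠ genericPoint W := fun e => Groth.ArSurfBasics.CartierPart.genericPoint_notMem hJW (e ▸ hq)
  have hle : stalkIdeal (J.comap g) q ≤ maximalIdeal _ := le_maximalIdeal fun h =>
    ((Groth.ArSurfBasics.Principalization.stalkIdeal_eq_top_iff _ _).1 h) hq
  have hne : stalkIdeal (J.comap g) q ≠ ⊥ := fun h0 => by
    have h1 := Groth.ParaFormal.stalkIdeal_spec (J.comap g) (genericPoint_specializes q)
    rw [h0, Ideal.map_bot, (Groth.ArSurfBasics.Principalization.stalkIdeal_eq_top_iff _ _).2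
      (Groth.ArSurfBasics.CartierPart.genericPoint_notMem hJW)] at h1
    exact bot_ne_top h1
  by_cases hdq : ringKrullDim (W.presheaf.stalk q) < 2
  · refine Or.inl ?_
    obtain ⟨x, hx⟩ : ∃ x, maximalIdeal (W.presheaf.stalk q) = Ideal.span {x} := by
      exact exists_single hdq
    have hm0 : maximalIdeal (W.presheaf.stalk q) ≠ ⊥ := fun h0 => hne (le_bot_iff.1 (hle.trans h0.le))
    haveI : (maximalIdeal (W.presheaf.stalk q)).IsPrincipal := ⟨⟨x, hx⟩⟩
    haveI : IsPrincipalIdealRing (W.presheaf.stalk q) :=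
      ((tfae_of_isNoetherianRing_of_isLocalRing_of_isDomain (R := W.presheaf.stalk q)).out 4 0).1 ‹_›
    refine ⟨?_, x, hx, ?_⟩
    · have h1 := (isRegularLocalRing_iff (R := W.presheaf.stalk q)).1 inferInstance
      rw [← h1, show (maximalIdeal (W.presheaf.stalk q)).spanFinrank = 1 from
        (Submodule.spanFinrank_eq_one_iff _).2 ⟨⟨x, hx⟩, hm0⟩]
      rfl
    · rw [← hx]
      refine le_antisymm ((maximalIdeal.isMaximal _).isPrime.radical_le_iff.2 hle) ?_
      rw [(stalkIdeal (J.comap g) q).radical_eq_sInf]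
      refine le_sInf fun P ⟨hP1, hP2⟩ => ?_
      haveI := hP2
      exact (IsLocalRing.eq_maximalIdeal (hP2.isMaximal fun h => hne (le_bot_iff.1 (h ▸ hP1)))).ge
  refine Or.inr ?_
  have hd2 : ringKrullDim (W.presheaf.stalk q) = 2 :=
    le_antisymm ((Groth.Duality.ringKrullDim_stalk_le q).trans hM.good.dim_le) (not_lt.1 hdq)
  have hgen' : ∀ x', x' ⤳ q → g x' ∈ J.support →
      x' ∈ D ∨ ∃ k, x' ∈ Set.range (i' k) ∧ q ∈ Set.range (i' k) := fun x' hx' hxJ => by
    rcases hcov x' hxJ with h1 | ⟨k, hk⟩ | ⟨h1, h2⟩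
    · exact Or.inl h1
    · exact Or.inr ⟨k, hk, hx'.mem_closed (i' k).isClosedEmbedding.isClosed_range hk⟩
    · have : q = x' := hx'.mem_closed h1 rfl
      rw [← this, hd2] at h2
      norm_num at h2
  refine ⟨hd2, ?_⟩
  by_cases hk : ∃ k, q ∈ Set.range (i' k)
  · obtain ⟨k, c, rfl⟩ := hk
    haveI : IsLocallyNoetherian (C k) := LocallyOfFiniteType.isLocallyNoetherian (i' k)
    haveI := hCreg k c
    let ψ := ((i' k).stalkMap c).hom
    have hψs : Function.Surjective ψ := (i' k).stalkMap_surjective c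
    set P := stalkIdeal (i' k).ker (i' k c)
    have hP : RingHom.ker ψ = P := Groth.Calg6.ClosedImmStalk.ker_stalkMap_eq (i' k) c
    haveI : IsDomain ((C k).presheaf.stalk c) := Groth.Ega4Algebra1.isDomain_of_isRegularLocalRing _
    haveI : P.IsPrime := hP ▸ RingHom.ker_isPrime ψ
    have hkd : i' k (genericPoint (C k)) ≠ i' k c := fun e => (heS k).2.2 (by
      haveI := hM.proper
      rw [← hCgen k, ← hig k, Scheme.Hom.comp_apply, e, ← Set.image_singleton]
      exact g.isClosedMap _ (Groth.ArSurfBasics.Factorization.isClosed_of_dim_two hM.good.dim_le hd2.ge))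
    have hcl : IsClosed ({c} : Set (C k)) := by
      have h := Groth.ArSurfBasics.Factorization.isClosed_of_dim_two hM.good.dim_le hd2.ge
      rw [show ({c} : Set (C k)) = i' k ⁻¹' {i' k c} from Set.ext fun d =>
        ⟨fun hd => congrArg (i' k) hd, fun hd => (i' k).isClosedEmbedding.injective hd⟩]
      exact h.preimage (i' k).continuous
    have hB : maximalIdeal ((C k).presheaf.stalk c) ≠ ⊥ :=
      maximalIdeal_ne_bot hcl fun e => hkd (by rw [e])
    -- a parameter cutting out the curve
    have hpar : ∀ y, maximalIdeal ((C k).presheaf.stalk c) = Ideal.span {ψ y} →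
        ∃ x, Param hd2 x y ∧ P = Ideal.span {x} := fun y hy => by
      have hm : maximalIdeal (W.presheaf.stalk (i' k c)) = P ⊔ Ideal.span {y} := by
        have h1 := congrArg (Ideal.comap ψ) hy
        rw [← Set.image_singleton, ← Ideal.map_span, Ideal.comap_map_of_surjective' ψ hψs, hP, sup_comm] at h1
        rw [← h1]
        exact (IsLocalRing.maximalIdeal_comap ψ).symm
      refine exists_param_of_prime hd2 (fun h0 => ?_) (fun h0 => hB ?_) hm
      · rw [h0, bot_sup_eq] at hm
        have h2 := Groth.PointBlowUp.spanFinrank_maximalIdeal (hA := hd2)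
        rw [hm] at h2
        have h3 : (Ideal.span ({y} : Set (W.presheaf.stalk (i' k c)))).spanFinrank ≤
            ({y} : Set (W.presheaf.stalk (i' k c))).ncard :=
          Submodule.spanFinrank_span_le_ncard_of_finite (Set.finite_singleton y)
        simp at h3
        omega
      · rw [hy, Ideal.span_singleton_eq_bot, ← RingHom.mem_ker, hP, h0, hm]
        exact Submodule.mem_sup_right (Ideal.mem_span_singleton_self y)
    have huniq : ∀ k', i' k c ∈ Set.range (i' k') → k' = k := fun k' hk' => by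
      by_contra hne'
      exact Set.disjoint_left.1 ((hi' k).2.2 k' hne') hk' ⟨c, rfl⟩
    by_cases hqD : i' k c ∈ D
    · have hrad : (stalkIdeal (J.comap g) (i' k c)).radical =
          (stalkIdeal (redIdeal D * (i' k).ker) (i' k c)).radical := radical_stalkIdeal_eq fun x' hx' => by
        rw [hsupp, Scheme.IdealSheafData.support_mul, ← SetLike.mem_coe (p := (redIdeal D).support ⊔ (i' k).ker.support),
          Closeds.coe_sup, support_redIdeal, Scheme.Hom.support_ker, Set.mem_union,
          (i' k).isClosedEmbedding.isClosed_range.closure_eq]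
        refine ⟨fun hxJ => ?_, fun h => h.elim (hD x') fun ⟨d, hd⟩ => hd ▸ hC k d⟩
        rcases hgen' x' hx' hxJ with h | ⟨k', hk', hq'⟩
        · exact Or.inl h
        · exact Or.inr (huniq k' hq' ▸ hk')
      rw [hrad, Groth.PointBlowUp.stalkIdeal_mul, Ideal.radical_mul, sncIdeal_radical hd2 (hsnc _ hd2)]
      rcases hsnc _ hd2 with h | ⟨x, y, hm, h | h⟩
      · exact absurd h (stalkIdeal_redIdeal_ne_top hqD)
      · have hy : maximalIdeal ((C k).presheaf.stalk c) = Ideal.span {ψ x} := by
          refine le_antisymm ((htr k c).trans (le_of_eq ?_)) ?_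
          · rw [Groth.ParaFormal.stalkIdeal_comap, h, Ideal.map_span, Set.image_singleton]
          · rw [Ideal.span_singleton_le_iff_mem]
            exact map_nonunit ψ _ (hm ▸ Ideal.subset_span (by simp))
        obtain ⟨z, hz, hPz⟩ := hpar x hy
        refine ⟨z, x, hz.span_eq, Or.inr ?_⟩
        rw [h]
        change _ ⊓ P.radical = _
        rw [hPz, radical_param hz, inf_comm, inf_param hz]
      · exfalso
        refine hB (Submodule.eq_bot_of_le_smul_of_le_jacobson_bot (maximalIdeal ((C k).presheaf.stalk c)) _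
          (IsNoetherian.noetherian _) ?_ (maximalIdeal_le_jacobson ⊥))
        rw [smul_eq_mul]
        refine (htr k c).trans ?_
        rw [Groth.ParaFormal.stalkIdeal_comap, h, ← Ideal.span_singleton_mul_span_singleton, Ideal.map_mul]
        have h1 : ∀ z ∈ maximalIdeal (W.presheaf.stalk (i' k c)),
            (Ideal.span {z}).map ψ ≤ maximalIdeal ((C k).presheaf.stalk c) := fun z hz => by
          rw [Ideal.map_span, Set.image_singleton, Ideal.span_singleton_le_iff_mem]
          exact map_nonunit ψ _ hz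
        exact Ideal.mul_mono (h1 x (hm ▸ Ideal.subset_span (by simp))) (h1 y (hm ▸ Ideal.subset_span (by simp)))
    · have hrad : (stalkIdeal (J.comap g) (i' k c)).radical = (stalkIdeal (i' k).ker (i' k c)).radical :=
        radical_stalkIdeal_eq fun x' hx' => by
          rw [hsupp, ← SetLike.mem_coe (p := (i' k).ker.support), Scheme.Hom.support_ker,
            (i' k).isClosedEmbedding.isClosed_range.closure_eq]
          refine ⟨fun hxJ => ?_, fun ⟨d, hd⟩ => hd ▸ hC k d⟩
          rcases hgen' x' hx' hxJ with h | ⟨k', hk', hq'⟩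
          · exact absurd (hx'.mem_closed D.isClosed h) hqD
          · exact huniq k' hq' ▸ hk'
      obtain ⟨y₀, hy₀⟩ := exists_single (A := (C k).presheaf.stalk c) (by
        rw [ringKrullDim_stalk_eq_coheight]
        exact lt_of_le_of_lt (WithBot.coe_le_coe.2 (coheight_le_one hZ.dim_le (i k) (hηnot k) c))
          (WithBot.coe_lt_coe.2 (by norm_num : (1 : ℕ∞) < 2)))
      obtain ⟨y, rfl⟩ := hψs y₀
      obtain ⟨x, hx, hPx⟩ := hpar y hy₀
      refine ⟨x, y, hx.span_eq, Or.inl ?_⟩
      rw [hrad, ← hPx]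
      exact (inferInstance : P.IsPrime).radical
  · push Not at hk
    have hqD : q ∈ D := by
      rcases hgen' q specializes_rfl ((hsupp q).1 hq) with h | ⟨k, h, -⟩
      · exact h
      · exact absurd h (hk k)
    have hrad : (stalkIdeal (J.comap g) q).radical = (stalkIdeal (redIdeal D) q).radical :=
      radical_stalkIdeal_eq fun x' hx' => by
        rw [hsupp, support_redIdeal]
        refine ⟨fun hxJ => ?_, hD x'⟩
        rcases hgen' x' hx' hxJ with h | ⟨k, -, h⟩
        · exact h
        · exact absurd h (hk k)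
    rw [hrad, sncIdeal_radical hd2 (hsnc q hd2)]
    rcases hsnc q hd2 with h | h
    · exact absurd h (stalkIdeal_redIdeal_ne_top hqD)
    · exact h

end Groth.ResolveSurf.Snc
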