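import Groth.Agent.PicAux.SpreadLocal
import Groth.Agent.PicAux.PushPull
import Groth.Agent.PicAux.PullTensor
import Groth.Agent.PicAux.FibTrivClosed
import Groth.Agent.LimitMod.Modules
import Groth.Agent.PicAux.QCoh

/-!
An invertible module trivial over the local scheme at a point of the base is trivial over a neighbourhood.
-/

set_option autoImplicit false
set_option backward.isDefEq.respectTransparency.types false
universe u

open CategoryTheory CategoryTheory.Limits AlgebraicGeometry TopologicalSpace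
open Groth.Limits Groth.PicAux

namespace Groth.ResolveSurf.SpreadTrivial

variable {X S : Scheme.{u}} (f : X ⟶ S)

/-- Trivial over `Spec O_{S,s}` implies trivial over a neighbourhood of `s`. -/
theorem exists_gen [QuasiCompact f] [QuasiSeparated f] (s : S) (L : X.Modules)
    (hL : PicF.IsInvertible L)
    (h : Nonempty ((Scheme.Modules.pullback (pullback.fst f (S.fromSpecStalk s))).obj L ≅
      Coh.structureModule (pullback f (S.fromSpecStalk s)))) :
    ∃ V : S.Opens, s ∈ V ∧ ∃ e : Γ(L, f ⁻¹ᵁ V), Gen L (f ⁻¹ᵁ V) e := by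
  obtain ⟨_, ⟨W, hW, rfl⟩, hsW, -⟩ :=
    S.isBasis_affineOpens.exists_subset_of_mem_open (Set.mem_univ s) isOpen_univ
  have := nonempty_basicNhd (W := W) hsW
  have hcpt : ∀ V : BasicNhd W s, CompactSpace ((SpreadLocal.preDiagram f W s).obj V) := fun V =>
    isCompact_iff_compactSpace.mp (f.isCompact_preimage (isAffineOpen_nhd hW V).isCompact)
  have hqs : ∀ V : BasicNhd W s, QuasiSeparatedSpace ((SpreadLocal.preDiagram f W s).obj V) := fun V =>
    have := isAffine_nhdDiagram hW V
    have : IsAffine (V.1 : Scheme.{u}) := this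
    have : QuasiSeparated (f ∣_ V.1) := IsZariskiLocalAtTarget.restrict (P := @QuasiSeparated) ‹QuasiSeparated f› V.1
    @quasiSeparatedSpace_of_quasiSeparated _ _ (f ∣_ V.1) inferInstance this
  have haff : ∀ (V V' : BasicNhd W s) (m : V ⟶ V'),
      IsAffineHom ((SpreadLocal.preDiagram f W s).map m) := fun V V' m => by
    have h1 : IsAffineHom (S.homOfLE (leOfHom m)) := isAffineHom_nhdDiagram hW m
    exact MorphismProperty.of_isPullback (P := @IsAffineHom) (IsPullback.of_right
      (h₁₁ := X.homOfLE (f.preimage_mono (leOfHom m))) (v₁₁ := f ∣_ V.1)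
      (h₂₁ := S.homOfLE (leOfHom m))
      (by simpa only [Scheme.homOfLE_ι] using (isPullback_morphismRestrict f V.1).flip)
      (by rw [← cancel_mono V'.1.ι]; simp [morphismRestrict_ι])
      (isPullback_morphismRestrict f V'.1).flip).flip h1
  obtain ⟨hl⟩ := SpreadLocal.nonempty_isLimit f hW hsW
  let i := BasicNhd.top (W := W) hsW
  let c := SpreadLocal.preCone f W s
  let F : ((SpreadLocal.preDiagram f W s).obj i).Modules :=
    (Scheme.Modules.pullback (f ⁻¹ᵁ i.1).ι).obj L
  have hFi : PicF.IsInvertible F := isInvertible_pullback _ hL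
  have : F.IsQuasicoherent := Groth.PicAux.isQCoh_of_isInvertible hFi
  let O : ((SpreadLocal.preDiagram f W s).obj i).Modules := Coh.structureModule _
  have hOi : PicF.IsInvertible O :=
    isInvertible_of_gen_cover (fun _ : Unit => (⊤ : ((SpreadLocal.preDiagram f W s).obj i).Opens))
      (top_le_iff.1 (le_iSup (fun _ : Unit => (⊤ : ((SpreadLocal.preDiagram f W s).obj i).Opens)) ()))
      _ fun _ => gen_oneSec ⊤
  have : O.IsQuasicoherent := Groth.PicAux.isQCoh_of_isInvertible hOi
  obtain ⟨e₀⟩ := pullback_structure_iso (c.π.app i)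
  obtain ⟨j, φ, ⟨E⟩⟩ := Groth.LimitMod.exists_iso_stage hl (Groth.PicAux.FibTrivClosed.isFP_of_isInvertible hFi)
    (Groth.PicAux.FibTrivClosed.isFP_of_isInvertible hOi) ((Scheme.Modules.pullbackComp _ _).app L ≪≫
      (Scheme.Modules.pullbackCongr (SpreadLocal.preCone_π_ι f i)).app L ≪≫ h.some ≪≫ e₀.symm)
  obtain ⟨e₁⟩ := pullback_structure_iso ((SpreadLocal.preDiagram f W s).map φ)
  refine ⟨j.1, j.2.1, exists_gen_of_pullback_iso ⟨?_⟩⟩
  refine (Scheme.Modules.pullbackCongr (show (SpreadLocal.preDiagram f W s).map φ ≫ (f ⁻¹ᵁ i.1).ι =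
    (f ⁻¹ᵁ j.1).ι from X.homOfLE_ι (f.preimage_mono (leOfHom φ)))).symm.app L ≪≫ ((Scheme.Modules.pullbackComp _ _).app L).symm ≪≫
    E ≪≫ e₁

end Groth.ResolveSurf.SpreadTrivial
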